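import Cfsg.Agent.Lib.Invol.EssThree.Irred

/-!
# Groups of degree three over `ZMod p` with Sylow `p`-subgroups of order `p`
-/

set_option autoImplicit false
set_option linter.style.haveILetI false
set_option linter.unusedSectionVars false

namespace Cfsg.Agent.Invol.EssNormal

open Module EssThree

variable {p : ℕ} [hp : Fact p.Prime] {X : Subgroup (GL3 p)} {τ : GL3 p}

/-- A non-normal Sylow subgroup of order `p` gives a strong embedding. -/
theorem emb_of_sylow (hτX : τ ∈ X) (hτp : τ ^ p = 1)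
    (hsyl : ∀ Q ≤ X, IsPGroup p Q → ∃ g ∈ X, ∀ z ∈ Q, g * z * g⁻¹ ∈ Subgroup.zpowers τ)
    (hnn : ∃ g ∈ X, g * τ * g⁻¹ ∉ Subgroup.zpowers τ) :
    Emb p X (X ⊓ Subgroup.normalizer (Subgroup.zpowers τ : Set (GL3 p))) := by
  set P := Subgroup.zpowers τ with hP
  set Y := X ⊓ Subgroup.normalizer (P : Set (GL3 p)) with hY
  obtain ⟨g₀, hg₀, hg₀τ⟩ := hnn
  have hτ1 : τ ≠ 1 := fun h => hg₀τ (by rw [h, mul_one, mul_inv_cancel]; exact one_mem _)
  have hcard : Nat.card P = p := by
    rw [Nat.card_zpowers]; exact (eq_one_or_orderOf hτp).resolve_left hτ1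
  have hPp : IsPGroup p P := IsPGroup.of_card (n := 1) (by rw [hcard, pow_one])
  have hPle : P ≤ X := Subgroup.zpowers_le.2 hτX
  have hPY : P ≤ Y := le_inf hPle Subgroup.le_normalizer
  -- a nontrivial `p`-element of `Y` generates `P`
  have hgen : ∀ z ∈ Y, z ^ p = 1 → z ≠ 1 → Subgroup.zpowers z = P := by
    intro z hz hzp hz1
    have hzP : IsPGroup p (Subgroup.zpowers z) :=
      IsPGroup.of_card (n := 1)
        (by rw [Nat.card_zpowers, (eq_one_or_orderOf hzp).resolve_left hz1, pow_one])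
    have hsup : IsPGroup p (Subgroup.zpowers z ⊔ P : Subgroup (GL3 p)) :=
      IsPGroup.to_sup_of_normal_right' hzP hPp (Subgroup.zpowers_le.2 hz.2)
    have hle : (Subgroup.zpowers z ⊔ P : Subgroup (GL3 p)) ≤ X :=
      sup_le (Subgroup.zpowers_le.2 hz.1) hPle
    obtain ⟨g, -, hgQ⟩ := hsyl _ hle hsup
    have hc : Nat.card (Subgroup.zpowers z ⊔ P : Subgroup (GL3 p)) ≤ Nat.card P := by
      refine Nat.card_le_card_of_injective
        (fun x => (⟨g * x * g⁻¹, hgQ x x.2⟩ : P)) fun a b h => Subtype.ext ?_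
      exact mul_left_cancel (mul_right_cancel (congrArg Subtype.val h))
    have h1 := Subgroup.eq_of_le_of_card_ge (le_sup_right : P ≤ Subgroup.zpowers z ⊔ P) hc
    refine Subgroup.eq_of_le_of_card_ge (le_sup_left.trans h1.ge) ?_
    rw [hcard, Nat.card_zpowers, (eq_one_or_orderOf hzp).resolve_left hz1]
  refine ⟨inf_le_left, fun g hg hgY z hz hzp hgz => ?_, ?_, fun Q hQX hQp z hzQ hzY hzp hz1 => ?_,
    fun Q hQX hQp => ?_⟩
  · by_contra hz1
    refine hgY ⟨hg, ?_⟩
    have hgz1 : g * z * g⁻¹ ≠ 1 := fun h => hz1 (by rwa [mul_inv_eq_one, mul_eq_left] at h)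
    have hgzp : (g * z * g⁻¹) ^ p = 1 := by rw [conj_pow, hzp, mul_one, mul_inv_cancel]
    have e1 := hgen z hz hzp hz1
    have e2 := hgen _ hgz hgzp hgz1
    have hmap : P.map (MulAut.conj g).toMonoidHom = P := by
      conv_lhs => rw [← e1, MonoidHom.map_zpowers]
      exact e2
    refine Subgroup.mem_normalizer_iff.2 ?_
    intro x
    constructor
    · intro hx
      rw [← hmap]
      exact ⟨x, hx, rfl⟩
    · intro hx
      have hx' : g * x * g⁻¹ ∈ P.map (MulAut.conj g).toMonoidHom := hmap.symm ▸ hx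
      obtain ⟨y, hy, hye⟩ := hx'
      have : y = x := mul_left_cancel (mul_right_cancel hye)
      rwa [← this]
  · exact ⟨g₀, hg₀, fun h => hg₀τ
      ((Subgroup.mem_normalizer_iff.1 h.2 τ).1 (Subgroup.mem_zpowers τ))⟩
  · obtain ⟨g, -, hgQ⟩ := hsyl Q hQX hQp
    have e1 := hgen z hzY hzp hz1
    have hc : Nat.card Q ≤ Nat.card (Subgroup.zpowers z) := by
      rw [e1]
      refine Nat.card_le_card_of_injective
        (fun x => (⟨g * x * g⁻¹, hgQ x x.2⟩ : P)) fun a b h => Subtype.ext ?_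
      exact mul_left_cancel (mul_right_cancel (congrArg Subtype.val h))
    rw [← Subgroup.eq_of_le_of_card_ge (Subgroup.zpowers_le.2 hzQ) hc, e1]
    exact hPY
  · obtain ⟨g, hg, hgQ⟩ := hsyl Q hQX hQp
    exact ⟨g, hg, fun z hz => hPY (hgQ z hz)⟩

variable {Y : Subgroup (GL3 p)}

/-- With transvections, a line off the centre is fixed by all transvections, and there is an
inversion centralizing it. -/
theorem fixed_line (hE : Emb p X Y) (hτX : τ ∈ X) (hτ1 : τ ≠ 1) (hτp : τ ^ p = 1)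
    (hN2 : ∀ v, τ (τ v - v) - (τ v - v) = 0) :
    ∃ e l f : V3 p, LinearIndependent (ZMod p) ![e, l, f] ∧ τ e = e + l ∧ τ l = l ∧ τ f = f ∧
      (∀ g ∈ X, ∃ k : ZMod p, g f = k • f) ∧ ∃ h ∈ X, h e = -e ∧ h l = -l ∧ h f = f := by
  obtain ⟨φ, c, hz⟩ := exists_isTv hτ1 hN2
  obtain ⟨g₁, hg₁, hgz⟩ := hE.exists_conj_not_mem hτX hτ1 hτp
  have hz'X : g₁ * τ * g₁⁻¹ ∈ X := X.mul_mem (X.mul_mem hg₁ hτX) (X.inv_mem hg₁)
  obtain ⟨φ', c', hz'⟩ : ∃ φ' c', IsTv (g₁ * τ * g₁⁻¹) φ' c' := ⟨_, _, hz.conj g₁⟩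
  have hnotc : ∀ k : ZMod p, c' ≠ k • c := by
    intro k hk
    have h0 : φ c' = 0 := by rw [hk, map_smul, hz.vanish, smul_zero]
    have h0' : φ' c = 0 := by
      by_contra hne
      have := hz'.vanish
      rw [hk, map_smul, smul_eq_mul, mul_eq_zero] at this
      exact hne (this.resolve_left fun hk0 => hz'.centre_ne (by rw [hk, hk0, zero_smul]))
    obtain ⟨n, hn⟩ := hE.no_pair hτX hz'X hz hz' (hz.apply_centre_comm hz' h0 h0')
    exact hgz (hn ▸ Subgroup.pow_mem _ (Subgroup.mem_zpowers τ) n)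
  have hφc' : φ c' ≠ 0 := fun h0 => by
    obtain ⟨k, hk⟩ := hE.centre_of_incident hτX hz'X hz hz' h0
    exact hnotc k hk
  have hφ'c : φ' c ≠ 0 := fun h0 => by
    obtain ⟨k, hk⟩ := hE.centre_of_incident hz'X hτX hz' hz h0
    have hk0 : k ≠ 0 := fun h => hz.centre_ne (by rw [hk, h, zero_smul])
    exact hnotc k⁻¹ (by rw [hk, smul_smul, inv_mul_cancel₀ hk0, one_smul])
  obtain ⟨f, hf0, hf1, hf2⟩ := exists_common_zero φ φ'
  set l := φ c' • c with hl
  set B := (g₁ * τ * g₁⁻¹) ^ (φ' l)⁻¹.val with hB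
  have hl0 : φ' l ≠ 0 := by rw [hl, map_smul, smul_eq_mul]; exact mul_ne_zero hφc' hφ'c
  have hφl : φ l = 0 := by rw [hl, map_smul, hz.vanish, smul_zero]
  have e1 : τ c' = c' + l := hz.apply_eq c'
  have e2 : τ l = l := by rw [hl, map_smul, hz.fix_centre]
  have e3 : τ f = f := by rw [hz.apply_eq, hf1, zero_smul, add_zero]
  have hli : LinearIndependent (ZMod p) ![c', l, f] := by
    rw [Fintype.linearIndependent_iff]
    intro a ha
    simp only [Fin.sum_univ_three, Matrix.cons_val_zero, Matrix.cons_val_one, Matrix.cons_val]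
      at ha
    have h1 := congrArg φ ha
    have h2 := congrArg φ' ha
    simp only [map_add, map_smul, hφl, hz'.vanish, hf1, hf2, smul_eq_mul, mul_zero,
      add_zero, zero_add, map_zero, mul_eq_zero, hφc', hl0, or_false] at h1 h2
    rw [h1, h2, zero_smul, zero_smul, zero_add, zero_add, smul_eq_zero] at ha
    intro i
    fin_cases i
    · exact h1
    · exact h2
    · exact ha.resolve_right hf0
  -- every transvection conjugate to `τ` fixes `f`
  have key : ∀ {w : GL3 p} {θ : Dual (ZMod p) (V3 p)} {d : V3 p}, w ∈ X → IsTv w θ d → θ f = 0 := by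
    intro w θ d hw hwt
    by_contra hθ
    obtain ⟨a, b, k, hd⟩ := span_three hli d
    -- a transvection fixing `f` whose axis contains `d`
    obtain ⟨σ, ψ, m, hσX, hσ, hψf, hψd⟩ : ∃ σ ψ m, σ ∈ X ∧ IsTv σ ψ m ∧ ψ f = 0 ∧ ψ d = 0 := by
      by_cases ha : a = 0
      · refine ⟨τ, φ, c, hτX, hz, hf1, ?_⟩
        rw [hd, ha]
        simp [hφl, hf1]
      · set j : ZMod p := b * a⁻¹ with hj
        have hconj := hz'.conj (τ ^ j.val)
        refine ⟨_, _, _, X.mul_mem (X.mul_mem (X.pow_mem hτX _) hz'X) (X.inv_mem (X.pow_mem hτX _)),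
          hconj, ?_, ?_⟩
        · show φ' ((τ ^ j.val).symm f) = 0
          rw [show (τ ^ j.val).symm f = f from (τ ^ j.val).symm_apply_eq.2 (pow_fix e3 _).symm, hf2]
        · have hde : d = (τ ^ j.val) (a • c' + k • f) := by
            rw [hd, map_add, map_smul, map_smul, pow_fix e3, hz.pow_apply, ZMod.natCast_zmod_val,
              hl, smul_add, smul_smul, smul_smul, hj]
            rw [show a * (b * a⁻¹ * φ c') = b * φ c' by field_simp]
          show φ' ((τ ^ j.val).symm d) = 0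
          rw [hde, LinearEquiv.symm_apply_apply, map_add, map_smul, map_smul, hz'.vanish, hf2,
            smul_zero, smul_zero, add_zero]
    obtain ⟨r, hr⟩ := hE.centre_of_incident hσX hw hσ hwt hψd
    have hr0 : r ≠ 0 := fun h => hwt.centre_ne (by rw [hr, h, zero_smul])
    have hθm : θ m = 0 := by
      have := hwt.vanish
      rw [hr, map_smul, smul_eq_mul, mul_eq_zero] at this
      exact this.resolve_left hr0
    obtain ⟨n, hn⟩ := hE.no_pair hσX hw hσ hwt (hσ.apply_centre_comm hwt hψd hθm)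
    have h1 := hwt.apply_eq f
    rw [hn, hσ.pow_apply, hψf, mul_zero, zero_smul, add_zero, left_eq_add, smul_eq_zero] at h1
    exact h1.elim hθ hwt.centre_ne
  refine ⟨c', l, f, hli, e1, e2, e3, fun g hg => ?_, ?_⟩
  · have h1 : φ (g f) = 0 := by
      have h := key (X.mul_mem (X.mul_mem (X.inv_mem hg) hτX) (X.inv_mem (X.inv_mem hg)))
        (hz.conj g⁻¹)
      simpa using h
    have h2 : φ' (g f) = 0 := by
      have h := key (X.mul_mem (X.mul_mem (X.inv_mem hg) hz'X) (X.inv_mem (X.inv_mem hg)))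
        (hz'.conj g⁻¹)
      simpa using h
    obtain ⟨a, b, k, hgf⟩ := span_three hli (g f)
    rw [hgf] at h1 h2
    simp only [map_add, map_smul, hφl, hz'.vanish, hf1, hf2, smul_eq_mul, mul_zero, add_zero,
      zero_add, mul_eq_zero, hφc', hl0, or_false] at h1 h2
    exact ⟨k, by rw [hgf, h1, h2, zero_smul, zero_smul, zero_add, zero_add]⟩
  · have b1 : B c' = c' := by rw [hB, hz'.pow_apply, hz'.vanish, mul_zero, zero_smul, add_zero]
    have b2 : B l = l + c' := by
      rw [hB, hz'.pow_apply, ZMod.natCast_zmod_val, inv_mul_cancel₀ hl0, one_smul]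
    have b3 : B f = f := by rw [hB, hz'.pow_apply, hf2, mul_zero, zero_smul, add_zero]
    obtain ⟨t1, t2⟩ := torus_apply_gl τ B (c := l) (d := c') e2 e1 b1 b2
      (neg_ne_zero.2 (one_ne_zero (α := ZMod p)))
    refine ⟨torus τ B (-1 : ZMod p), torus_mem hτX (X.pow_mem hz'X _) _, ?_, ?_,
      torus_fix_gl τ B e3 b3 _⟩
    · rw [t2]; simp
    · rw [t1]; simp

end Cfsg.Agent.Invol.EssNormal
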