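import Cfsg.Agent.Lib.Invol.EssNormal.Setting
import Cfsg.Agent.Lib.Invol.EssNormal.Linear

/-!
# The action on an invariant elementary abelian subgroup of order `p ^ 3`
-/

set_option autoImplicit false
set_option linter.style.haveILetI false
set_option linter.unusedSectionVars false

universe u

namespace Cfsg.Agent.Invol.EssNormal

open Cfsg FusionSystem Cfsg.Agent.Fus
open EssThree (V3 GL3 Emb)
open scoped commutatorElement

variable {Ω : Type u} [Group Ω] {S : Subgroup Ω} {p : ℕ} [hp : Fact p.Prime]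

/-- Coordinates on `V`, the action of the automorphisms of `E`, and conjugation by `b`. -/
structure Rep (F : FusionSystem S) (p : ℕ) (E V : Subgroup Ω) where
  q : Ω → V3 p
  r : F.autGroup E →* GL3 p
  b : Ω
  cb : F.autGroup E
  q_mul : ∀ x ∈ V, ∀ y ∈ V, q (x * y) = q x + q y
  q_zero : ∀ x ∈ V, q x = 0 ↔ x = 1
  q_surj : ∀ v, ∃ x ∈ V, q x = v
  r_spec : ∀ (α : F.autGroup E), ∀ x ∈ V, q (autFun (α : MulAut E) x) = r α (q x)
  b_mem : b ∈ S
  b_not : b ∉ E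
  cb_spec : ∀ x ∈ E, autFun (cb : MulAut E) x = b * x * b⁻¹
  tau_pow : r cb ^ p = 1
  tau_ne : r cb ≠ 1
  emb : Emb p r.range (r.range ⊓ Subgroup.normalizer (Subgroup.zpowers (r cb) : Set (GL3 p)))
  fix_iff : ∀ x ∈ V, r cb (q x) = q x ↔ x ∈ om p S
  inv : Inv F E V

variable {F : FusionSystem S}

namespace Rep

variable {E V : Subgroup Ω} (D : Rep F p E V)

theorem q_one : D.q 1 = 0 := (D.q_zero 1 V.one_mem).2 rfl

theorem q_inv {x : Ω} (hx : x ∈ V) : D.q x⁻¹ = -D.q x := by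
  have h := D.q_mul x⁻¹ (V.inv_mem hx) x hx
  rw [inv_mul_cancel, D.q_one] at h
  exact eq_neg_of_add_eq_zero_left h.symm

theorem q_inj {x y : Ω} (hx : x ∈ V) (hy : y ∈ V) (h : D.q x = D.q y) : x = y := by
  have h1 : D.q (x⁻¹ * y) = 0 := by
    rw [D.q_mul _ (V.inv_mem hx) _ hy, D.q_inv hx, h, neg_add_cancel]
  exact inv_mul_eq_one.1 ((D.q_zero _ (V.mul_mem (V.inv_mem hx) hy)).1 h1)

theorem q_pow {x : Ω} (hx : x ∈ V) : ∀ n : ℕ, D.q (x ^ n) = (n : ZMod p) • D.q x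
  | 0 => by rw [pow_zero, D.q_one, Nat.cast_zero, zero_smul]
  | n + 1 => by
    rw [pow_succ, D.q_mul _ (V.pow_mem hx n) _ hx, q_pow hx n, Nat.cast_succ, add_smul, one_smul]

/-- The image of a subgroup of `V`, as a submodule. -/
def sub (N : Subgroup Ω) (hN : N ≤ V) : Submodule (ZMod p) (V3 p) where
  carrier := D.q '' N
  zero_mem' := ⟨1, N.one_mem, D.q_one⟩
  add_mem' := by
    rintro _ _ ⟨a, ha, rfl⟩ ⟨b, hb, rfl⟩
    exact ⟨a * b, N.mul_mem ha hb, D.q_mul a (hN ha) b (hN hb)⟩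
  smul_mem' := by
    rintro k _ ⟨a, ha, rfl⟩
    exact ⟨a ^ k.val, N.pow_mem ha _, by rw [D.q_pow (hN ha), ZMod.natCast_zmod_val]⟩

/-- The fixed points of `b`. -/
def K : Submodule (ZMod p) (V3 p) :=
  LinearMap.ker ((D.r D.cb : V3 p →ₗ[ZMod p] V3 p) - LinearMap.id)

theorem card_K (hZ : om p S ≤ V) : Nat.card D.K = Nat.card (om p S) := by
  refine (Nat.card_congr (Equiv.ofBijective
    (fun z : om p S => (⟨D.q z, LinearMap.mem_ker.2 (sub_eq_zero.2 ((D.fix_iff _ (hZ z.2)).2 z.2))⟩ :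
      D.K)) ⟨fun a b h => ?_, fun v => ?_⟩)).symm
  · exact Subtype.ext (D.q_inj (hZ a.2) (hZ b.2) (congrArg Subtype.val h))
  · obtain ⟨x, hx, hxv⟩ := D.q_surj v.1
    have hv : D.r D.cb v.1 = v.1 := sub_eq_zero.1 (LinearMap.mem_ker.1 v.2)
    exact ⟨⟨x, (D.fix_iff x hx).1 (by rw [hxv]; exact hv)⟩, Subtype.ext hxv⟩

theorem finrank_K (hZ : om p S ≤ V) {n : ℕ} (hn : Nat.card (om p S) = p ^ n) :
    Module.finrank (ZMod p) D.K = n := by
  have h := D.card_K hZ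
  rw [hn, Module.natCard_eq_pow_finrank (K := ZMod p), Nat.card_zmod] at h
  exact Nat.pow_right_injective hp.out.two_le h

theorem tau_cube (v : V3 p) :
    D.r D.cb (D.r D.cb (D.r D.cb v) - D.r D.cb v) - D.r D.cb (D.r D.cb v - v) -
      (D.r D.cb (D.r D.cb v) - D.r D.cb v - (D.r D.cb v - v)) = 0 :=
  EssThree.cube_zero (k := 1) (by rw [pow_one]; exact D.tau_pow) v

include D in
/-- With `|Ω₁(Z(S))| = p` the unipotent elements are regular, hence `E` is irreducible on `V`. -/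
theorem eq_of_inv (hp2 : p ≠ 2) (hVE : V ≤ E) (hZ : om p S ≤ V) (hcard : Nat.card (om p S) = p)
    {N : Subgroup Ω} (hNV : N ≤ V) (hN : Inv F E N) (hne : N ≠ ⊥) : N = V := by
  have hp3 : 3 ≤ p := by have := hp.out.two_le; omega
  set T : V3 p →ₗ[ZMod p] V3 p := (D.r D.cb : V3 p →ₗ[ZMod p] V3 p) - LinearMap.id with hT
  have hTa : ∀ v, T v = D.r D.cb v - v := fun v => rfl
  obtain ⟨e, he⟩ : ∃ e, T (T e) ≠ 0 := by
    by_contra h
    push Not at h
    have hle : LinearMap.range T ≤ LinearMap.ker T := by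
      rintro _ ⟨v, rfl⟩; exact LinearMap.mem_ker.2 (h v)
    have h1 := T.finrank_range_add_finrank_ker
    have h2 := Submodule.finrank_mono hle
    have h3 : Module.finrank (ZMod p) (LinearMap.ker T) = 1 :=
      D.finrank_K hZ (by rw [hcard, pow_one])
    rw [Module.finrank_fin_fun] at h1
    omega
  rcases D.emb.irreducible hp3 ⟨D.cb, rfl⟩ D.tau_pow (e := e) (by rw [hTa, hTa] at he; exact he)
    (D.sub N hNV) (by
      rintro _ ⟨α, rfl⟩ _ ⟨x, hx, rfl⟩
      exact ⟨autFun (α : MulAut E) x, hN _ α.2 x hx, D.r_spec α x (hNV hx)⟩) with h | h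
  · refine absurd ((Subgroup.eq_bot_iff_forall _).2 fun x hx => ?_) hne
    have : D.q x ∈ (⊥ : Submodule (ZMod p) (V3 p)) := h ▸ ⟨x, hx, rfl⟩
    exact (D.q_zero x (hNV hx)).1 this
  · refine le_antisymm hNV fun x hx => ?_
    obtain ⟨y, hy, hyx⟩ : D.q x ∈ D.sub N hNV := h ▸ Submodule.mem_top
    rwa [← D.q_inj (hNV hy) hx hyx]

/-- With `|Ω₁(Z(S))| = p ^ 2`: a fixed line, and an inversion. -/
theorem fixed (hVE : V ≤ E) (hVn : ∀ x ∈ V, D.b * x * D.b⁻¹ ∈ V) (hZ : om p S ≤ V)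
    (hcard : Nat.card (om p S) = p ^ 2) :
    ∃ C : Subgroup Ω, C ≠ ⊥ ∧ C ≤ om p S ∧ Inv F E C ∧
      ∃ α ∈ F.autGroup E, (∀ x ∈ C, autFun α x = x) ∧
        (∀ x ∈ V, autFun α ⁅D.b, x⁆ = ⁅D.b, x⁆⁻¹) ∧
        ∀ x ∈ V, autFun α (D.b * x * D.b⁻¹) = D.b * autFun α x * D.b⁻¹ := by
  set τ := D.r D.cb with hτ
  set T : V3 p →ₗ[ZMod p] V3 p := (τ : V3 p →ₗ[ZMod p] V3 p) - LinearMap.id with hT
  have hTa : ∀ v, T v = τ v - v := fun v => rfl
  have hN2 : ∀ v, τ (τ v - v) - (τ v - v) = 0 := by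
    have h1 := T.finrank_range_add_finrank_ker
    rw [show Module.finrank (ZMod p) (LinearMap.ker T) = 2 from D.finrank_K hZ hcard,
      Module.finrank_fin_fun] at h1
    obtain ⟨w, hw, hgen⟩ := finrank_eq_one_iff'.1
      (show Module.finrank (ZMod p) (LinearMap.range T) = 1 by omega)
    obtain ⟨c, hc⟩ := hgen ⟨T w.1, _, rfl⟩
    have hc' : c • w.1 = T w.1 := congrArg Subtype.val hc
    obtain ⟨u, hu⟩ := w.2
    have hw0 : w.1 ≠ 0 := fun h => hw (Subtype.ext h)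
    have h3 : T (T (T u)) = 0 := by
      have := D.tau_cube u
      simp only [hTa, map_sub] at this ⊢
      exact this
    rw [hu, ← hc', map_smul, ← hc', smul_smul, smul_eq_zero] at h3
    have hc0 : c = 0 := mul_self_eq_zero.1 (h3.resolve_right hw0)
    intro v
    obtain ⟨d, hd⟩ := hgen ⟨T v, v, rfl⟩
    have hd' : d • w.1 = T v := congrArg Subtype.val hd
    rw [← hTa, ← hTa, ← hd', map_smul, ← hc', hc0, zero_smul, smul_zero]
  obtain ⟨e, l, f, hli, he, hl, hf, hfix, h, ⟨α, rfl⟩, ha1, ha2, ha3⟩ :=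
    fixed_line D.emb ⟨D.cb, rfl⟩ D.tau_ne D.tau_pow hN2
  let C : Subgroup Ω :=
    { carrier := {x | x ∈ V ∧ D.q x ∈ Submodule.span (ZMod p) {f}}
      one_mem' := ⟨V.one_mem, by rw [D.q_one]; exact zero_mem _⟩
      mul_mem' := fun {a b} ha hb => ⟨V.mul_mem ha.1 hb.1,
        by rw [D.q_mul _ ha.1 _ hb.1]; exact add_mem ha.2 hb.2⟩
      inv_mem' := fun {a} ha => ⟨V.inv_mem ha.1, by rw [D.q_inv ha.1]; exact neg_mem ha.2⟩ }
  have hCZ : C ≤ om p S := by
    rintro x ⟨hx, hxf⟩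
    refine (D.fix_iff x hx).1 ?_
    obtain ⟨k, hk⟩ := Submodule.mem_span_singleton.1 hxf
    rw [← hk, map_smul]
    exact congrArg _ hf
  refine ⟨C, ?_, hCZ, ?_, α, α.2, ?_, ?_, ?_⟩
  · obtain ⟨x, hx, hxf⟩ := D.q_surj f
    intro hC
    have hx1 : x ∈ C := ⟨hx, by rw [hxf]; exact Submodule.mem_span_singleton_self f⟩
    rw [hC, Subgroup.mem_bot] at hx1
    have h0 : f = 0 := by rw [← hxf, hx1, D.q_one]
    exact hli.ne_zero 2 h0
  · intro β hβ x hx
    obtain ⟨k, hk⟩ := Submodule.mem_span_singleton.1 hx.2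
    obtain ⟨m, hm⟩ := hfix _ ⟨⟨β, hβ⟩, rfl⟩
    have hq : D.r ⟨β, hβ⟩ (D.q x) = (k * m) • f := by rw [← hk, map_smul, hm, smul_smul]
    have hβx := D.inv β hβ x hx.1
    refine ⟨hβx, ?_⟩
    rw [show D.q (autFun β x) = D.r ⟨β, hβ⟩ (D.q x) from D.r_spec ⟨β, hβ⟩ x hx.1, hq]
    exact Submodule.smul_mem _ _ (Submodule.mem_span_singleton_self f)
  · rintro x ⟨hx, hxf⟩
    refine D.q_inj (D.inv _ α.2 _ hx) hx ?_
    obtain ⟨k, hk⟩ := Submodule.mem_span_singleton.1 hxf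
    rw [D.r_spec α x hx, ← hk, map_smul, ha3]
  · intro x hx
    have hcx : ⁅D.b, x⁆ ∈ V := by
      rw [commutatorElement_def]; exact V.mul_mem (hVn x hx) (V.inv_mem hx)
    refine D.q_inj (D.inv _ α.2 _ hcx) (V.inv_mem hcx) ?_
    obtain ⟨a, c, k, hv⟩ := EssThree.span_three hli (D.q x)
    have hq : D.q ⁅D.b, x⁆ = a • l := by
      rw [commutatorElement_def, D.q_mul _ (hVn x hx) _ (V.inv_mem hx), D.q_inv hx,
        ← D.cb_spec x (hVE hx), D.r_spec _ x hx, ← hτ, hv]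
      simp only [hτ] at he hl hf ⊢
      simp only [map_add, map_smul, he, hl, hf, smul_add]
      abel
    rw [D.r_spec α _ hcx, D.q_inv hcx, hq, map_smul, ha2, smul_neg]
  · intro x hx
    have hαx := D.inv _ α.2 _ hx
    refine D.q_inj (D.inv _ α.2 _ (hVn x hx)) (hVn _ hαx) ?_
    rw [D.r_spec α _ (hVn x hx), ← D.cb_spec x (hVE hx), D.r_spec _ x hx,
      ← D.cb_spec _ (hVE hαx), D.r_spec _ _ hαx, D.r_spec α x hx, ← hτ]
    obtain ⟨a, c, k, hv⟩ := EssThree.span_three hli (D.q x)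
    rw [hv]
    simp only [hτ] at he hl hf ha1 ha2 ha3 ⊢
    simp only [map_add, map_smul, he, hl, hf, ha1, ha2, ha3, map_neg, smul_add, smul_neg, neg_add]

end Rep

theorem Hyp.exists_rep [Finite S] (H : Hyp F p) {E V : Subgroup Ω} (hE : Nt F p E) (hVE : V ≤ E)
    (hV : Inv F E V) (hcen : ∀ x ∈ V, ∀ y ∈ E, Commute x y) (hVp : ∀ x ∈ V, x ^ p = 1)
    (hcard : Nat.card V = p ^ 3) (hZV : om p S ≤ V) : Nonempty (Rep F p E V) := by
  classical
  have hES := H.le hE.1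
  haveI := finite_of_le hES
  haveI := finite_of_le (hVE.trans hES)
  haveI : Finite (MulAut E) :=
    Finite.of_injective (fun e : MulAut E => (e : E → E)) DFunLike.coe_injective
  have hcomm : ∀ a ∈ V.subgroupOf V, ∀ b ∈ V.subgroupOf V, ⁅a, b⁆ ∈ (⊥ : Subgroup V) :=
    fun a _ b _ => Subgroup.mem_bot.2 (commutatorElement_eq_one_iff_mul_comm.2
      (Subtype.ext (hcen a a.2 b (hVE b.2)).eq))
  obtain ⟨k, q, hqm, hq0, hqs, hqc⟩ := EssThree.exists_coord (p := p) (V.subgroupOf V) ⊥ bot_le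
    hcomm fun a _ => Subgroup.mem_bot.2 (Subtype.ext (hVp a a.2))
  have hk : k = 3 := by
    rw [Subgroup.card_bot, one_mul, Subgroup.subgroupOf_self, Subgroup.card_top, hcard] at hqc
    exact Nat.pow_right_injective hp.out.two_le hqc
  subst hk
  have hmem : ∀ a : V, a ∈ V.subgroupOf V := fun a => a.2
  have hqm' : ∀ a b, q (a * b) = q a + q b := fun a b => hqm a (hmem a) b (hmem b)
  have hqs' : Function.Surjective q := fun v => let ⟨a, _, ha⟩ := hqs v; ⟨a, ha⟩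
  -- restriction to `V`
  let res : F.autGroup E →* MulAut V :=
    { toFun := fun α =>
        { toFun := fun x => ⟨autFun (α : MulAut E) x, hV _ α.2 x x.2⟩
          invFun := fun x => ⟨autFun (α : MulAut E)⁻¹ x, hV _ (inv_mem α.2) x x.2⟩
          left_inv := fun x => Subtype.ext (autFun_inv_apply _ (hVE x.2))
          right_inv := fun x => Subtype.ext (af_apply_inv _ (hVE x.2))
          map_mul' := fun x y => Subtype.ext (af_mul _ (hVE x.2) (hVE y.2)) }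
      map_one' := MulEquiv.ext fun x => Subtype.ext (autFun_one (hVE x.2))
      map_mul' := fun a b => MulEquiv.ext fun x => Subtype.ext (autFun_mul _ _ (hVE x.2)) }
  obtain ⟨r, hr⟩ := EssThree.exists_action q hqm' hqs' res fun m h h0 => by
    rw [hq0 _ (hmem _), Subgroup.mem_bot] at h0 ⊢
    rw [h0, map_one]
  let q' : Ω → V3 p := fun x => if h : x ∈ V then q ⟨x, h⟩ else 0
  have hq' : ∀ x : V, q' x = q x := fun x => dif_pos x.2
  have hqinj : ∀ x : V, ∀ y : V, q x = q y → x = y := fun x y h => by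
    have h0 : q (x⁻¹ * y) = 0 := by
      have h1 := hqm' x (x⁻¹ * y)
      rw [mul_inv_cancel_left, ← h] at h1
      exact left_eq_add.1 h1
    rw [hq0 _ (hmem _), Subgroup.mem_bot] at h0
    exact inv_mul_eq_one.1 h0
  have hspec : ∀ (α : F.autGroup E), ∀ x ∈ V, q' (autFun (α : MulAut E) x) = r α (q' x) := by
    intro α x hx
    rw [hq' ⟨x, hx⟩, show q' (autFun (α : MulAut E) x) = q' (res α ⟨x, hx⟩) from rfl, hq']
    exact hr α ⟨x, hx⟩
  have hlin : ∀ g h : GL3 p, (∀ x : V, g (q x) = h (q x)) → g = h := fun g h e =>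
    LinearEquiv.ext fun v => by obtain ⟨x, rfl⟩ := hqs' v; exact e x
  obtain ⟨b, hb, hbE⟩ := SetLike.exists_of_lt (H.lt hE.1)
  obtain ⟨c, hc, -, hce⟩ := H.exists_cj hE.1 hb
  set cb : F.autGroup E := ⟨c, hc⟩ with hcb
  have hcpow : ∀ (i : ℕ), ∀ x ∈ E, autFun ((cb ^ i : F.autGroup E) : MulAut E) x =
      b ^ i * x * (b ^ i)⁻¹ := by
    intro i
    induction i with
    | zero => intro x hx; simp [autFun_one hx]
    | succ i ih =>
      intro x hx
      rw [pow_succ, Subgroup.coe_mul, autFun_mul _ _ hx, hce x hx,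
        ih _ (H.conj_mem hE.1 hb hx), pow_succ]
      group
  have hfix : ∀ x ∈ V, r cb (q' x) = q' x ↔ x ∈ om p S := by
    intro x hx
    rw [← hspec cb x hx]
    constructor
    · intro h
      have hm : autFun (cb : MulAut E) x ∈ V := hV _ cb.2 x hx
      rw [hq' ⟨_, hm⟩, hq' ⟨x, hx⟩] at h
      have h1 : b * x * b⁻¹ = x := by
        rw [← hce x (hVE hx)]
        exact congrArg Subtype.val (hqinj _ _ h)
      exact H.mem_omS hE.1 hb hbE (hES (hVE hx)) (hVp x hx) (hcen x hx)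
        (show x * b = b * x by
          conv_rhs => rw [← mul_inv_cancel_right (b * x) b⁻¹, inv_inv]
          rw [show b * x * b⁻¹ * b = (b * x * b⁻¹) * b from rfl, h1])
    · intro h
      rw [hce x (hVE hx), ← (h.2.2 b hb).eq, mul_inv_cancel_right]
  have hp' : r cb ^ p = 1 := by
    rw [← map_pow]
    refine hlin _ _ fun x => ?_
    have hbp := (H.decomp hE.1 hb hbE).1
    rw [← hq' x, ← hspec _ x x.2, hcpow p x (hVE x.2), ← (hcen x x.2 _ hbp).eq,
      mul_inv_cancel_right]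
    rfl
  -- the image of `Aut_S(E)`
  have himg : ∀ γ : F.autGroup E, (γ : MulAut E) ∈ autInducedBy S E →
      r γ ∈ Subgroup.zpowers (r cb) := by
    intro γ hγ
    obtain ⟨g, hg, hge⟩ := mem_autInducedBy.1 hγ
    obtain ⟨i, e, he, rfl⟩ := (H.decomp hE.1 hb hbE).2 g hg
    suffices r γ = r cb ^ i by rw [this]; exact Subgroup.pow_mem _ (Subgroup.mem_zpowers _) i
    rw [← map_pow]
    refine hlin _ _ fun x => ?_
    rw [← hq' x, ← hspec _ x x.2, ← hspec _ x x.2, hcpow i x (hVE x.2)]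
    congr 1
    have hy : b ^ i * x * (b ^ i)⁻¹ ∈ V := by
      rw [← hcpow i x (hVE x.2)]; exact hV _ (cb ^ i).2 x x.2
    calc autFun (γ : MulAut E) x = e * b ^ i * x * (e * b ^ i)⁻¹ := by
          rw [show (x : Ω) = ((⟨x, hVE x.2⟩ : E) : Ω) from rfl, autFun_coe]; exact hge _
      _ = e * (b ^ i * x * (b ^ i)⁻¹) * e⁻¹ := by group
      _ = b ^ i * x * (b ^ i)⁻¹ := by rw [← (hcen _ hy e he).eq, mul_inv_cancel_right]
  obtain ⟨-, R, hR⟩ := fullyAutomized_of_fullyNormalized H.isPGroup H.sat hE.1.2.1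
  have hsyl : ∀ Q ≤ r.range, IsPGroup p Q →
      ∃ g ∈ r.range, ∀ z ∈ Q, g * z * g⁻¹ ∈ Subgroup.zpowers (r cb) := by
    intro Q hQ hQp
    obtain ⟨T, hT⟩ := (hQp.comap_of_injective r.range.subtype r.range.subtype_injective).exists_le_sylow
    obtain ⟨g, hg⟩ := MulAction.exists_smul_eq r.range T
      (R.mapSurjective r.rangeRestrict_surjective)
    refine ⟨g, g.2, fun z hz => ?_⟩
    have hzT : (⟨z, hQ hz⟩ : r.range) ∈ (T : Subgroup r.range) := hT hz
    have hmem : g * ⟨z, hQ hz⟩ * g⁻¹ ∈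
        ((R.mapSurjective r.rangeRestrict_surjective : Sylow p r.range) : Subgroup r.range) := by
      rw [← hg]; exact ⟨_, hzT, rfl⟩
    rw [Sylow.coe_mapSurjective] at hmem
    obtain ⟨γ, hγ, hγe⟩ := hmem
    rw [hR] at hγ
    have := himg γ hγ
    rwa [show r γ = (g : GL3 p) * z * (g : GL3 p)⁻¹ from congrArg Subtype.val hγe] at this
  have hnn : ∃ g ∈ r.range, g * r cb * g⁻¹ ∉ Subgroup.zpowers (r cb) := by
    by_contra h
    push Not at h
    refine hE.2 fun α hα z hz => ?_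
    refine (hfix _ (hV α hα z (hZV hz))).1 ?_
    rw [hspec ⟨α, hα⟩ z (hZV hz)]
    obtain ⟨i, hi⟩ := h (r ⟨α, hα⟩)⁻¹ (inv_mem ⟨_, rfl⟩)
    have hz' : ∀ (g : GL3 p) (i : ℤ), g (q' z) = q' z → (g ^ i) (q' z) = q' z := by
      intro g i hg
      obtain ⟨n, rfl | rfl⟩ := i.eq_nat_or_neg
      · rw [zpow_natCast]; exact EssThree.pow_fix hg n
      · rw [zpow_neg, zpow_natCast]
        exact (g ^ n).symm_apply_eq.2 (EssThree.pow_fix hg n).symm
    have h1 := hz' _ i ((hfix z (hZV hz)).2 hz)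
    rw [show r cb ^ i = (r ⟨α, hα⟩)⁻¹ * r cb * (r ⟨α, hα⟩)⁻¹⁻¹ from hi, inv_inv] at h1
    have h2 := congrArg (r ⟨α, hα⟩) h1
    rw [LinearEquiv.mul_apply, LinearEquiv.mul_apply] at h2
    change r ⟨α, hα⟩ ((r ⟨α, hα⟩).symm (r cb (r ⟨α, hα⟩ (q' z)))) = _ at h2
    rwa [LinearEquiv.apply_symm_apply] at h2
  have hne : r cb ≠ 1 := fun h => by
    obtain ⟨g, -, hg⟩ := hnn
    exact hg (by rw [h, mul_one, mul_inv_cancel]; exact one_mem _)
  exact ⟨{
    q := q'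
    r := r
    b := b
    cb := cb
    q_mul := fun x hx y hy => by
      rw [hq' ⟨x, hx⟩, hq' ⟨y, hy⟩, ← hqm']; exact hq' ⟨x * y, V.mul_mem hx hy⟩
    q_zero := fun x hx => by
      rw [hq' ⟨x, hx⟩, hq0 _ (hmem _), Subgroup.mem_bot, ← Subtype.coe_inj]; rfl
    q_surj := fun v => by
      obtain ⟨x, rfl⟩ := hqs' v; exact ⟨x, x.2, hq' x⟩
    r_spec := hspec
    b_mem := hb
    b_not := hbE
    cb_spec := hce
    tau_pow := hp'
    tau_ne := hne
    emb := emb_of_sylow ⟨cb, rfl⟩ hp' hsyl hnn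
    fix_iff := hfix
    inv := hV }⟩

end Cfsg.Agent.Invol.EssNormal
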