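import Cfsg.Agent.Lib.Invol.EssNormal.Transport
import Cfsg.Agent.Lib.Invol.EssNormal.Module

/-!
# With all essential subgroups normal, `Ω₁(Z(S))` is cyclic
-/

set_option autoImplicit false
set_option linter.style.haveILetI false
set_option linter.unusedSectionVars false

universe u

namespace Cfsg.Agent.Invol.EssNormal

open Cfsg FusionSystem Cfsg.Agent.Fus
open scoped commutatorElement

variable {Ω : Type u} [Group Ω] {S : Subgroup Ω} {p : ℕ} [hp : Fact p.Prime] {F : FusionSystem S}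

/-- The elements of `Ω₁(Z(S))` staying there under the automorphisms of `E`. -/
def coreOm (F : FusionSystem S) (p : ℕ) (E : Subgroup Ω) : Subgroup Ω :=
  sSup {N | N ≤ om p S ∧ Inv F E N}

namespace Hyp

variable [Finite S] (H : Hyp F p) {E E' : Subgroup Ω}
include H

theorem omS_lt_om (hE : Nt F p E) : om p S < om p E :=
  lt_of_le_of_ne (H.omS_le_om hE.1) fun h => hE.2 (h ▸ inv_om E)

theorem not_le_other (hE : F.IsEssential p E) (hE' : F.IsEssential p E') (hne : E ≠ E') :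
    ∃ b ∈ E', b ∉ E := by
  by_contra h
  push Not at h
  obtain ⟨b, hb, hbE'⟩ := SetLike.exists_of_lt (lt_of_le_of_ne h hne.symm)
  exact (H.lt hE).not_ge (H.eq_top_of_lt hE' h hb hbE' (H.le hE hb))

/-- An element commuting with two essential subgroups is central. -/
theorem omS_of_two (hE : F.IsEssential p E) (hE' : F.IsEssential p E') (hne : E ≠ E') {x : Ω}
    (hx : x ∈ om p E) (hx' : ∀ y ∈ E', Commute x y) : x ∈ om p S := by
  obtain ⟨b, hb, hbE⟩ := H.not_le_other hE hE' hne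
  exact H.mem_omS hE (H.le hE' hb) hbE (H.le hE hx.1) hx.2.1 hx.2.2 (hx' b hb)

/-- Splitting off a central element of order `p`. -/
theorem phi_eq_inf (hE : E ≤ S) (hE' : F.IsEssential p E') {x : Ω} (hx : x ∈ om p E)
    (hx' : x ∉ E') : phi p E = phi p (E ⊓ E') := by
  have hdec : ∀ g ∈ E, ∃ i : ℕ, ∃ d ∈ E ⊓ E', g = d * x ^ i := by
    intro g hg
    obtain ⟨i, d, hd, rfl⟩ := (H.decomp hE' (hE hx.1) hx').2 g (hE hg)
    exact ⟨i, d, ⟨(E.mul_mem_cancel_right (E.pow_mem hx.1 i)).1 hg, hd⟩, rfl⟩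
  refine le_antisymm (phi_le_iff.2 ⟨fun a ha b hb => ?_, fun a ha => ?_⟩) (phi_mono inf_le_left)
  · obtain ⟨i, d, hd, rfl⟩ := hdec a ha
    obtain ⟨j, d', hd', rfl⟩ := hdec b hb
    have c1 : ∀ y ∈ E, ∀ n : ℕ, Commute y (x ^ n) := fun y hy n => (hx.2.2 y hy).symm.pow_right n
    have e : ⁅d * x ^ i, d' * x ^ j⁆ = ⁅d, d'⁆ := by
      have h1 := c1 (d' * x ^ j) hb i
      simp only [commutatorElement_def, mul_inv_rev]
      calc d * x ^ i * (d' * x ^ j) * ((x ^ i)⁻¹ * d⁻¹) * ((x ^ j)⁻¹ * d'⁻¹)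
          = d * (x ^ i * (d' * x ^ j) * (x ^ i)⁻¹) * d⁻¹ * (x ^ j)⁻¹ * d'⁻¹ := by group
        _ = d * d' * (x ^ j * d⁻¹ * (x ^ j)⁻¹) * d'⁻¹ := by
          rw [← h1.eq, mul_inv_cancel_right]; group
        _ = d * d' * d⁻¹ * d'⁻¹ := by
          rw [← (c1 _ (E.inv_mem hd.1) j).eq, mul_inv_cancel_right]
    rw [e]
    exact comm_mem_phi hd hd'
  · obtain ⟨i, d, hd, rfl⟩ := hdec a ha
    rw [((hx.2.2 d hd.1).symm.pow_right i).mul_pow, ← pow_mul, mul_comm, pow_mul, hx.2.1, one_pow,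
      mul_one]
    exact pow_mem_phi hd

theorem phi_map {β : MulAut S} (hE : E ≤ S) {x : Ω} (hx : x ∈ phi p E) :
    autFun β x ∈ phi p (fimg (autFun β) E) := by
  have hle : phi p E ≤ S := (phi_le E).trans hE
  induction hx using Subgroup.closure_induction with
  | mem y hy =>
    rcases hy with ⟨a, ha, b, hb, rfl⟩ | ⟨a, ha, rfl⟩
    · rw [af_comm β (hE ha) (hE hb)]
      exact comm_mem_phi (apply_mem_fimg _ ha) (apply_mem_fimg _ hb)
    · rw [af_pow β (hE ha)]; exact pow_mem_phi (apply_mem_fimg _ ha)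
  | one => rw [af_one]; exact one_mem _
  | mul a b ha hb iha ihb => rw [af_mul β (hle ha) (hle hb)]; exact mul_mem iha ihb
  | inv a ha iha => rw [af_inv β (hle ha)]; exact inv_mem iha

theorem coreOm_le : coreOm F p E ≤ om p S := sSup_le fun _ h => h.1

theorem inv_coreOm (hE : F.IsEssential p E) : Inv F E (coreOm F p E) := by
  intro α hα x hx
  rw [coreOm, sSup_eq_iSup', Subgroup.iSup_eq_closure] at hx ⊢
  have hZE := H.omS_le hE
  have hle : Subgroup.closure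
      (⋃ N : {N | N ≤ om p S ∧ Inv F E N}, ((N : Subgroup Ω) : Set Ω)) ≤ E :=
    (Subgroup.closure_le _).2 (Set.iUnion_subset fun N => (N.2.1.trans hZE))
  induction hx using Subgroup.closure_induction with
  | mem y hy =>
    obtain ⟨N, hN⟩ := Set.mem_iUnion.1 hy
    exact Subgroup.subset_closure (Set.mem_iUnion.2 ⟨N, N.2.2 α hα y hN⟩)
  | one => rw [af_one]; exact one_mem _
  | mul a b ha hb iha ihb => rw [af_mul α (hle ha) (hle hb)]; exact mul_mem iha ihb
  | inv a ha iha => rw [af_inv α (hle ha)]; exact inv_mem iha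

theorem coreOm_map {β : MulAut S} (hβ : β ∈ F.autGroup S) (hE : F.IsEssential p E) {x : Ω}
    (hx : x ∈ coreOm F p E) : autFun β x ∈ coreOm F p (fimg (autFun β) E) := by
  refine (le_sSup (s := {N | N ≤ om p S ∧ Inv F (fimg (autFun β) E) N}) ⟨?_, ?_⟩)
    (apply_mem_fimg (autFun β) hx)
  · exact fimg_le fun y hy => inv_om S β hβ y (H.coreOm_le hy)
  · exact H.inv_map hβ hE (H.coreOm_le.trans (H.omS_le hE)) (H.inv_coreOm hE)

/-- A common subgroup of the cores gives a contradiction. -/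
theorem false_of_common {N : Subgroup Ω} (hne : N ≠ ⊥) (hN : N ≤ om p S)
    (htop : ∀ α ∈ F.autGroup S, ∀ x ∈ N, autFun α x ∈ N)
    (hnt : ∀ E, Nt F p E → Inv F E N) : False :=
  H.false_of_invariant (hN.trans (om_le S)) hne htop fun P hP => ⟨hN.trans (H.omS_le hP), by
    by_cases h : Inv F P (om p S)
    · exact H.inv_of_fix hP h hN htop
    · exact hnt P ⟨hP, h⟩⟩

section sq

variable (hZ : Nat.card (om p S) = p ^ 2)
include hZ

theorem om_props (hE : Nt F p E) : Nat.card (om p E) = p ^ 3 ∧ ∀ x ∈ E, x ^ p = 1 → x ∈ om p E := by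
  have hES := H.le hE.1
  have hVS : om p E ≤ S := (om_le E).trans hES
  have hc : ∀ a ∈ om p E, ∀ b ∈ om p E, Commute a b := fun a ha b hb => ha.2.2 b hb.1
  have hle := H.rank.card_elem hVS hc fun a ha => ha.2.1
  have hge := mul_card_le H.isPGroup hVS (H.omS_lt_om hE)
  rw [hZ, ← pow_succ'] at hge
  exact ⟨le_antisymm hle hge, fun x hx hxp =>
    H.rank.absorb hVS hc (fun a ha => ha.2.1) hge (hES hx) hxp fun a ha => (ha.2.2 x hx).symm⟩

theorem exists_off (hE : Nt F p E) (hE' : Nt F p E') (hne : E ≠ E') :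
    ∃ x ∈ om p E', x ∉ E := by
  by_contra h
  push Not at h
  obtain ⟨hc, hom⟩ := H.om_props hZ hE
  obtain ⟨hc', -⟩ := H.om_props hZ hE'
  haveI : Finite (om p E) := finite_of_le ((om_le E).trans (H.le hE.1))
  have heq : om p E' = om p E :=
    Subgroup.eq_of_le_of_card_ge (fun x hx => hom x (h x hx) hx.2.1) (by rw [hc, hc'])
  refine (H.omS_lt_om hE).not_ge fun x hx => ?_
  exact H.omS_of_two hE.1 hE'.1 hne hx (heq.ge hx).2.2

theorem exists_inversion (hE : Nt F p E) (hab : phi p E = ⊥) :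
    ∃ β ∈ F.autGroup S, (∀ x ∈ coreOm F p E, autFun β x = x) ∧
      ∀ g ∈ S, ∀ x ∈ E, autFun β ⁅g, x⁆ = ⁅g, x⁆⁻¹ := by
  obtain ⟨hc, hexp⟩ := of_phi_eq_bot hab
  have hEeq : om p E = E := le_antisymm (om_le E) fun x hx => ⟨hx, hexp x hx, fun y hy => hc x hx y hy⟩
  have hcard : Nat.card E = p ^ 3 := by
    conv_lhs => rw [← hEeq]
    exact (H.om_props hZ hE).1
  obtain ⟨D⟩ := H.exists_rep hE le_rfl (inv_self E) hc hexp hcard (H.omS_le hE.1)
  obtain ⟨C, hC, hCZ, hCinv, α, hα, hfix, hinv, hcom⟩ :=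
    D.fixed le_rfl (fun x hx => H.conj_mem hE.1 D.b_mem hx) (H.omS_le hE.1) hZ
  have hCle : C ≤ coreOm F p E := le_sSup (s := {N | N ≤ om p S ∧ Inv F E N}) ⟨hCZ, hCinv⟩
  have hcore : coreOm F p E = C := by
    haveI := finite_of_le (H.coreOm_le.trans (om_le S) : coreOm F p E ≤ S)
    refine (Subgroup.eq_of_le_of_card_ge hCle ?_).symm
    have hlt : coreOm F p E < om p S :=
      lt_of_le_of_ne H.coreOm_le fun h => hE.2 (h ▸ H.inv_coreOm hE.1)
    have h1 := mul_card_le H.isPGroup (om_le S) hlt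
    rw [hZ, sq] at h1
    exact (Nat.le_of_mul_le_mul_left h1 hp.out.pos).trans
      (prime_le_card H.isPGroup (hCZ.trans (om_le S)) hC)
  -- `α` commutes with conjugation by the elements of `S`
  have hpow : ∀ (i : ℕ), ∀ x ∈ E, autFun α (D.b ^ i * x * (D.b ^ i)⁻¹) =
      D.b ^ i * autFun α x * (D.b ^ i)⁻¹ := by
    intro i
    induction i with
    | zero => intro x hx; simp
    | succ i ih =>
      intro x hx
      rw [show D.b ^ (i + 1) * x * (D.b ^ (i + 1))⁻¹ = D.b * (D.b ^ i * x * (D.b ^ i)⁻¹) * D.b⁻¹ by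
          rw [pow_succ']; group,
        hcom _ (H.conj_mem hE.1 (S.pow_mem D.b_mem i) hx), ih x hx, pow_succ']
      group
  have hconj : ∀ g ∈ S, ∀ x ∈ E, autFun α (g * x * g⁻¹) = g * autFun α x * g⁻¹ := by
    intro g hg x hx
    obtain ⟨i, e, he, rfl⟩ := (H.decomp hE.1 D.b_mem D.b_not).2 g hg
    have key : ∀ y ∈ E, e * D.b ^ i * y * (e * D.b ^ i)⁻¹ = D.b ^ i * y * (D.b ^ i)⁻¹ := by
      intro y hy
      calc e * D.b ^ i * y * (e * D.b ^ i)⁻¹ = e * (D.b ^ i * y * (D.b ^ i)⁻¹) * e⁻¹ := by group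
        _ = D.b ^ i * y * (D.b ^ i)⁻¹ := by
          rw [(hc e he _ (H.conj_mem hE.1 (S.pow_mem D.b_mem i) hy)).eq, mul_inv_cancel_right]
    rw [key x hx, key _ (autFun_mem α hx)]
    exact hpow i x hx
  obtain ⟨β, hβ, hβe⟩ := H.extend hE.1 hα fun γ hγ => by
    obtain ⟨g, hg, he⟩ := mem_autInducedBy.1 hγ
    refine mem_autInducedBy.2 ⟨g, hg, fun x => ?_⟩
    rw [← autFun_coe, autFun_mul _ _ x.2, autFun_mul _ _ (autFun_mem _ x.2),
      show autFun γ (autFun α⁻¹ x) = g * autFun α⁻¹ x * g⁻¹ by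
        rw [show autFun α⁻¹ (x : Ω) = ((α⁻¹ x : E) : Ω) from autFun_coe _ _, autFun_coe, he],
      hconj g hg _ (autFun_mem _ x.2), af_apply_inv α x.2]
  refine ⟨β, hβ, fun x hx => ?_, fun g hg x hx => ?_⟩
  · rw [hcore] at hx
    rw [hβe x (H.omS_le hE.1 (hCZ hx))]
    exact hfix x hx
  -- commutators
  have hmem : ∀ g ∈ S, ∀ x ∈ E, ⁅g, x⁆ ∈ E := fun g hg x hx => by
    rw [commutatorElement_def]; exact E.mul_mem (H.conj_mem hE.1 hg hx) (E.inv_mem hx)
  have hcomm : ∀ (i : ℕ), ∀ x ∈ E, autFun α ⁅D.b ^ i, x⁆ = ⁅D.b ^ i, x⁆⁻¹ := by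
    intro i
    induction i with
    | zero => intro x hx; simp [af_one]
    | succ i ih =>
      intro x hx
      have hbi := hmem _ (S.pow_mem D.b_mem i) x hx
      have e : ⁅D.b ^ (i + 1), x⁆ = ⁅D.b, ⁅D.b ^ i, x⁆⁆ * ⁅D.b ^ i, x⁆ * ⁅D.b, x⁆ := by
        rw [pow_succ']; simp only [commutatorElement_def]; group
      have m1 := hmem _ D.b_mem _ hbi
      have m2 := hmem _ D.b_mem x hx
      rw [e, af_mul α (E.mul_mem m1 hbi) m2, af_mul α m1 hbi, hinv _ hbi, hinv _ hx, ih x hx,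
        mul_inv_rev, mul_inv_rev,
        (hc _ (E.inv_mem m2) _ (E.mul_mem (E.inv_mem hbi) (E.inv_mem m1))).eq,
        (hc _ (E.inv_mem hbi) _ (E.inv_mem m1)).eq]
  rw [hβe _ (hmem g hg x hx)]
  obtain ⟨i, e, he, rfl⟩ := (H.decomp hE.1 D.b_mem D.b_not).2 g hg
  have e1 : ⁅e * D.b ^ i, x⁆ = ⁅D.b ^ i, x⁆ := by
    rw [show ⁅e * D.b ^ i, x⁆ = e * ⁅D.b ^ i, x⁆ * e⁻¹ * ⁅e, x⁆ by
      simp only [commutatorElement_def]; group,
      commutatorElement_eq_one_iff_mul_comm.2 (hc e he x hx), mul_one,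
      (hc e he _ (hmem _ (S.pow_mem D.b_mem i) x hx)).eq, mul_inv_cancel_right]
  rw [e1]
  exact hcomm i x hx

/-- A product of two inversions centralizing a line fixes `Ω₁(Z(S))`. -/
theorem core_eq_of_inversions {E E' : Subgroup Ω} (hE : Nt F p E) (hE' : Nt F p E') (hne : E ≠ E')
    (hab : phi p E = ⊥) (hab' : phi p E' = ⊥) {x : Ω} (hx : x ∈ coreOm F p E) :
    x ∈ coreOm F p E' := by
  obtain ⟨β, hβ, hfix, hinv⟩ := H.exists_inversion hZ hE hab
  obtain ⟨β', hβ', hfix', hinv'⟩ := H.exists_inversion hZ hE' hab'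
  obtain ⟨a, ha, haE'⟩ := H.exists_off hZ hE' hE hne.symm
  obtain ⟨a', ha', ha'E⟩ := H.exists_off hZ hE hE' hne
  have haS := H.le hE.1 ha.1
  have ha'S := H.le hE'.1 ha'.1
  set w := ⁅a', a⁆ with hw
  have hwE : w ∈ E := by
    rw [hw, commutatorElement_def]; exact E.mul_mem (H.conj_mem hE.1 ha'S ha.1) (E.inv_mem ha.1)
  have hwE' : w ∈ E' := by
    rw [hw, commutatorElement_def, mul_assoc, mul_assoc, ← mul_assoc a]
    exact E'.mul_mem ha'.1 (H.conj_mem hE'.1 haS (E'.inv_mem ha'.1))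
  obtain ⟨hc, hexp⟩ := of_phi_eq_bot hab
  obtain ⟨hc', -⟩ := of_phi_eq_bot hab'
  have hwZ : w ∈ om p S := H.omS_of_two hE.1 hE'.1 hne
    ⟨hwE, hexp w hwE, fun y hy => hc w hwE y hy⟩ fun y hy => hc' w hwE' y hy
  have hw1 : w ≠ 1 := fun h => haE' (H.omS_le hE'.1 (H.mem_omS hE.1 ha'S ha'E haS ha.2.1
    (fun y hy => hc a ha.1 y hy) (commutatorElement_eq_one_iff_mul_comm.1 h).symm))
  have hwinv : autFun β w = w⁻¹ := hinv a' ha'S a ha.1
  have hwinv' : autFun β' w = w⁻¹ := by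
    have h := hinv' a haS a' ha'.1
    rw [← commutatorElement_inv, af_inv β' (om_le S hwZ), inv_inj] at h
    exact h
  have hodd : ∀ y : Ω, y ^ p = 1 → y = y⁻¹ → y = 1 := by
    intro y hy h2
    obtain ⟨k, hk⟩ := hp.out.odd_of_ne_two H.p_ne
    have h3 : y ^ 2 = 1 := by rw [sq]; exact mul_eq_one_iff_eq_inv.2 h2
    rwa [hk, pow_succ, pow_mul, h3, one_pow, one_mul] at hy
  have hwC : w ∉ coreOm F p E' := fun h => hw1 (hodd w hwZ.2.1 (by rw [← hwinv', hfix' w h]))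
  -- `x` in terms of `w` and the line of `E'`
  have hcoreS : coreOm F p E' ≤ S := H.coreOm_le.trans (om_le S)
  have hnorm : Subgroup.zpowers w ≤ Subgroup.normalizer (coreOm F p E' : Set Ω) := by
    rw [Subgroup.zpowers_le]
    refine mem_normalizer_of_forall (fun y hy => ?_) fun y hy => ?_
    · rwa [(hwZ.2.2 y (hcoreS hy)).eq, mul_inv_cancel_right]
    · rwa [← (hwZ.2.2 y (hcoreS hy)).symm.inv_right.eq, mul_assoc, inv_mul_cancel, mul_one]
  have hsup : Subgroup.zpowers w ⊔ coreOm F p E' = om p S := by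
    have hle : Subgroup.zpowers w ⊔ coreOm F p E' ≤ om p S :=
      sup_le (Subgroup.zpowers_le.2 hwZ) H.coreOm_le
    haveI := finite_of_le (om_le (p := p) S)
    refine Subgroup.eq_of_le_of_card_ge hle ?_
    have hlt : coreOm F p E' < Subgroup.zpowers w ⊔ coreOm F p E' :=
      lt_of_le_of_ne le_sup_right fun h =>
        hwC (h.ge (Subgroup.mem_sup_left (Subgroup.mem_zpowers w)))
    refine le_trans ?_ (mul_card_le H.isPGroup (hle.trans (om_le S)) hlt)
    rw [hZ, sq]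
    refine Nat.mul_le_mul_left p (prime_le_card H.isPGroup hcoreS fun h => ?_)
    obtain ⟨hc'', hexp'⟩ := of_phi_eq_bot hab'
    have hcard' : Nat.card E' = p ^ 3 := by
      rw [← (H.om_props hZ hE').1, show om p E' = E' from
        le_antisymm (om_le _) fun y hy => ⟨hy, hexp' y hy, fun z hz => hc'' y hy z hz⟩]
    obtain ⟨D⟩ := H.exists_rep hE' le_rfl (inv_self E') hc'' hexp' hcard' (H.omS_le hE'.1)
    obtain ⟨C, hC, hCZ, hCi, -⟩ :=
      D.fixed le_rfl (fun y hy => H.conj_mem hE'.1 D.b_mem hy) (H.omS_le hE'.1) hZ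
    exact hC (eq_bot_iff.2 (h ▸ le_sSup (s := {N | N ≤ om p S ∧ Inv F E' N}) ⟨hCZ, hCi⟩))
  have hxZ := H.coreOm_le hx
  have hxmem : x ∈ ((Subgroup.zpowers w ⊔ coreOm F p E' : Subgroup Ω) : Set Ω) := hsup.ge hxZ
  rw [Subgroup.coe_mul_of_left_le_normalizer_right _ _ hnorm] at hxmem
  obtain ⟨wi, ⟨i, rfl⟩, c, hc0, rfl⟩ := hxmem
  -- the product of the inversions moves `x` by a power of `w`
  have hwi : w ^ i ∈ S := S.zpow_mem (om_le S hwZ) i
  have hcS := hcoreS hc0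
  have afz : ∀ (γ : MulAut S) {y : Ω}, y ∈ S → ∀ j : ℤ, autFun γ (y ^ j) = autFun γ y ^ j := by
    intro γ y hy j
    obtain ⟨n, rfl | rfl⟩ := j.eq_nat_or_neg
    · rw [zpow_natCast, zpow_natCast, af_pow γ hy]
    · rw [zpow_neg, zpow_neg, zpow_natCast, zpow_natCast, af_inv γ (S.pow_mem hy n), af_pow γ hy]
  have hwS := om_le S hwZ
  have hg : ∀ n : ℕ, autFun (((β * β') ^ n : MulAut S)) (w ^ i * c) =
      (w ^ (2 * i)) ^ n * (w ^ i * c) := by
    have hgw : autFun (β * β') w = w := by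
      rw [autFun_mul _ _ hwS, hwinv', af_inv β hwS, hwinv, inv_inv]
    have hgx : autFun (β * β') (w ^ i * c) = w ^ (2 * i) * (w ^ i * c) := by
      have e1 : autFun β' (w ^ i * c) = w ^ (-2 * i) * (w ^ i * c) := by
        rw [af_mul β' hwi hcS, afz β' hwS, hwinv', hfix' c hc0, ← mul_assoc, ← zpow_add, inv_zpow']
        congr 2
        ring
      rw [autFun_mul _ _ (S.mul_mem hwi hcS), e1,
        af_mul β (S.zpow_mem hwS _) (S.mul_mem hwi hcS), afz β hwS, hwinv, hfix _ hx, inv_zpow']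
      congr 2
      ring
    intro n
    induction n with
    | zero => rw [pow_zero, autFun_one (S.mul_mem hwi hcS), pow_zero, one_mul]
    | succ n ih =>
      rw [pow_succ', autFun_mul _ _ (S.mul_mem hwi hcS), ih,
        af_mul (β * β') (S.pow_mem (S.zpow_mem hwS _) n) (S.mul_mem hwi hcS),
        af_pow _ (S.zpow_mem hwS _), afz _ hwS, hgw, hgx, pow_succ, mul_assoc]
  -- the `p`-part acts trivially on `Ω₁(Z(S))`
  classical
  haveI : Finite (MulAut S) :=
    Finite.of_injective (fun e : MulAut S => (e : S → S)) DFunLike.coe_injective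
  obtain ⟨k, m, hm, hord⟩ := Nat.exists_eq_pow_mul_and_not_dvd
    (orderOf_pos (⟨β * β', mul_mem hβ hβ'⟩ : F.autGroup S)).ne' p hp.out.ne_one
  obtain ⟨-, R, hR⟩ := fullyAutomized_of_fullyNormalized H.isPGroup H.sat (fullyNormalized_self F)
  haveI : ((R : Subgroup (F.autGroup S))).Normal := by
    rw [hR, ← inn_eq_autInducedBy]; exact inn_subgroupOf_normal F S
  set g : F.autGroup S := ⟨β * β', mul_mem hβ hβ'⟩
  have hgm : g ^ m ∈ (R : Subgroup (F.autGroup S)) := by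
    have hpg : IsPGroup p (Subgroup.zpowers (g ^ m)) := by
      have h1 : orderOf (g ^ m) ∣ p ^ k := orderOf_dvd_of_pow_eq_one (by
        rw [← pow_mul, mul_comm, ← hord, pow_orderOf_eq_one])
      obtain ⟨j, -, hj⟩ := (Nat.dvd_prime_pow hp.out).1 h1
      exact IsPGroup.of_card (n := j) (by rw [Nat.card_zpowers, hj])
    have h1 := hpg.inf_normalizer_sylow R
    rw [show Subgroup.normalizer (R : Set (F.autGroup S)) = ⊤ from
      Subgroup.normalizer_eq_top (H := (R : Subgroup (F.autGroup S))), inf_top_eq] at h1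
    exact (inf_eq_left.1 h1.symm) (Subgroup.mem_zpowers _)
  rw [hR, Subgroup.mem_subgroupOf] at hgm
  obtain ⟨s, hs, hse⟩ := mem_autInducedBy.1 hgm
  have h1 := hg m
  have h2 : autFun ((β * β') ^ m) (w ^ i * c) = w ^ i * c := by
    rw [show w ^ i * c = ((⟨w ^ i * c, S.mul_mem hwi hcS⟩ : S) : Ω) from rfl, autFun_coe]
    refine (hse _).trans ?_
    show s * (w ^ i * c) * s⁻¹ = w ^ i * c
    rw [← (hxZ.2.2 s hs).eq, mul_inv_cancel_right]
  rw [h2, right_eq_mul, ← zpow_natCast, ← zpow_mul] at h1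
  have hord' : orderOf w = p := (EssThree.eq_one_or_orderOf hwZ.2.1).resolve_left hw1
  have hdvd := orderOf_dvd_iff_zpow_eq_one.2 h1
  rw [hord'] at hdvd
  have hpi : (p : ℤ) ∣ i := by
    rcases (Nat.prime_iff_prime_int.1 hp.out).dvd_mul.1 hdvd with h | h
    · rcases (Nat.prime_iff_prime_int.1 hp.out).dvd_mul.1 h with h' | h'
      · exact absurd ((Nat.prime_dvd_prime_iff_eq hp.out Nat.prime_two).1
          (Int.natCast_dvd_natCast.1 h')) H.p_ne
      · exact h'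
    · exact absurd (Int.natCast_dvd_natCast.1 h) hm
  have hwi1 : w ^ i = 1 := orderOf_dvd_iff_zpow_eq_one.1 (by rwa [hord'])
  show w ^ i * c ∈ coreOm F p E'
  rw [hwi1, one_mul]
  exact hc0

theorem coreOm_ne_bot (hE : Nt F p E) : coreOm F p E ≠ ⊥ := by
  intro h
  obtain ⟨hcard, -⟩ := H.om_props hZ hE
  obtain ⟨D⟩ := H.exists_rep hE (om_le E) (inv_om E) (fun x hx => hx.2.2) (fun x hx => hx.2.1)
    hcard (H.omS_le_om hE.1)
  obtain ⟨C, hC, hCZ, hCi, -⟩ := D.fixed (om_le E)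
    (fun x hx => H.normal_of_inv hE.1 (om_le E) (inv_om E) D.b_mem hx) (H.omS_le_om hE.1) hZ
  exact hC (eq_bot_iff.2 (h ▸ le_sSup (s := {N | N ≤ om p S ∧ Inv F E N}) ⟨hCZ, hCi⟩))

theorem omS_sq_false : False := by
  by_cases h0 : ∃ E, Nt F p E
  swap
  · push Not at h0
    refine H.false_of_common (N := om p S) ?_ le_rfl (inv_om S) fun E hE => absurd hE (h0 E)
    intro h
    rw [h, Subgroup.card_bot] at hZ
    exact absurd hZ.symm (Nat.one_lt_pow two_ne_zero hp.out.one_lt).ne'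
  obtain ⟨E₁, hE₁⟩ := h0
  by_cases h1 : ∃ E, Nt F p E ∧ E ≠ E₁
  swap
  · push Not at h1
    refine H.false_of_common (H.coreOm_ne_bot hZ hE₁) H.coreOm_le (fun β hβ x hx => ?_)
      fun E hE => by rw [h1 E hE]; exact H.inv_coreOm hE₁.1
    have h := H.coreOm_map hβ hE₁.1 hx
    rwa [h1 _ (H.nt_map hβ hE₁)] at h
  obtain ⟨E₂, hE₂, hne⟩ := h1
  have hphi : ∀ E E', Nt F p E → Nt F p E' → E ≠ E' → phi p E = phi p E' := by
    intro E E' hE hE' h
    obtain ⟨x, hx, hxE⟩ := H.exists_off hZ hE' hE h.symm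
    obtain ⟨x', hx', hx'E⟩ := H.exists_off hZ hE hE' h
    rw [H.phi_eq_inf (H.le hE.1) hE'.1 hx hxE, H.phi_eq_inf (H.le hE'.1) hE.1 hx' hx'E, inf_comm]
  have hall : ∀ E, Nt F p E → phi p E = phi p E₁ := fun E hE => by
    rcases eq_or_ne E E₁ with rfl | h
    · rfl
    · exact hphi E E₁ hE hE₁ h
  have hother : ∀ E, Nt F p E → ∃ E', Nt F p E' ∧ E' ≠ E := fun E hE => by
    rcases eq_or_ne E E₁ with rfl | h
    · exact ⟨E₂, hE₂, hne⟩
    · exact ⟨E₁, hE₁, h.symm⟩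
  by_cases hb : phi p E₁ = ⊥
  · refine H.false_of_common (H.coreOm_ne_bot hZ hE₁) H.coreOm_le (fun β hβ x hx => ?_)
      fun E hE => ?_
    · have hn := H.nt_map hβ hE₁
      have h := H.coreOm_map hβ hE₁.1 hx
      rcases eq_or_ne (fimg (autFun β) E₁) E₁ with he | he
      · rwa [he] at h
      · exact H.core_eq_of_inversions hZ hn hE₁ he (by rw [hall _ hn, hb]) hb h
    · rcases eq_or_ne E E₁ with rfl | he
      · exact H.inv_coreOm hE₁.1
      · have hbE : phi p E = ⊥ := by rw [hall E hE, hb]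
        intro α hα x hx
        exact H.core_eq_of_inversions hZ hE hE₁ he hbE hb (H.inv_coreOm hE.1 α hα x
          (H.core_eq_of_inversions hZ hE₁ hE he.symm hb hbE hx))
  · refine H.false_of_common (N := phi p E₁ ⊓ om p S) ?_ inf_le_right (fun β hβ x hx => ?_)
      fun E hE => ?_
    · intro h
      obtain ⟨z, hz, hzZ, hz1⟩ := exists_om_of_normal H.isPGroup ((phi_le E₁).trans (H.le hE₁.1))
        (fun s hs n hn => H.normal_of_inv hE₁.1 (phi_le E₁) (inv_phi le_rfl (inv_self E₁)) hs hn) hb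
      exact hz1 (Subgroup.mem_bot.1 (h ▸ Subgroup.mem_inf.2 ⟨hz, hzZ⟩))
    · refine ⟨?_, inv_om S β hβ x hx.2⟩
      rw [← hall _ (H.nt_map hβ hE₁)]
      exact H.phi_map (H.le hE₁.1) hx.1
    · rw [← hall E hE]
      intro α hα x hx
      obtain ⟨E', hE', he⟩ := hother E hE
      have hxE : x ∈ om p E := H.omS_le_om hE.1 hx.2
      refine ⟨inv_phi le_rfl (inv_self E) α hα x hx.1, ?_⟩
      have hy := inv_om (F := F) E α hα x hxE
      have hyphi := inv_phi le_rfl (inv_self E) α hα x hx.1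
      obtain ⟨v, hv, hvE'⟩ := H.exists_off hZ hE' hE he
      rw [H.phi_eq_inf (H.le hE.1) hE'.1 hv hvE'] at hyphi
      have hyE' : autFun α x ∈ E' := (phi_le _ hyphi).2
      obtain ⟨-, hom⟩ := H.om_props hZ hE'
      exact H.omS_of_two hE.1 hE'.1 he.symm hy (hom _ hyE' hy.2.1).2.2

end sq

end Hyp

end Cfsg.Agent.Invol.EssNormal
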