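import Cfsg.Agent.Lib.Invol.EssNormal.RankTwo

/-!
# The structure of `S` when all essential subgroups are normal
-/

set_option autoImplicit false
set_option linter.style.haveILetI false
set_option linter.unusedSectionVars false

universe u

namespace Cfsg.Agent.Invol.EssNormal

open Cfsg FusionSystem Cfsg.Agent.Fus
open scoped commutatorElement

variable {Ω : Type u} [Group Ω] {S : Subgroup Ω} {p : ℕ} [hp : Fact p.Prime] {F : FusionSystem S}

theorem sectional_two_of_card [Finite S] (hS : IsPGroup p S) (hcard : Nat.card S ≤ p ^ 3)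
    (hna : ¬ ∀ a ∈ S, ∀ b ∈ S, Commute a b) : Cfsg.SectionalPRankLE p 2 S := by
  intro K N _ A hA hAp
  have hp1 := hp.out.one_lt
  by_contra hlt
  push Not at hlt
  have h1 : Nat.card (K ⧸ N) * Nat.card N ≤ p ^ 3 :=
    calc Nat.card (K ⧸ N) * Nat.card N = Nat.card K := N.card_eq_card_quotient_mul_card_subgroup.symm
      _ ≤ Nat.card S := Subgroup.card_le_card_group K
      _ ≤ p ^ 3 := hcard
  obtain ⟨k, hk⟩ := ((hS.to_subgroup K).to_quotient N).exists_card_eq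
  obtain ⟨l, hl⟩ := (((hS.to_subgroup K).to_quotient N).to_subgroup A).exists_card_eq
  rw [hl] at hlt
  have hl3 : 3 ≤ l := (Nat.pow_lt_pow_iff_right hp1).1 hlt
  have hAK : Nat.card A ≤ Nat.card (K ⧸ N) := Subgroup.card_le_card_group A
  have hN1 : Nat.card N = 1 := by
    have h3 : p ^ 3 ≤ Nat.card (K ⧸ N) :=
      ((Nat.pow_le_pow_right hp.out.pos hl3).trans_eq hl.symm).trans hAK
    by_contra hN
    have h2 : 2 ≤ Nat.card N := by
      have := Nat.card_pos (α := N)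
      omega
    have := (Nat.mul_le_mul h3 h2).trans h1
    have := Nat.pow_pos (n := 3) hp.out.pos
    omega
  rw [hN1, mul_one] at h1
  have hA3 : p ^ 3 ≤ Nat.card A := (Nat.pow_le_pow_right hp.out.pos hl3).trans_eq hl.symm
  have hAtop : A = ⊤ := Subgroup.eq_top_of_le_card A (h1.trans hA3)
  have hKtop : K = ⊤ := by
    refine Subgroup.eq_top_of_le_card K ?_
    rw [N.card_eq_card_quotient_mul_card_subgroup, hN1, mul_one]
    exact hcard.trans (hA3.trans hAK)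
  apply hna
  intro a ha b hb
  have hNbot : N = ⊥ := Subgroup.card_eq_one.1 hN1
  set ka : K := ⟨⟨a, ha⟩, hKtop ▸ Subgroup.mem_top _⟩
  set kb : K := ⟨⟨b, hb⟩, hKtop ▸ Subgroup.mem_top _⟩
  have h : (ka : K ⧸ N) * kb = kb * ka :=
    congrArg Subtype.val (hA.is_comm.comm (⟨_, hAtop ▸ Subgroup.mem_top _⟩ : A)
      ⟨_, hAtop ▸ Subgroup.mem_top _⟩)
  rw [← QuotientGroup.mk_mul, ← QuotientGroup.mk_mul, QuotientGroup.eq, hNbot, Subgroup.mem_bot,
    inv_mul_eq_one] at h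
  exact congrArg (fun x : K => ((x : S) : Ω)) h

namespace Hyp

variable [Finite S] (H : Hyp F p)
include H

theorem exists_nt (hne : S ≠ ⊥) : ∃ E, Nt F p E := by
  by_contra h
  push Not at h
  obtain ⟨z, -, hz, hz1⟩ := exists_om_of_normal H.isPGroup le_rfl
    (fun s hs n hn => S.mul_mem (S.mul_mem hs hn) (S.inv_mem hs)) hne
  exact H.false_of_common (N := om p S) (fun h0 => hz1 (Subgroup.mem_bot.1 (h0 ▸ hz))) le_rfl
    (inv_om S) fun E hE => absurd hE (h E)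

theorem card_om_cases {E : Subgroup Ω} (hE : Nt F p E) :
    Nat.card (om p E) ≤ p ^ 3 ∧ p * Nat.card (om p S) ≤ Nat.card (om p E) :=
  ⟨H.rank.card_elem ((om_le E).trans (H.le hE.1)) (fun a ha b hb => ha.2.2 b hb.1) fun a ha => ha.2.1,
    mul_card_le H.isPGroup ((om_le E).trans (H.le hE.1)) (H.omS_lt_om hE)⟩

theorem card_omS (hne : S ≠ ⊥) : Nat.card (om p S) = p := by
  obtain ⟨E, hE⟩ := H.exists_nt hne
  obtain ⟨h1, h2⟩ := H.card_om_cases hE
  obtain ⟨k, hk⟩ := exists_card_pow (A := om p S) H.isPGroup (om_le S)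
  rw [hk, ← pow_succ'] at h2
  have hk2 : k + 1 ≤ 3 := (Nat.pow_le_pow_iff_right hp.out.one_lt).1 (h2.trans h1)
  have hk3 : k ≤ 2 := by omega
  interval_cases k
  · exfalso
    obtain ⟨z, -, hz, hz1⟩ := exists_om_of_normal H.isPGroup le_rfl
      (fun s hs n hn => S.mul_mem (S.mul_mem hs hn) (S.inv_mem hs)) hne
    rw [pow_zero, Subgroup.card_eq_one] at hk
    exact hz1 (Subgroup.mem_bot.1 (hk ▸ hz))
  · rw [hk, pow_one]
  · exact (H.omS_sq_false hk).elim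

variable (hZ : Nat.card (om p S) = p)
include hZ

theorem om_cases {E : Subgroup Ω} (hE : Nt F p E) :
    Nat.card (om p E) = p ^ 2 ∨ Nat.card (om p E) = p ^ 3 := by
  obtain ⟨h1, h2⟩ := H.card_om_cases hE
  obtain ⟨k, hk⟩ := exists_card_pow (A := om p E) H.isPGroup ((om_le E).trans (H.le hE.1))
  rw [hk] at h1 h2 ⊢
  rw [hZ, ← sq] at h2
  have := (Nat.pow_le_pow_iff_right hp.out.one_lt).1 h1
  have := (Nat.pow_le_pow_iff_right hp.out.one_lt).1 h2
  interval_cases k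
  · exact Or.inl rfl
  · exact Or.inr rfl

theorem inv_eq_om {E N : Subgroup Ω} (hE : Nt F p E) (hN : N ≤ om p E) (hNi : Inv F E N)
    (hne : N ≠ ⊥) : N = om p E := by
  have hES := H.le hE.1
  haveI := finite_of_le ((om_le (p := p) E).trans hES)
  rcases H.om_cases hZ hE with h2 | h3
  · refine Subgroup.eq_of_le_of_card_ge hN ?_
    have hNS := hN.trans ((om_le E).trans hES)
    by_contra h
    push Not at h
    rw [h2] at h
    obtain ⟨z, hz, hzZ, hz1⟩ := exists_om_of_normal H.isPGroup hNS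
      (fun s hs n hn => H.normal_of_inv hE.1 (hN.trans (om_le E)) hNi hs hn) hne
    obtain ⟨k, hk⟩ := exists_card_pow (A := N) H.isPGroup hNS
    rw [hk, Nat.pow_lt_pow_iff_right hp.out.one_lt] at h
    haveI := finite_of_le hNS
    have hzp : Nat.card (Subgroup.zpowers z) = p := by
      rw [Nat.card_zpowers, orderOf_eq_prime hzZ.2.1 hz1]
    have heq : Subgroup.zpowers z = N := Subgroup.eq_of_le_of_card_ge (Subgroup.zpowers_le.2 hz) (by
      rw [hzp, hk]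
      exact (Nat.pow_le_pow_right hp.out.pos (Nat.le_of_lt_succ h)).trans_eq (pow_one p))
    exact H.no_inv_line hZ hE (heq ▸ Subgroup.zpowers_le.2 hzZ) hNi hne
  · obtain ⟨D⟩ := H.exists_rep hE (om_le E) (inv_om E) (fun x hx => hx.2.2) (fun x hx => hx.2.1) h3
      (H.omS_le_om hE.1)
    exact D.eq_of_inv H.p_ne (om_le E) (H.omS_le_om hE.1) hZ hN hNi hne

/-- The structure in the case of `b = 1`. -/
theorem structure_of_off (hr2 : ¬ Cfsg.SectionalPRankLE p 2 S) {E₁ E₂ : Subgroup Ω}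
    (hE₁ : Nt F p E₁) (hE₂ : F.IsEssential p E₂) {x : Ω} (hx : x ∈ om p E₁) (hx₂ : x ∉ E₂) :
    ∃ (A : Subgroup Ω) (s e : Ω), A ≤ S ∧ (∀ g ∈ S, ∀ a ∈ A, g * a * g⁻¹ ∈ A) ∧
      (∀ a ∈ A, ∀ b ∈ A, Commute a b) ∧ (∀ a ∈ A, a ^ p = 1) ∧ Nat.card A = p ^ 3 ∧
      Nat.card S = p ^ 4 ∧ s ∈ S ∧ s ∉ A ∧ s ^ p = 1 ∧ e ∈ A ∧
      ⁅s, ⁅s, e⁆⁆ ≠ 1 ∧ ⁅s, ⁅s, ⁅s, e⁆⁆⁆ = 1 := by
  have hES := H.le hE₁.1
  have hp1 := hp.out.one_lt
  haveI := finite_of_le hES
  haveI := finite_of_le (om_le (p := p) S)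
  have hbot : phi p E₁ = ⊥ := by
    by_contra hne
    obtain ⟨z, hz, hzZ, hz1⟩ := exists_om_of_normal H.isPGroup ((phi_le E₁).trans hES)
      (fun t ht n hn => H.normal_of_inv hE₁.1 (phi_le E₁) (inv_phi le_rfl (inv_self E₁)) ht hn) hne
    have heq := H.inv_eq_om hZ hE₁ (N := phi p E₁ ⊓ om p E₁) inf_le_right
      ((inv_phi le_rfl (inv_self E₁)).inf (inv_om E₁)) fun h0 =>
        hz1 (Subgroup.mem_bot.1 (h0 ▸ Subgroup.mem_inf.2 ⟨hz, H.omS_le_om hE₁.1 hzZ⟩))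
    have hxphi : x ∈ phi p E₁ := (heq.ge hx).1
    rw [H.phi_eq_inf hES hE₂ hx hx₂] at hxphi
    exact hx₂ (phi_le _ hxphi).2
  obtain ⟨hc, hexp⟩ := of_phi_eq_bot hbot
  have hEeq : om p E₁ = E₁ :=
    le_antisymm (om_le E₁) fun y hy => ⟨hy, hexp y hy, fun z hz => hc y hy z hz⟩
  have h3 : Nat.card E₁ = p ^ 3 := by
    rcases H.om_cases hZ hE₁ with h | h
    · rw [hEeq] at h
      refine absurd (sectional_two_of_card H.isPGroup ?_ fun hab => ?_) hr2
      · refine (H.natCard_index hE₁.1).trans ?_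
        rw [h, ← pow_succ']
      · exact (H.lt hE₁.1).not_ge fun g hg => H.center_le hE₁.1 hg fun y hy => hab g hg y (hES hy)
    · rwa [hEeq] at h
  have hS4 : Nat.card S = p ^ 4 := by
    refine le_antisymm ((H.natCard_index hE₁.1).trans_eq (by rw [h3, ← pow_succ'])) ?_
    have h := mul_card_le H.isPGroup le_rfl (H.lt hE₁.1)
    rwa [h3, ← pow_succ'] at h
  have hxS := hES hx.1
  obtain ⟨s, hs, hsE, hsp⟩ : ∃ s ∈ E₂, s ∉ E₁ ∧ s ^ p = 1 := by
    by_contra h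
    push Not at h
    refine hx₂ (H.series hE₂ (U := E₁ ⊓ E₂) inf_le_right (fun α hα y hy => ?_) hxS
      (fun u hu => hc x hx.1 u hu.1) fun y hy => ⟨?_, ?_⟩)
    · refine ⟨?_, autFun_mem α hy.2⟩
      by_contra hn
      exact h _ (autFun_mem α hy.2) hn (by rw [← af_pow α hy.2, hexp y hy.1, af_one])
    · rw [commutatorElement_def]
      exact E₁.mul_mem (H.conj_mem hE₁.1 (S.inv_mem (H.le hE₂ hy)) hx.1) (E₁.inv_mem hx.1)
    · rw [commutatorElement_def, mul_assoc, mul_assoc, ← mul_assoc x]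
      exact E₂.mul_mem (E₂.inv_mem hy) (H.conj_mem hE₂ hxS (by rw [inv_inv]; exact hy))
  have hsS := H.le hE₂ hs
  have hadd : ∀ a ∈ E₁, ∀ b ∈ E₁, ⁅s, a * b⁆ = ⁅s, a⁆ * ⁅s, b⁆ := fun a ha b hb => by
    refine comm_mul_right' ?_
    refine hc _ ?_ a ha
    rw [commutatorElement_def]
    exact E₁.mul_mem (H.conj_mem hE₁.1 hsS hb) (E₁.inv_mem hb)
  have hmem : ∀ a ∈ E₁, ⁅s, a⁆ ∈ E₁ := fun a ha => by
    rw [commutatorElement_def]
    exact E₁.mul_mem (H.conj_mem hE₁.1 hsS ha) (E₁.inv_mem ha)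
  have hfix : ∀ a ∈ E₁, ⁅s, a⁆ = 1 → a ∈ om p S := fun a ha h =>
    H.mem_omS hE₁.1 hsS hsE (hES ha) (hexp a ha) (fun y hy => hc a ha y hy)
      (commutatorElement_eq_one_iff_mul_comm.1 h).symm
  -- the elements moved into the centre
  let F₁ : Subgroup Ω :=
    { carrier := {a | a ∈ E₁ ∧ ⁅s, a⁆ ∈ om p S}
      one_mem' := ⟨E₁.one_mem, by rw [commutatorElement_one_right]; exact one_mem _⟩
      mul_mem' := fun {a b} ha hb => ⟨E₁.mul_mem ha.1 hb.1, by
        rw [hadd a ha.1 b hb.1]; exact mul_mem ha.2 hb.2⟩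
      inv_mem' := fun {a} ha => ⟨E₁.inv_mem ha.1, by
        have h := hadd a⁻¹ (E₁.inv_mem ha.1) a ha.1
        rw [inv_mul_cancel, commutatorElement_one_right] at h
        rw [eq_inv_of_mul_eq_one_left h.symm]
        exact inv_mem ha.2⟩ }
  have hF₁ : F₁ ≤ E₁ := fun a ha => ha.1
  haveI := finite_of_le (hF₁.trans hES)
  have hF₁le : Nat.card F₁ ≤ p ^ 2 := by
    let ad : F₁ →* om p S := MonoidHom.mk' (fun a => ⟨⁅s, (a : Ω)⁆, a.2.2⟩) fun a b =>
      Subtype.ext (hadd a a.2.1 b b.2.1)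
    rw [ad.ker.card_eq_card_quotient_mul_card_subgroup,
      Nat.card_congr (QuotientGroup.quotientKerEquivRange ad).toEquiv, sq]
    refine Nat.mul_le_mul ((Subgroup.card_le_card_group _).trans_eq hZ) (le_of_le_of_eq ?_ hZ)
    refine Nat.card_le_card_of_injective
      (fun a : ad.ker => (⟨((a : F₁) : Ω), hfix _ (a : F₁).2.1 (congrArg Subtype.val a.2)⟩ : om p S))
      fun a b hab => Subtype.ext (Subtype.ext (by simpa using hab))
  obtain ⟨e, he, hne⟩ : ∃ e ∈ E₁, ⁅s, e⁆ ∉ om p S := by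
    by_contra h
    push Not at h
    have hle : E₁ ≤ F₁ := fun a ha => ⟨ha, h a ha⟩
    have := Subgroup.card_le_of_le hle
    rw [h3] at this
    have := Nat.pow_lt_pow_right hp1 (show 2 < 3 by norm_num)
    omega
  have hdec : ∀ g ∈ S, ∃ i : ℕ, ∃ d ∈ E₁, g = d * s ^ i :=
    (H.decomp hE₁.1 hsS hsE).2
  have hF₁conj : ∀ g ∈ S, ∀ a ∈ F₁, g * a * g⁻¹ ∈ F₁ := by
    intro g hg a ha
    obtain ⟨i, d, hd, rfl⟩ := hdec g hg
    have hsa : s ^ i * a * (s ^ i)⁻¹ ∈ E₁ := H.conj_mem hE₁.1 (S.pow_mem hsS i) ha.1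
    rw [show d * s ^ i * a * (d * s ^ i)⁻¹ = d * (s ^ i * a * (s ^ i)⁻¹) * d⁻¹ by group,
      (hc d hd _ hsa).eq, mul_inv_cancel_right]
    refine ⟨hsa, ?_⟩
    rw [show ⁅s, s ^ i * a * (s ^ i)⁻¹⁆ = s ^ i * ⁅s, a⁆ * (s ^ i)⁻¹ by
      simp only [commutatorElement_def]; group, H.conj_omS (S.pow_mem hsS i) ha.2]
    exact ha.2
  haveI : ((om p S).subgroupOf S).Normal := ⟨fun z hz g => by
    have hz' : (z : Ω) ∈ om p S := hz
    show (g : Ω) * z * (g : Ω)⁻¹ ∈ om p S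
    rw [H.conj_omS g.2 hz']; exact hz'⟩
  haveI : (E₁.subgroupOf S).Normal := ⟨fun m hm g => H.conj_mem hE₁.1 g.2 hm⟩
  obtain ⟨⟨e', he'S⟩, he'E, he'Z, he'c⟩ := Grp.PSmall.exists_central_mod H.isPGroup
    ((om p S).subgroupOf S) (E₁.subgroupOf S) fun h => by
      have hle : E₁ ≤ om p S := fun y hy =>
        (h (show (⟨y, hES hy⟩ : S) ∈ E₁.subgroupOf S from hy) :)
      have := Subgroup.card_le_of_le hle
      rw [h3, hZ] at this
      have := Nat.pow_lt_pow_right hp1 (show 1 < 3 by norm_num)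
      rw [pow_one] at this
      omega
  have he'F : e' ∈ F₁ := ⟨he'E, by
    have h := he'c ⟨s, hsS⟩
    rw [Subgroup.mem_subgroupOf] at h
    simpa [commutatorElement_def] using h⟩
  have hF₁ge : Nat.card E₁ ≤ p * Nat.card F₁ := by
    have hlt : om p S < F₁ := lt_of_le_of_ne (fun z hz => ⟨H.omS_le hE₁.1 hz, by
      rw [H.comm_mem_omS hsS hz]; exact one_mem _⟩) fun h => he'Z (h.ge he'F)
    have h := mul_card_le H.isPGroup (hF₁.trans hES) hlt
    rw [hZ] at h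
    rw [h3, pow_succ', sq]
    exact Nat.mul_le_mul_left p h
  refine ⟨E₁, s, e, hES, fun g hg a ha => H.conj_mem hE₁.1 hg ha, hc, hexp, h3, hS4, hsS, hsE, hsp,
    he, fun h => hne (hfix _ (hmem e he) h), ?_⟩
  have h1 : ⁅s, e⁆ ∈ F₁ := comm_mem_of_index H.isPGroup hF₁ hES hF₁conj
    (fun g hg a ha => H.conj_mem hE₁.1 hg ha) hF₁ge hsS he
  exact H.comm_mem_omS hsS h1.2

/-- The case of natural modules of order `p ^ 3` inside all essential subgroups does not occur. -/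
theorem rank_three_false (hall : ∀ E, Nt F p E → ∀ P, F.IsEssential p P → om p E ≤ P)
    {E₁ : Subgroup Ω} (hE₁ : Nt F p E₁) (h3 : Nat.card (om p E₁) = p ^ 3) : False := by
  have hES := H.le hE₁.1
  have hVS : om p E₁ ≤ S := (om_le E₁).trans hES
  have hin : ∀ y ∈ E₁, y ^ p = 1 → y ∈ om p E₁ := fun y hy hyp =>
    H.rank.absorb hVS (fun a ha b hb => ha.2.2 b hb.1) (fun a ha => ha.2.1) h3.ge (hES hy) hyp
      fun a ha => (ha.2.2 y hy).symm
  refine H.false_of_invariant hVS ?_ (fun β hβ v hv => ?_)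
    fun P hP => ⟨hall E₁ hE₁ P hP, fun α hα v hv => ?_⟩
  · intro h
    rw [h, Subgroup.card_bot] at h3
    exact absurd h3.symm (Nat.one_lt_pow three_ne_zero hp.out.one_lt).ne'
  · have h := H.om_map hβ hES hv
    exact hin _ (hall _ (H.nt_map hβ hE₁) E₁ hE₁.1 h) h.2.1
  · have hVP := hall E₁ hE₁ P hP
    have hm : IsMap F P (autFun α) := (mem_autGroup (H.le hP)).1 hα
    by_cases hout : autFun α v ∈ E₁
    · exact hin _ hout (by rw [← af_pow α (hVP hv), hv.2.1, af_one])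
    exfalso
    set V' := fimg (autFun α) (om p E₁) with hV'
    have hV'S : V' ≤ S := (hm.res hVP).fimg_le_S
    have hu : autFun α v ∈ V' := apply_mem_fimg _ hv
    have huS := hV'S hu
    have hcap : V' ⊓ E₁ ≤ om p S := by
      rintro y ⟨hy, hyE⟩
      obtain ⟨w, hw, rfl⟩ := (hm.res hVP).mem_fimg_iff.1 hy
      have hwp : autFun α w ^ p = 1 := by rw [← af_pow α (hVP hw), hw.2.1, af_one]
      exact H.mem_omS hE₁.1 huS hout (hV'S hy) hwp (hin _ hyE hwp).2.2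
        (af_commute α (hVP hw) (hVP hv) (hw.2.2 v hv.1))
    haveI := finite_of_le (om_le (p := p) S)
    haveI : Finite ↥(V' ⊓ E₁) := finite_of_le (inf_le_left.trans hV'S)
    haveI : Finite (Subgroup.zpowers (autFun α v)) :=
      finite_of_le (S := S) (Subgroup.zpowers_le.2 huS)
    have h1 : Nat.card V' ≤ Nat.card ↥(V' ⊓ E₁) * Nat.card (Subgroup.zpowers (autFun α v)) := by
      refine card_mul_le fun y hy => ?_
      obtain ⟨i, d, hd, rfl⟩ := (H.decomp hE₁.1 huS hout).2 y (hV'S hy)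
      exact ⟨d, ⟨(V'.mul_mem_cancel_right (V'.pow_mem hu i)).1 hy, hd⟩, _,
        Subgroup.pow_mem _ (Subgroup.mem_zpowers _) i, rfl⟩
    have h2 := Subgroup.card_le_of_le hcap
    rw [hZ] at h2
    have h4 : Nat.card (Subgroup.zpowers (autFun α v)) ≤ p := by
      rw [Nat.card_zpowers]
      exact Nat.le_of_dvd hp.out.pos
        (orderOf_dvd_of_pow_eq_one (by rw [← af_pow α (hVP hv), hv.2.1, af_one]))
    rw [(hm.res hVP).card_fimg, h3] at h1
    have h5 := h1.trans (Nat.mul_le_mul h2 h4)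
    rw [← sq] at h5
    have := Nat.pow_lt_pow_right hp.out.one_lt (show 2 < 3 by norm_num)
    omega

omit hZ in
/-- The structure of `S`. -/
theorem main (hr2 : ¬ Cfsg.SectionalPRankLE p 2 S) :
    ∃ (A : Subgroup Ω) (s e : Ω), A ≤ S ∧ (∀ g ∈ S, ∀ a ∈ A, g * a * g⁻¹ ∈ A) ∧
      (∀ a ∈ A, ∀ b ∈ A, Commute a b) ∧ (∀ a ∈ A, a ^ p = 1) ∧ Nat.card A = p ^ 3 ∧
      Nat.card S = p ^ 4 ∧ s ∈ S ∧ s ∉ A ∧ s ^ p = 1 ∧ e ∈ A ∧
      ⁅s, ⁅s, e⁆⁆ ≠ 1 ∧ ⁅s, ⁅s, ⁅s, e⁆⁆⁆ = 1 := by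
  have hne : S ≠ ⊥ := fun h => hr2 fun K N _ A _ _ => by
    haveI : Subsingleton S := by rw [h]; infer_instance
    exact (Finite.card_le_one_iff_subsingleton.2 inferInstance).trans
      (Nat.one_le_pow _ _ hp.out.pos)
  have hZ := H.card_omS hne
  by_cases hoff : ∃ E₁ E₂, Nt F p E₁ ∧ F.IsEssential p E₂ ∧ ∃ x ∈ om p E₁, x ∉ E₂
  · obtain ⟨E₁, E₂, hE₁, hE₂, x, hx, hx₂⟩ := hoff
    exact H.structure_of_off hZ hr2 hE₁ hE₂ hx hx₂
  push Not at hoff
  have hall : ∀ E, Nt F p E → ∀ P, F.IsEssential p P → om p E ≤ P := fun E hE P hP x hx =>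
    hoff E P hE hP x hx
  obtain ⟨E₁, hE₁⟩ := H.exists_nt hne
  by_cases h3 : ∃ E, Nt F p E ∧ Nat.card (om p E) = p ^ 3
  · obtain ⟨E, hE, h⟩ := h3
    exact (H.rank_three_false hZ hall hE h).elim
  push Not at h3
  exact (H.natural_false hZ (fun E hE => (H.om_cases hZ hE).resolve_right (h3 E hE)) hall hE₁).elim

end Hyp

end Cfsg.Agent.Invol.EssNormal
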