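import Cfsg.Agent.Lib.Invol.EssNormal.Tools

/-!
# Sections of class two over a subgroup of order `p ^ 2`
-/

set_option autoImplicit false
set_option linter.style.haveILetI false
set_option linter.unusedSectionVars false

universe u

namespace Cfsg.Agent.Invol.EssNormal

open scoped commutatorElement
open EssThree (Rank3)

variable {G : Type*} [Group G] {p : ℕ} [hp : Fact p.Prime]

theorem rank3_quotient [Finite G] (h : Rank3 p G) (N : Subgroup G) [N.Normal] :
    Rank3 p (G ⧸ N) := by
  intro A B hBA hcomm hpow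
  set f := QuotientGroup.mk' N
  have hcard : ∀ C : Subgroup (G ⧸ N), Nat.card (C.comap f) = Nat.card C * Nat.card N := by
    intro C
    have h1 := (C.comap f).index_mul_card
    rw [Subgroup.index_comap_of_surjective _ (QuotientGroup.mk'_surjective N),
      N.card_eq_card_quotient_mul_card_subgroup, ← C.index_mul_card, mul_assoc] at h1
    exact Nat.eq_of_mul_eq_mul_left (Nat.pos_of_ne_zero C.index_ne_zero_of_finite) h1
  have h2 := h (A.comap f) (B.comap f) (Subgroup.comap_mono hBA)
    (fun a ha b hb => by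
      rw [Subgroup.mem_comap, map_commutatorElement]; exact hcomm _ ha _ hb)
    (fun a ha => by rw [Subgroup.mem_comap, map_pow]; exact hpow _ ha)
  rw [hcard, hcard, ← mul_assoc] at h2
  exact Nat.le_of_mul_le_mul_right h2 Nat.card_pos

theorem card_mul_le {A B C : Subgroup G} [Finite A] [Finite B]
    (h : ∀ c ∈ C, ∃ a ∈ A, ∃ b ∈ B, c = a * b) : Nat.card C ≤ Nat.card A * Nat.card B := by
  choose f hf g hg he using h
  rw [← Nat.card_prod]
  refine Nat.card_le_card_of_injective
    (fun c : C => ((⟨f c c.2, hf c c.2⟩ : A), (⟨g c c.2, hg c c.2⟩ : B))) fun a b hab => ?_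
  have h1 := congrArg (fun x => ((x.1 : A) : G) * ((x.2 : B) : G)) hab
  exact Subtype.ext ((he a a.2).trans (h1.trans (he b b.2).symm))

/-- Commutators in a group of class two, in a pair. -/
theorem comm_mul_left' {a b c : G} (h : Commute ⁅b, c⁆ a) : ⁅a * b, c⁆ = ⁅b, c⁆ * ⁅a, c⁆ := by
  rw [show ⁅a * b, c⁆ = a * ⁅b, c⁆ * a⁻¹ * ⁅a, c⁆ by simp only [commutatorElement_def]; group,
    ← h.eq, mul_inv_cancel_right]

theorem comm_mul_right' {a b c : G} (h : Commute ⁅a, c⁆ b) : ⁅a, b * c⁆ = ⁅a, b⁆ * ⁅a, c⁆ := by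
  rw [comm_mul_right, ← h.eq, mul_inv_cancel_right]

theorem comm_pow_right' {a b : G} (h : Commute ⁅a, b⁆ b) :
    ∀ n : ℕ, ⁅a, b ^ n⁆ = ⁅a, b⁆ ^ n
  | 0 => by rw [pow_zero, pow_zero, commutatorElement_one_right]
  | n + 1 => by
    rw [pow_succ', comm_mul_right' (by rw [comm_pow_right' h n]; exact h.pow_left n),
      comm_pow_right' h n, pow_succ']

theorem exists_pow_eq {m x : G} (hm : m ^ p = 1) (hx : x ∈ Subgroup.zpowers m) :
    ∃ i : ℕ, x = m ^ i := by
  obtain ⟨i, rfl⟩ := hx
  refine ⟨(i % p).toNat, ?_⟩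
  have hp0 : (p : ℤ) ≠ 0 := Int.natCast_ne_zero.2 hp.out.ne_zero
  show m ^ i = _
  rw [← zpow_natCast, Int.toNat_of_nonneg (Int.emod_nonneg i hp0)]
  conv_lhs => rw [← Int.emod_add_ediv_mul i p, zpow_add, zpow_mul', zpow_natCast, hm, one_zpow,
    mul_one]

/-- A group of exponent `p`, of class two with commutators in a central subgroup of order
`p ^ 2`, and of rank three, has order at most `p ^ 4`. -/
theorem card_le_four [Finite G] (hR : Rank3 p G) {M : Subgroup G} (hM : Nat.card M = p ^ 2)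
    (hcen : ∀ m ∈ M, ∀ g : G, Commute m g) (hcomm : ∀ a b : G, ⁅a, b⁆ ∈ M)
    (hexp : ∀ g : G, g ^ p = 1) : Nat.card G ≤ p ^ 4 := by
  classical
  by_contra hlt
  push Not at hlt
  have hGp : IsPGroup p (⊤ : Subgroup G) := fun x => ⟨1, Subtype.ext (by simpa using hexp x)⟩
  have hR3 : R3 p (⊤ : Subgroup G) := fun A B _ hBA hc hpw => hR A B hBA hc hpw
  have hp1 := hp.out.one_lt
  obtain ⟨a, haM⟩ : ∃ a, a ∉ M := by
    by_contra h
    push Not at h
    rw [show M = ⊤ from eq_top_iff.2 fun g _ => h g, Subgroup.card_top] at hM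
    have := Nat.pow_lt_pow_right hp1 (show 2 < 4 by norm_num)
    omega
  have hc' : ∀ x y g : G, Commute ⁅x, y⁆ g := fun x y g => hcen _ (hcomm x y) g
  let ad : G →* M := MonoidHom.mk' (fun x => ⟨⁅a, x⁆, hcomm a x⟩) fun x y =>
    Subtype.ext (comm_mul_right' (hc' a y x))
  have hadk : ∀ x, x ∈ ad.ker ↔ Commute a x := fun x => by
    rw [MonoidHom.mem_ker, ← Subtype.coe_inj]
    exact commutatorElement_eq_one_iff_mul_comm
  have hcardG : Nat.card G ≤ p ^ 2 * Nat.card ad.ker := by
    rw [ad.ker.card_eq_card_quotient_mul_card_subgroup,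
      Nat.card_congr (QuotientGroup.quotientKerEquivRange ad).toEquiv, ← hM]
    exact Nat.mul_le_mul_right _ (Subgroup.card_le_card_group _)
  -- elementary abelian subgroups containing `M`
  have hel : ∀ T : Set G, (∀ x ∈ T, ∀ y ∈ T, Commute x y) →
      Nat.card (Subgroup.closure ((M : Set G) ∪ T)) ≤ p ^ 3 := by
    intro T hT
    obtain ⟨h1, h2⟩ := closure_elem (p := p) (T := (M : Set G) ∪ T) (by
      rintro x (hx | hx) y (hy | hy)
      · exact hcen x hx y
      · exact hcen x hx y
      · exact (hcen y hy x).symm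
      · exact hT x hx y hy) fun x _ => hexp x
    exact hR3.card_elem le_top h1 h2
  have hstep : ∀ T : Set G, ∀ x : G, x ∉ Subgroup.closure ((M : Set G) ∪ T) →
      p * Nat.card (Subgroup.closure ((M : Set G) ∪ T)) ≤
        Nat.card (Subgroup.closure ((M : Set G) ∪ insert x T)) := by
    intro T x hx
    refine mul_card_le hGp le_top (lt_of_le_of_ne
      (Subgroup.closure_mono (Set.union_subset_union_right _ (Set.subset_insert _ _))) fun h => hx ?_)
    rw [h]
    exact Subgroup.subset_closure (Or.inr (Set.mem_insert _ _))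
  have h0 : Nat.card (Subgroup.closure ((M : Set G) ∪ (∅ : Set G))) = p ^ 2 := by
    rw [Set.union_empty, Subgroup.closure_eq, hM]
  have hMa : ∀ x ∈ ad.ker, x ∈ Subgroup.closure ((M : Set G) ∪ {a}) := by
    intro x hx
    by_contra hxn
    have h1 := hstep ∅ a (by rwa [Set.union_empty, Subgroup.closure_eq])
    rw [h0, ← pow_succ', show insert a (∅ : Set G) = {a} from by simp] at h1
    have h2 := (Nat.mul_le_mul_left p h1).trans (hstep {a} x hxn)
    rw [← pow_succ'] at h2
    have h3 := hel (insert x {a}) (by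
      rintro u (rfl | rfl) v (rfl | rfl)
      · exact Commute.refl _
      · exact ((hadk _).1 hx).symm
      · exact (hadk _).1 hx
      · exact Commute.refl _)
    have := Nat.pow_lt_pow_right hp1 (show 3 < 4 by norm_num)
    simp only [Nat.reduceAdd] at *
    omega
  have hker : Nat.card ad.ker ≤ p ^ 3 :=
    (Subgroup.card_le_of_le hMa).trans (hel {a} (by rintro u rfl v rfl; exact Commute.refl _))
  have hsurj : Function.Surjective ad := by
    rw [← MonoidHom.range_eq_top]
    refine Subgroup.eq_top_of_le_card _ ?_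
    by_contra h
    push Not at h
    obtain ⟨i, hi⟩ := exists_card_pow (A := ad.range.map M.subtype) hGp le_top
    rw [Subgroup.card_subtype] at hi
    rw [hM, hi, Nat.pow_lt_pow_iff_right hp1] at h
    have h1 : Nat.card G ≤ p * p ^ 3 := by
      rw [ad.ker.card_eq_card_quotient_mul_card_subgroup,
        Nat.card_congr (QuotientGroup.quotientKerEquivRange ad).toEquiv, hi]
      exact Nat.mul_le_mul ((Nat.pow_le_pow_right hp.out.pos (Nat.le_of_lt_succ h)).trans_eq
        (pow_one p)) hker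
    rw [← pow_succ'] at h1
    simp only [Nat.reduceAdd] at *
    omega
  -- a basis of `M`
  obtain ⟨m1, hm1, hm1ne⟩ : ∃ m ∈ M, m ≠ 1 := by
    refine (Subgroup.bot_or_exists_ne_one M).resolve_left fun h => ?_
    rw [h, Subgroup.card_bot] at hM
    exact absurd hM.symm (Nat.one_lt_pow two_ne_zero hp1).ne'
  have hz : Nat.card (Subgroup.zpowers m1) = p := by
    rw [Nat.card_zpowers]
    exact orderOf_eq_prime (hexp m1) hm1ne
  obtain ⟨m2, hm2, hm2n⟩ : ∃ m ∈ M, m ∉ Subgroup.zpowers m1 := by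
    by_contra h
    push Not at h
    have h1 := Subgroup.card_le_of_le (H := M) (K := Subgroup.zpowers m1) h
    rw [hM, hz] at h1
    have := Nat.pow_lt_pow_right hp1 (show 1 < 2 by norm_num)
    rw [pow_one] at this
    omega
  have hspan : ∀ m ∈ M, ∃ i j : ℕ, m = m1 ^ i * m2 ^ j := by
    intro m hm
    have hn : Subgroup.zpowers m1 ≤ Subgroup.normalizer (Subgroup.zpowers m2 : Set G) := by
      rw [Subgroup.zpowers_le]
      refine Subgroup.mem_normalizer_iff.2 fun x => ?_
      rw [(hcen m1 hm1 x).eq, mul_inv_cancel_right]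
    have hle : Subgroup.zpowers m1 ⊔ Subgroup.zpowers m2 = M := by
      refine Subgroup.eq_of_le_of_card_ge
        (sup_le (Subgroup.zpowers_le.2 hm1) (Subgroup.zpowers_le.2 hm2)) ?_
      have h1 := mul_card_le hGp le_top (B := Subgroup.zpowers m1)
        (A := Subgroup.zpowers m1 ⊔ Subgroup.zpowers m2)
        (lt_of_le_of_ne le_sup_left fun h => hm2n
          (h.ge (Subgroup.mem_sup_right (Subgroup.mem_zpowers m2))))
      rwa [hz, ← sq, ← hM] at h1
    have h2 : m ∈ ((Subgroup.zpowers m1 ⊔ Subgroup.zpowers m2 : Subgroup G) : Set G) := hle.ge hm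
    rw [Subgroup.coe_mul_of_left_le_normalizer_right _ _ hn] at h2
    obtain ⟨u, hu, v, hv, rfl⟩ := h2
    obtain ⟨i, rfl⟩ := exists_pow_eq (hexp m1) hu
    obtain ⟨j, rfl⟩ := exists_pow_eq (hexp m2) hv
    exact ⟨i, j, rfl⟩
  obtain ⟨b, hb⟩ := hsurj ⟨m1, hm1⟩
  obtain ⟨c, hc⟩ := hsurj ⟨m2, hm2⟩
  have hb' : ⁅a, b⁆ = m1 := congrArg Subtype.val hb
  have hcc : ⁅a, c⁆ = m2 := congrArg Subtype.val hc
  obtain ⟨i, j, hij⟩ := hspan _ (hcomm b c)
  set b' := b * a ^ ((p - 1) * j) with hb'def
  set c' := c * a ^ i with hc'def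
  have hba : ∀ x n, ⁅a ^ n, x⁆ = ⁅a, x⁆ ^ n := fun x n => by
    rw [← commutatorElement_inv, comm_pow_right' (hc' x a a) n, ← inv_pow, commutatorElement_inv]
  have hbc : ⁅b', c'⁆ = 1 := by
    rw [hb'def, hc'def, comm_mul_left' (hc' _ _ _), comm_mul_right' (hc' _ _ _),
      comm_mul_right' (hc' _ _ _), hba, hba, comm_pow_right' (hc' b a a) i, hcc,
      ← commutatorElement_inv a b, hb', hij,
      comm_pow_right' (a := a) (hc' a a a) i, show ⁅a, a⁆ = (1 : G) from
        commutatorElement_eq_one_iff_mul_comm.2 rfl, one_pow, one_pow, mul_one, inv_pow]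
    have hcm : Commute (m2 ^ j) (m1 ^ i)⁻¹ := ((hcen m2 hm2 m1).pow_pow j i).inv_right
    rw [show m2 ^ ((p - 1) * j) * (m1 ^ i * m2 ^ j * (m1 ^ i)⁻¹) = m2 ^ ((p - 1) * j) * m2 ^ j by
      rw [mul_assoc (m1 ^ i), hcm.eq, mul_inv_cancel_left], ← pow_add, ← Nat.succ_mul,
      Nat.succ_eq_add_one, Nat.sub_add_cancel hp.out.one_le, pow_mul, hexp, one_pow]
  have hb'M : b' ∉ M := fun h => hm1ne (by
    have h1 : ⁅a, b'⁆ = 1 := commutatorElement_eq_one_iff_mul_comm.2 (hcen _ h a).symm.eq
    rw [hb'def, comm_mul_right' (hc' _ _ _), hb', comm_pow_right' (hc' a a a),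
      show ⁅a, a⁆ = (1 : G) from commutatorElement_eq_one_iff_mul_comm.2 rfl, one_pow,
      mul_one] at h1
    exact h1)
  have hc'M : c' ∉ Subgroup.closure ((M : Set G) ∪ {b'}) := fun h => hm2n (by
    have hle : Subgroup.closure ((M : Set G) ∪ {b'}) ≤
        ((Subgroup.zpowers m1).subgroupOf M).comap ad := by
      refine (Subgroup.closure_le _).2 ?_
      rintro x (hx | rfl)
      · show ⁅a, x⁆ ∈ Subgroup.zpowers m1
        rw [commutatorElement_eq_one_iff_mul_comm.2 (hcen _ hx a).symm.eq]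
        exact one_mem _
      · show ⁅a, b'⁆ ∈ Subgroup.zpowers m1
        rw [hb'def, comm_mul_right' (hc' _ _ _), hb', comm_pow_right' (hc' a a a),
          show ⁅a, a⁆ = (1 : G) from commutatorElement_eq_one_iff_mul_comm.2 rfl, one_pow, mul_one]
        exact Subgroup.mem_zpowers m1
    have h1 : ⁅a, c'⁆ ∈ Subgroup.zpowers m1 := hle h
    rw [hc'def, comm_mul_right' (hc' _ _ _), hcc, comm_pow_right' (hc' a a a),
      show ⁅a, a⁆ = (1 : G) from commutatorElement_eq_one_iff_mul_comm.2 rfl, one_pow, mul_one] at h1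
    exact h1)
  have h1 := hstep ∅ b' (by rwa [Set.union_empty, Subgroup.closure_eq])
  rw [h0, ← pow_succ', show insert b' (∅ : Set G) = {b'} from by simp] at h1
  have h2 := (Nat.mul_le_mul_left p h1).trans (hstep {b'} c' hc'M)
  rw [← pow_succ'] at h2
  have h3 := hel (insert c' {b'}) (by
    have hh : Commute b' c' := commutatorElement_eq_one_iff_mul_comm.1 hbc
    rintro u (rfl | rfl) v (rfl | rfl)
    · exact Commute.refl _
    · exact hh.symm
    · exact hh
    · exact Commute.refl _)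
  have := Nat.pow_lt_pow_right hp1 (show 3 < 4 by norm_num)
  simp only [Nat.reduceAdd] at *
  omega

/-- The same for a section `X/B`, with `M` of index `p ^ 2` over `B`. -/
theorem card_le_four_sect {S : Subgroup G} [Finite S] (hR : R3 p S) {X M B : Subgroup G}
    (hX : X ≤ S) (hMX : M ≤ X) (hBM : B ≤ M) (hB : ∀ b ∈ B, ∀ x ∈ X, Commute b x)
    (hM : Nat.card M = p ^ 2 * Nat.card B) (hMc : ∀ m ∈ M, ∀ x ∈ X, ⁅x, m⁆ ∈ B)
    (hcomm : ∀ a ∈ X, ∀ b ∈ X, ⁅a, b⁆ ∈ M) (hpow : ∀ a ∈ X, a ^ p ∈ B) :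
    Nat.card X ≤ p ^ 4 * Nat.card B := by
  haveI : Finite X := Finite.of_injective _ (Subgroup.inclusion_injective hX)
  haveI : (B.subgroupOf X).Normal := ⟨fun b hb x => by
    show (x : G) * b * (x : G)⁻¹ ∈ B
    rw [← (hB (b : G) hb x x.2).eq, mul_inv_cancel_right]
    exact hb⟩
  set f := QuotientGroup.mk' (B.subgroupOf X)
  have hM' : Nat.card ((M.subgroupOf X).map f) = p ^ 2 := by
    have h1 := (f.comp (M.subgroupOf X).subtype).ker.card_eq_card_quotient_mul_card_subgroup
    rw [Nat.card_congr (QuotientGroup.quotientKerEquivRange (f.comp (M.subgroupOf X).subtype)).toEquiv,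
      MonoidHom.range_comp, Subgroup.range_subtype,
      show (f.comp (M.subgroupOf X).subtype).ker = (B.subgroupOf X).subgroupOf (M.subgroupOf X) by
        rw [← MonoidHom.comap_ker, QuotientGroup.ker_mk']; rfl,
      Nat.card_congr (Subgroup.subgroupOfEquivOfLe
        (show B.subgroupOf X ≤ M.subgroupOf X from fun x hx => hBM hx)).toEquiv,
      Nat.card_congr (Subgroup.subgroupOfEquivOfLe (hBM.trans hMX)).toEquiv,
      Nat.card_congr (Subgroup.subgroupOfEquivOfLe hMX).toEquiv, hM] at h1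
    haveI : Finite B := Finite.of_injective _ (Subgroup.inclusion_injective (hBM.trans (hMX.trans hX)))
    exact (Nat.eq_of_mul_eq_mul_right Nat.card_pos h1).symm
  have h := card_le_four (rank3_quotient (hR.rank3 hX) (B.subgroupOf X)) hM'
    (by
      rintro _ ⟨m, hm, rfl⟩ g
      obtain ⟨x, rfl⟩ := QuotientGroup.mk'_surjective (B.subgroupOf X) g
      refine Commute.symm (commutatorElement_eq_one_iff_mul_comm.1 ?_)
      rw [← map_commutatorElement]
      exact (QuotientGroup.eq_one_iff _).2 (hMc _ hm _ x.2))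
    (fun a b => by
      obtain ⟨a, rfl⟩ := QuotientGroup.mk'_surjective (B.subgroupOf X) a
      obtain ⟨b, rfl⟩ := QuotientGroup.mk'_surjective (B.subgroupOf X) b
      rw [← map_commutatorElement]
      exact Subgroup.mem_map_of_mem f (hcomm _ a.2 _ b.2))
    fun g => by
      obtain ⟨x, rfl⟩ := QuotientGroup.mk'_surjective (B.subgroupOf X) g
      rw [← map_pow]
      exact (QuotientGroup.eq_one_iff _).2 (hpow _ x.2)
  rw [(B.subgroupOf X).card_eq_card_quotient_mul_card_subgroup,
    Nat.card_congr (Subgroup.subgroupOfEquivOfLe (hBM.trans hMX)).toEquiv]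
  exact Nat.mul_le_mul_right _ h

/-- A central element of order `p` at most multiplies the order by `p`. -/
theorem card_zpowers_sup_le {M : Subgroup G} [Finite M] {w : G} (hw : w ^ p = 1)
    (hc : ∀ m ∈ M, Commute w m) :
    Nat.card (Subgroup.zpowers w ⊔ M : Subgroup G) ≤ p * Nat.card M := by
  have hn : Subgroup.zpowers w ≤ Subgroup.normalizer (M : Set G) := by
    rw [Subgroup.zpowers_le]
    refine Subgroup.mem_normalizer_iff.2 fun x => ⟨fun hx => ?_, fun hx => ?_⟩
    · rwa [(hc x hx).eq, mul_inv_cancel_right]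
    · have h1 := (hc _ hx).eq
      have h2 : x = w * x * w⁻¹ := by
        rw [← mul_assoc, ← mul_assoc] at h1
        have := congrArg (fun y => w⁻¹ * y) h1
        simp only [mul_assoc, inv_mul_cancel_left, inv_mul_cancel, mul_one] at this
        rw [← mul_assoc] at this
        exact this.symm
      rwa [h2]
  haveI : Finite (Subgroup.zpowers w) := Nat.finite_of_card_ne_zero (by
    rw [Nat.card_zpowers]
    exact fun h => hp.out.ne_zero (Nat.eq_zero_of_zero_dvd (h ▸ orderOf_dvd_of_pow_eq_one hw)))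
  refine le_trans (card_mul_le (A := Subgroup.zpowers w) (B := M) fun c hc' => ?_)
    (Nat.mul_le_mul_right _ ?_)
  · have h : c ∈ ((Subgroup.zpowers w ⊔ M : Subgroup G) : Set G) := hc'
    rw [Subgroup.coe_mul_of_left_le_normalizer_right _ _ hn] at h
    obtain ⟨u, hu, v, hv, rfl⟩ := h
    exact ⟨u, hu, v, hv, rfl⟩
  · rw [Nat.card_zpowers]
    exact Nat.le_of_dvd hp.out.pos (orderOf_dvd_of_pow_eq_one hw)

end Cfsg.Agent.Invol.EssNormal
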