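import Cfsg.Agent.Lib.Invol.EssNormal.PearlPhi

/-!
# Essential subgroups that are elementary of order `p ^ 2` or extraspecial of order `p ^ 3`
-/

set_option autoImplicit false
set_option linter.style.haveILetI false
set_option linter.unusedSectionVars false

universe u

namespace Cfsg.Agent.Invol.EssNormal

open Cfsg FusionSystem Cfsg.Agent.Fus
open scoped commutatorElement

variable {Ω : Type u} [Group Ω] {p : ℕ} [hp : Fact p.Prime] {S : Subgroup Ω} [Finite S]
  {F : FusionSystem S}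

/-- The shape of a pearl. -/
def IsPearl (p : ℕ) (E : Subgroup Ω) : Prop :=
  (Cfsg.IsElementaryAbelian p E ∧ Nat.card E = p ^ 2) ∨
    (Cfsg.IsExtraspecial p ↥E ∧ Nat.card E = p ^ 3 ∧ ∀ x ∈ E, x ^ p = 1)

theorem mem_normalizer_of_map {Y : Subgroup Ω} [Finite Y] {x : Ω}
    (h : ∀ y ∈ Y, x * y * x⁻¹ ∈ Y) : x ∈ Subgroup.normalizer (Y : Set Ω) := by
  have hmap : Y.map (MulAut.conj x).toMonoidHom = Y := by
    refine Subgroup.eq_of_le_of_card_ge ?_
      (Subgroup.card_map_of_injective (MulAut.conj x).injective).ge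
    rintro _ ⟨y, hy, rfl⟩
    exact h y hy
  refine Subgroup.mem_normalizer_iff.2 fun a => ⟨h a, fun ha => ?_⟩
  have ha' : x * a * x⁻¹ ∈ Y.map (MulAut.conj x).toMonoidHom := hmap.symm ▸ ha
  obtain ⟨y, hy, hye⟩ := ha'
  rwa [← show y = a from mul_left_cancel (mul_right_cancel hye)]

theorem comm_mul_left (a b y : Ω) : ⁅a * b, y⁆ = a * ⁅b, y⁆ * a⁻¹ * ⁅a, y⁆ := by
  simp only [commutatorElement_def]; group

variable (hS : IsPGroup p S) {E : Subgroup Ω} (hE : F.IsEssential p E)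
  (hidx : (frattini E).index = p ^ 2) (hsat : F.IsSaturated p)
include hS hE hidx hsat

/-- An essential subgroup whose Frattini subgroup is centralized, modulo its own Frattini
subgroup, by `E` and by an element outside, is a pearl. -/
theorem pearl_of_centralized (hp2 : p ≠ 2) {b : Ω} (hb : b ∈ normalizerIn S E) (hbE : b ∉ E)
    (hbM : ∀ u ∈ phi p E, ⁅b, u⁆ ∈ phi p (phi p E))
    (hEM : ∀ y ∈ E, ∀ u ∈ phi p E, ⁅y, u⁆ ∈ phi p (phi p E)) : IsPearl p E := by
  have hES := hE.1.1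
  haveI := finite_of_le hES
  set M := phi p E with hM
  set P2 := phi p M with hP2
  have hME : M ≤ E := phi_le E
  have hEp : IsPGroup p E := hS.to_le hES
  haveI : Finite M := finite_of_le (hME.trans hES)
  have hMp : IsPGroup p M := hS.to_le (hME.trans hES)
  have hMconj : ∀ s, (∀ d ∈ E, s * d * s⁻¹ ∈ E) → ∀ m ∈ M, s * m * s⁻¹ ∈ M :=
    fun s hs m hm => phi_conj hs hm
  have hP2conj : ∀ s, (∀ d ∈ E, s * d * s⁻¹ ∈ E) → ∀ m ∈ P2, s * m * s⁻¹ ∈ P2 :=
    fun s hs m hm => phi_conj (hMconj s hs) hm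
  have hEconj : ∀ y ∈ E, ∀ d ∈ E, y * d * y⁻¹ ∈ E :=
    fun y hy d hd => E.mul_mem (E.mul_mem hy hd) (E.inv_mem hy)
  have hMi : Inv F E M := inv_phi le_rfl (inv_self E)
  have hP2i : Inv F E P2 := inv_phi hME hMi
  have hP2M : P2 ≤ M := phi_le M
  have hbn : ∀ d ∈ E, b * d * b⁻¹ ∈ E := fun d hd => conjN hE hb hd
  have hbcomm : ∀ y ∈ E, ⁅b, y⁆ ∈ E := fun y hy => by
    rw [commutatorElement_def]; exact E.mul_mem (hbn y hy) (E.inv_mem hy)
  -- a criterion: an invariant subgroup containing `M` and `[b, E]` is `E`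
  have hcrit : ∀ X : Subgroup Ω, M ≤ X → X ≤ E → Inv F E X → (∀ y ∈ E, ⁅b, y⁆ ∈ X) → X = E := by
    intro X h1 h2 h3 h4
    rcases irr hS hE hidx hsat h1 h2 h3 with h | h
    · exact absurd (ess_act hS hE hb fun y hy => h ▸ comm_flip (h4 _ (E.inv_mem hy))) hbE
    · exact h
  -- the subgroup `C` generated by the commutators and `P2`
  set C := Subgroup.closure ({x | ∃ a ∈ E, ∃ c ∈ E, ⁅a, c⁆ = x} ∪ (P2 : Set Ω)) with hC
  have hCM : C ≤ M := (Subgroup.closure_le _).2 (by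
    rintro x (⟨a, ha, c, hc, rfl⟩ | hx)
    exacts [comm_mem_phi ha hc, hP2M hx])
  have hP2C : P2 ≤ C := fun x hx => Subgroup.subset_closure (Or.inr hx)
  have hcommC : ∀ a ∈ E, ∀ c ∈ E, ⁅a, c⁆ ∈ C :=
    fun a ha c hc => Subgroup.subset_closure (Or.inl ⟨a, ha, c, hc, rfl⟩)
  have hCi : Inv F E C := by
    intro α hα x hx
    let K : Subgroup Ω :=
      { carrier := {x | x ∈ E ∧ autFun α x ∈ C}
        one_mem' := ⟨E.one_mem, by rw [af_one]; exact one_mem _⟩
        mul_mem' := fun {a b} ha hb => ⟨E.mul_mem ha.1 hb.1, by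
          rw [af_mul α ha.1 hb.1]; exact mul_mem ha.2 hb.2⟩
        inv_mem' := fun {a} ha => ⟨E.inv_mem ha.1, by rw [af_inv α ha.1]; exact inv_mem ha.2⟩ }
    have hle : C ≤ K := (Subgroup.closure_le _).2 (by
      rintro x (⟨a, ha, c, hc, rfl⟩ | hx)
      · exact ⟨hME (comm_mem_phi ha hc), by
          rw [af_comm α ha hc]; exact hcommC _ (autFun_mem α ha) _ (autFun_mem α hc)⟩
      · exact ⟨hME (hP2M hx), hP2C (hP2i α hα x hx)⟩)
    exact (hle hx).2
  haveI : (C.subgroupOf E).Normal := ⟨fun m hm g => by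
    have h1 := hcommC g g.2 m m.2
    show (g : Ω) * m * (g : Ω)⁻¹ ∈ C
    rw [show (g : Ω) * m * (g : Ω)⁻¹ = ⁅(g : Ω), (m : Ω)⁆ * m by
      rw [commutatorElement_def]; group]
    exact mul_mem h1 hm⟩
  set f := QuotientGroup.mk' (C.subgroupOf E)
  have hf : ∀ h : E, f h = 1 ↔ (h : Ω) ∈ C := fun h =>
    (QuotientGroup.eq_one_iff h).trans Subgroup.mem_subgroupOf
  have hfc : ∀ a c : E, Commute (f a) (f c) := fun a c => by
    rw [commute_iff_eq, ← commutatorElement_eq_one_iff_mul_comm, ← map_commutatorElement, hf]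
    exact hcommC a a.2 c c.2
  let K₀ : Subgroup Ω :=
    { carrier := {y | ∃ h : y ∈ E, f ⟨y, h⟩ ^ p = 1}
      one_mem' := ⟨E.one_mem, by rw [show (⟨1, E.one_mem⟩ : E) = 1 from rfl, map_one, one_pow]⟩
      mul_mem' := fun {a c} ⟨ha, ha'⟩ ⟨hc, hc'⟩ => ⟨E.mul_mem ha hc, by
        rw [show (⟨a * c, E.mul_mem ha hc⟩ : E) = ⟨a, ha⟩ * ⟨c, hc⟩ from rfl, map_mul,
          (hfc _ _).mul_pow, ha', hc', one_mul]⟩
      inv_mem' := fun {a} ⟨ha, ha'⟩ => ⟨E.inv_mem ha, by
        rw [show (⟨a⁻¹, E.inv_mem ha⟩ : E) = (⟨a, ha⟩ : E)⁻¹ from rfl, map_inv, inv_pow, ha',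
          inv_one]⟩ }
  have hK₀ : ∀ {y} (hy : y ∈ E), y ∈ K₀ ↔ y ^ p ∈ C := fun {y} hy => by
    refine ⟨fun ⟨_, h⟩ => ?_, fun h => ⟨hy, ?_⟩⟩
    · rw [← map_pow, hf] at h; exact h
    · rw [← map_pow, hf]; exact h
  have hMC : M ≤ C := by
    have hK : K₀ = E := by
      refine hcrit K₀ (fun u hu => (hK₀ (hME hu)).2 (hP2C (pow_mem_phi hu))) (fun y hy => hy.1)
        (fun α hα y hy => (hK₀ (autFun_mem α hy.1)).2 (by
          rw [← af_pow α hy.1]; exact hCi α hα _ ((hK₀ hy.1).1 hy)))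
        fun y hy => ⟨hbcomm y hy, ?_⟩
      have hby : b * y * b⁻¹ ∈ E := hbn y hy
      have h1 : f ⟨b * y * b⁻¹, hby⟩ = f ⟨⁅b, y⁆, hbcomm y hy⟩ * f ⟨y, hy⟩ := by
        rw [← map_mul]
        refine congrArg f (Subtype.ext ?_)
        show b * y * b⁻¹ = ⁅b, y⁆ * y
        rw [commutatorElement_def]; group
      have h2 : f ⟨b * y * b⁻¹, hby⟩ ^ p = f ⟨y, hy⟩ ^ p := by
        rw [← map_pow, ← map_pow, ← mul_inv_eq_one, ← map_inv, ← map_mul, hf]
        show (b * y * b⁻¹) ^ p * (y ^ p)⁻¹ ∈ C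
        rw [conj_pow, ← commutatorElement_def]
        exact hP2C (hbM _ (pow_mem_phi hy))
      rw [h1, (hfc _ _).mul_pow] at h2
      exact mul_eq_right.1 h2
    exact phi_le_iff.2 ⟨hcommC, fun a ha => (hK₀ ha).1 (hK.ge ha)⟩
  -- two generators
  have hME' : M < E := lt_of_le_of_ne hME fun h => by
    have hc := card_two hS hE hidx hsat
    rw [← hM, h] at hc
    have h4 : 1 < p ^ 2 := Nat.one_lt_pow two_ne_zero hp.out.one_lt
    have := Nat.card_pos (α := E)
    nlinarith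
  obtain ⟨-, y₁, hy₁, hy₁M⟩ := SetLike.lt_iff_le_and_exists.1 hME'
  set X₁ := Subgroup.closure ((M : Set Ω) ∪ {y₁}) with hX₁
  have hX₁E : X₁ ≤ E := (Subgroup.closure_le _).2 (Set.union_subset hME (by simpa using hy₁))
  have hMX₁ : M < X₁ := lt_of_le_of_ne (fun m hm => Subgroup.subset_closure (Or.inl hm))
    fun h => hy₁M (h.ge (Subgroup.subset_closure (Or.inr rfl)))
  have hX₁lt : X₁ < E := by
    refine lt_of_le_of_ne hX₁E fun h => ?_
    have hz : Subgroup.zpowers y₁ = E := eq_of_sup_phi hEp (Subgroup.zpowers_le.2 hy₁) (by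
      refine h.ge.trans ?_
      refine (Subgroup.closure_le _).2 (Set.union_subset ?_ ?_)
      · exact fun m hm => Subgroup.mem_sup_right hm
      · simpa using Subgroup.mem_sup_left (Subgroup.mem_zpowers y₁))
    have ho : Nat.card E = orderOf y₁ := by rw [← hz, Nat.card_zpowers]
    have hd : orderOf y₁ ∣ p * orderOf (y₁ ^ p) := by
      refine orderOf_dvd_of_pow_eq_one ?_
      rw [pow_mul, pow_orderOf_eq_one]
    have hle : orderOf (y₁ ^ p) ≤ Nat.card M := by
      rw [← Nat.card_zpowers]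
      exact Subgroup.card_le_of_le (Subgroup.zpowers_le.2 (pow_mem_phi hy₁))
    have hpos : 0 < orderOf (y₁ ^ p) := by
      haveI : Finite (Subgroup.zpowers (y₁ ^ p)) :=
        finite_of_le ((Subgroup.zpowers_le.2 (E.pow_mem hy₁ p)).trans hES)
      rw [← Nat.card_zpowers]; exact Nat.card_pos
    have h5 := (Nat.le_of_dvd (Nat.mul_pos hp.out.pos hpos) hd).trans
      (Nat.mul_le_mul_left p hle)
    rw [← ho, card_two hS hE hidx hsat, sq, mul_assoc] at h5
    have h6 := Nat.le_of_mul_le_mul_left h5 hp.out.pos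
    have := Nat.card_pos (α := M)
    nlinarith [hp.out.two_le]
  obtain ⟨-, y₂, hy₂, hy₂X⟩ := SetLike.lt_iff_le_and_exists.1 hX₁lt
  have hgen : E ≤ Subgroup.closure ((M : Set Ω) ∪ {y₁, y₂}) := by
    have hle : Subgroup.closure ((M : Set Ω) ∪ {y₁, y₂}) ≤ E :=
      (Subgroup.closure_le _).2 (Set.union_subset hME (by
        rintro x (rfl | rfl) <;> assumption))
    haveI := finite_of_le (hle.trans hES)
    have hlt : X₁ < Subgroup.closure ((M : Set Ω) ∪ {y₁, y₂}) := by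
      refine lt_of_le_of_ne (Subgroup.closure_mono (Set.union_subset_union_right _ (by simp)))
        fun h => hy₂X (h.ge (Subgroup.subset_closure (Or.inr (Or.inr rfl))))
    refine (Subgroup.eq_of_le_of_card_ge hle ?_).ge
    rw [card_two hS hE hidx hsat, sq, mul_assoc]
    exact (Nat.mul_le_mul_left p (mul_card_le hS (hX₁E.trans hES) hMX₁)).trans
      (mul_card_le hS (hle.trans hES) hlt)
  have hgenE : ∀ y ∈ Subgroup.closure ((M : Set Ω) ∪ {y₁, y₂}), y ∈ E := fun y hy =>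
    (Subgroup.closure_le E).2 (Set.union_subset hME (by rintro x (rfl | rfl) <;> assumption)) hy
  set c := ⁅y₁, y₂⁆ with hc
  have hcM : c ∈ M := comm_mem_phi hy₁ hy₂
  set X := Subgroup.closure (({c} : Set Ω) ∪ (P2 : Set Ω)) with hX
  have hcX : c ∈ X := Subgroup.subset_closure (Or.inl rfl)
  have hP2X : P2 ≤ X := fun x hx => Subgroup.subset_closure (Or.inr hx)
  have hXM : X ≤ M := (Subgroup.closure_le _).2 (Set.union_subset (by simpa using hcM) hP2M)
  have hXconj : ∀ a ∈ E, ∀ m ∈ X, a * m * a⁻¹ ∈ X := fun a ha m hm => by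
    rw [show a * m * a⁻¹ = ⁅a, m⁆ * m by rw [commutatorElement_def]; group]
    exact X.mul_mem (hP2X (hEM a ha m (hXM hm))) hm
  have hcc : ∀ a ∈ E, ∀ d ∈ E, ⁅a, d⁆ ∈ X := by
    have h1 : ∀ t ∈ (M : Set Ω) ∪ {y₁, y₂}, ∀ d ∈ E, ⁅t, d⁆ ∈ X := by
      intro t ht d hd
      refine comm_mem_closure (fun a ha m hm => hXconj a (hgenE a ha) m hm) (fun s hs => ?_)
        (hgen hd)
      rcases ht with ht | rfl | rfl
      · rcases hs with hs | rfl | rfl
        · exact hP2X (comm_mem_phi ht hs)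
        · exact hP2X (comm_flip (hEM _ hy₁ t ht))
        · exact hP2X (comm_flip (hEM _ hy₂ t ht))
      · rcases hs with hs | rfl | rfl
        · exact hP2X (hEM _ hy₁ s hs)
        · rw [commutatorElement_self]; exact X.one_mem
        · exact hcX
      · rcases hs with hs | rfl | rfl
        · exact hP2X (hEM _ hy₂ s hs)
        · exact comm_flip hcX
        · rw [commutatorElement_self]; exact X.one_mem
    intro a ha d hd
    exact comm_flip (comm_mem_closure (fun a ha m hm => hXconj a (hgenE a ha) m hm)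
      (fun t ht => comm_flip (h1 t ht d hd)) (hgen ha))
  have hMX : M ≤ X := hMC.trans ((Subgroup.closure_le _).2 (by
    rintro x (⟨a, ha, d, hd, rfl⟩ | hx)
    exacts [hcc a ha d hd, hP2X hx]))
  have hMc : Subgroup.zpowers c = M := eq_of_sup_phi hMp (Subgroup.zpowers_le.2 hcM) (hMX.trans
    ((Subgroup.closure_le _).2 (Set.union_subset
      (by simpa using Subgroup.mem_sup_left (Subgroup.mem_zpowers c))
      fun x hx => Subgroup.mem_sup_right hx)))
  have hconjc : ∀ s, (∀ d ∈ E, s * d * s⁻¹ ∈ E) → ∃ i : ℤ, s * c * s⁻¹ = c ^ i := fun s hs => by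
    obtain ⟨i, hi⟩ := Subgroup.mem_zpowers_iff.1 (hMc.ge (hMconj s hs c hcM))
    exact ⟨i, hi.symm⟩
  have hbinv : ∀ d ∈ E, b⁻¹ * d * b⁻¹⁻¹ ∈ E := fun d hd =>
    conjN hE (Subgroup.inv_mem _ hb) hd
  -- `M` is central in `E`
  have hcE : ∀ y ∈ E, Commute y c := by
    let C₁ : Subgroup Ω := E ⊓ Subgroup.centralizer ({c} : Set Ω)
    have hC₁ : C₁ = E := by
      refine hcrit C₁ (fun u hu => ⟨hME hu, ?_⟩) inf_le_left (fun α hα y hy => ?_) fun y hy => ?_
      · obtain ⟨i, rfl⟩ := Subgroup.mem_zpowers_iff.1 (hMc.ge hu)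
        exact Subgroup.mem_centralizer_singleton_iff.2 ((Commute.refl c).zpow_left i).eq
      · refine ⟨autFun_mem α hy.1, Subgroup.mem_centralizer_singleton_iff.2 ?_⟩
        have hc' : autFun α⁻¹ c ∈ M := hMi _ (inv_mem hα) c hcM
        obtain ⟨i, hi⟩ := Subgroup.mem_zpowers_iff.1 (hMc.ge hc')
        have hy' : Commute y c := Subgroup.mem_centralizer_singleton_iff.1 hy.2
        have h := af_commute α hy.1 (hME hc') (hi ▸ hy'.zpow_right i)
        rwa [af_apply_inv α (hME hcM)] at h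
      · refine ⟨hbcomm y hy, Subgroup.mem_centralizer_singleton_iff.2 ?_⟩
        obtain ⟨i, hi⟩ := hconjc b hbn
        obtain ⟨k, hk⟩ := hconjc b⁻¹ hbinv
        obtain ⟨j, hj⟩ := hconjc y (hEconj y hy)
        obtain ⟨l, hl⟩ := hconjc y⁻¹ (hEconj y⁻¹ (E.inv_mem hy))
        have hik : c ^ (i * k) = c := by
          rw [zpow_mul, ← hi, conj_zpow, ← hk]; group
        have hjl : c ^ (j * l) = c := by
          rw [zpow_mul, ← hj, conj_zpow, ← hl]; group
        have hcalc : ⁅b, y⁆ * c * ⁅b, y⁆⁻¹ = c := by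
          calc ⁅b, y⁆ * c * ⁅b, y⁆⁻¹
              = b * (y * (b⁻¹ * (y⁻¹ * c * y⁻¹⁻¹) * b⁻¹⁻¹) * y⁻¹) * b⁻¹ := by
                simp only [commutatorElement_def]; group
            _ = c ^ (i * k * (j * l)) := by
                rw [hl, ← conj_zpow, hk, ← zpow_mul, ← conj_zpow, hj, ← zpow_mul, ← conj_zpow, hi,
                  ← zpow_mul]
                congr 1
                ring
            _ = c := by rw [zpow_mul, hik, hjl]
        exact mul_inv_eq_iff_eq_mul.1 hcalc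
    exact fun y hy => Subgroup.mem_centralizer_singleton_iff.1 (hC₁.ge hy).2
  have hMcen : ∀ y ∈ E, ∀ u ∈ M, Commute y u := fun y hy u hu => by
    obtain ⟨i, rfl⟩ := Subgroup.mem_zpowers_iff.1 (hMc.ge hu)
    exact (hcE y hy).zpow_right i
  have hcp : c ^ p = 1 := by
    have h : ∀ n : ℕ, ⁅y₁ ^ n, y₂⁆ = c ^ n := by
      intro n
      induction n with
      | zero => simp
      | succ n ih =>
        rw [pow_succ, comm_mul_left, ih, ← hc, (hMcen _ (E.pow_mem hy₁ n) c hcM).eq,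
          mul_inv_cancel_right, ← pow_succ']
    rw [← h p]
    exact commutatorElement_eq_one_iff_mul_comm.2 (hMcen y₂ hy₂ _ (pow_mem_phi hy₁)).eq.symm
  have hMp1 : ∀ u ∈ M, u ^ p = 1 := fun u hu => by
    obtain ⟨i, rfl⟩ := Subgroup.mem_zpowers_iff.1 (hMc.ge hu)
    rw [← zpow_natCast, ← zpow_mul, mul_comm, zpow_mul, zpow_natCast, hcp, one_zpow]
  have hP2bot : P2 = ⊥ := le_bot_iff.1 (phi_le_iff.2 ⟨fun a ha d hd => Subgroup.mem_bot.2
    (commutatorElement_eq_one_iff_mul_comm.2 (hMcen a (hME ha) d hd).eq),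
    fun a ha => Subgroup.mem_bot.2 (hMp1 a ha)⟩)
  -- exponent `p`
  have hmulp : ∀ a ∈ E, ∀ d ∈ E, (a * d) ^ p = a ^ p * d ^ p := fun a ha d hd => by
    have e : d * a = ⁅d, a⁆ * (a * d) := by rw [commutatorElement_def]; group
    obtain ⟨k, hk⟩ := hp.out.dvd_choose_self (show 2 ≠ 0 by norm_num)
      (lt_of_le_of_ne hp.out.two_le (Ne.symm hp2))
    have hm : ⁅d, a⁆ ∈ M := comm_mem_phi hd ha
    rw [mul_pow_class_two e (hMcen a ha _ hm).symm (hMcen d hd _ hm).symm, hk, pow_mul,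
      hMp1 _ hm, one_pow, one_mul]
  let K₁ : Subgroup Ω :=
    { carrier := {y | y ∈ E ∧ y ^ p = 1}
      one_mem' := ⟨E.one_mem, one_pow p⟩
      mul_mem' := fun {a d} ha hd => ⟨E.mul_mem ha.1 hd.1, by
        rw [hmulp a ha.1 d hd.1, ha.2, hd.2, one_mul]⟩
      inv_mem' := fun {a} ha => ⟨E.inv_mem ha.1, by rw [inv_pow, ha.2, inv_one]⟩ }
  have hexp : ∀ y ∈ E, y ^ p = 1 := by
    have hK : K₁ = E := by
      refine hcrit K₁ (fun u hu => ⟨hME hu, hMp1 u hu⟩) (fun y hy => hy.1)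
        (fun α hα y hy => ⟨autFun_mem α hy.1, by rw [← af_pow α hy.1, hy.2, af_one]⟩)
        fun y hy => ⟨hbcomm y hy, ?_⟩
      have h1 : (b * y * b⁻¹) ^ p = y ^ p := by
        have h := hbM _ (pow_mem_phi (p := p) hy)
        rw [hP2bot, Subgroup.mem_bot, commutatorElement_eq_one_iff_mul_comm] at h
        rw [conj_pow, h, mul_inv_cancel_right]
      rw [show b * y * b⁻¹ = ⁅b, y⁆ * y by rw [commutatorElement_def]; group,
        hmulp _ (hbcomm y hy) y hy] at h1
      exact mul_eq_right.1 h1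
    exact fun y hy => (hK.ge hy).2
  by_cases hc1 : c = 1
  · left
    have hMbot : M = ⊥ := by rw [← hMc, hc1, Subgroup.zpowers_one_eq_bot]
    refine ⟨⟨⟨⟨fun a d => Subtype.ext ?_⟩⟩, hexp⟩, ?_⟩
    · exact commutatorElement_eq_one_iff_mul_comm.1
        (Subgroup.mem_bot.1 (hMbot ▸ comm_mem_phi a.2 d.2))
    · rw [card_two hS hE hidx hsat, ← hM, hMbot, Subgroup.card_bot, mul_one]
  right
  have hMcard : Nat.card M = p := by
    rw [← hMc, Nat.card_zpowers, orderOf_eq_prime hcp hc1]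
  have hfr : ∀ y : E, y ∈ frattini E ↔ (y : Ω) ∈ M := fun y => (mem_phi_iff hEp).symm
  have hcen : frattini E = Subgroup.center E := by
    refine le_antisymm (fun y hy => Subgroup.mem_center_iff.2 fun z => Subtype.ext
      (hMcen z z.2 _ ((hfr y).1 hy)).eq) ?_
    set Zc := (Subgroup.center E).map E.subtype
    rcases irr hS hE hidx hsat (X := Zc) (fun u hu => ⟨⟨u, hME hu⟩, Subgroup.mem_center_iff.2
      fun z => Subtype.ext (hMcen z z.2 u hu).eq, rfl⟩) (Subgroup.map_subtype_le _)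
      (fun α hα x hx => by
        obtain ⟨z, hz, rfl⟩ := hx
        rw [show E.subtype z = (z : Ω) from rfl, autFun_coe]
        refine ⟨α z, Subgroup.mem_center_iff.2 fun w => ?_, rfl⟩
        have h := congrArg α (Subgroup.mem_center_iff.1 hz (α.symm w))
        rwa [map_mul, map_mul, MulEquiv.apply_symm_apply] at h) with h | h
    · exact fun y hy => (hfr y).2 (h.le ⟨y, hy, rfl⟩)
    · exfalso
      apply hc1
      obtain ⟨z, hz, hzy⟩ := h.ge hy₁
      refine commutatorElement_eq_one_iff_mul_comm.2 ?_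
      have h' := congrArg Subtype.val (Subgroup.mem_center_iff.1 hz ⟨y₂, hy₂⟩)
      rw [← hzy]
      exact h'.symm
  refine ⟨⟨⟨hEp, hcen, ?_⟩, ?_⟩, ?_, hexp⟩
  · rw [← hcen]
    refine le_antisymm (Grp.pGroup_commutator_le_frattini hEp) fun y hy => ?_
    obtain ⟨i, hi⟩ := Subgroup.mem_zpowers_iff.1 (hMc.ge ((hfr y).1 hy))
    rw [show y = ⁅(⟨y₁, hy₁⟩ : E), ⟨y₂, hy₂⟩⁆ ^ i from Subtype.ext (by rw [Subgroup.coe_zpow]; exact hi.symm)]
    exact Subgroup.zpow_mem _
      (Subgroup.commutator_mem_commutator (Subgroup.mem_top _) (Subgroup.mem_top _)) i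
  · rw [← hcen]
    have h : (M.subgroupOf E) = frattini E := by
      ext y; rw [Subgroup.mem_subgroupOf, ← hfr]
    rw [← h, Nat.card_congr (Subgroup.subgroupOfEquivOfLe hME).toEquiv, hMcard]
  · rw [card_two hS hE hidx hsat, ← hM, hMcard, ← pow_succ]

/-- A non-normal essential subgroup with two generators is a pearl. -/
theorem pearl_of_not_normal (hp2 : p ≠ 2) (hR : R3 p S)
    (hnn : ¬ S ≤ Subgroup.normalizer (E : Set Ω)) : IsPearl p E := by
  have hES := hE.1.1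
  haveI := finite_of_le hES
  set N := normalizerIn S E with hN
  set P := normalizerIn S N with hP
  set M := phi p E with hM
  set P2 := phi p M with hP2
  haveI : Finite N := finite_of_le inf_le_left
  haveI : Finite P := finite_of_le inf_le_left
  have hPS : P ≤ S := inf_le_left
  have hEN : E ≤ N := le_normalizerIn hES
  have hNP : N ≤ P := le_normalizerIn inf_le_left
  have hME : M ≤ E := phi_le E
  haveI : Finite M := finite_of_le (hME.trans hES)
  have hNlt : N < S := lt_of_le_of_ne inf_le_left fun h => hnn (h ▸ inf_le_right)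
  obtain ⟨-, g, hg, hgN⟩ := SetLike.lt_iff_le_and_exists.1 (lt_normalizerIn hS hNlt)
  have hMP : ∀ s ∈ P, ∀ m ∈ M, s * m * s⁻¹ ∈ M := phi_normalP hS hE hidx hsat hR
  have hP2P : ∀ s ∈ P, ∀ m ∈ P2, s * m * s⁻¹ ∈ P2 := fun s hs m hm => phi_conj (hMP s hs) hm
  have hMi : Inv F E M := inv_phi le_rfl (inv_self E)
  let C : Subgroup Ω :=
    { carrier := {y | y ∈ E ∧ ∀ u ∈ M, ⁅y, u⁆ ∈ P2}
      one_mem' := ⟨E.one_mem, fun u _ => by rw [commutatorElement_one_left]; exact one_mem _⟩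
      mul_mem' := fun {a d} ha hd => ⟨E.mul_mem ha.1 hd.1, fun u hu => by
        rw [comm_mul_left]
        exact mul_mem (hP2P a (hNP (hEN ha.1)) _ (hd.2 u hu)) (ha.2 u hu)⟩
      inv_mem' := fun {a} ha => ⟨E.inv_mem ha.1, fun u hu => by
        rw [show ⁅a⁻¹, u⁆ = a⁻¹ * ⁅a, u⁆⁻¹ * a⁻¹⁻¹ by simp only [commutatorElement_def]; group]
        exact hP2P _ (hNP (hEN (E.inv_mem ha.1))) _ (inv_mem (ha.2 u hu))⟩ }
  have hMC : M ≤ C := fun m hm => ⟨hME hm, fun u hu => comm_mem_phi hm hu⟩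
  have hCi : Inv F E C := fun α hα y hy => ⟨autFun_mem α hy.1, fun u hu => by
    have h1 : autFun α⁻¹ u ∈ M := hMi _ (inv_mem hα) u hu
    have h2 := inv_phi hME hMi α hα _ (hy.2 _ h1)
    rwa [af_comm α hy.1 (hME h1), af_apply_inv α (hME hu)] at h2⟩
  rcases irr hS hE hidx hsat hMC (fun y hy => hy.1) hCi with hCM | hCE
  · exfalso
    -- `P` acts faithfully, modulo `M`, on a section of rank at most three
    obtain ⟨k, q, hqm, hq0, hqs, hqc⟩ := EssThree.exists_coord (p := p) (⊤ : Subgroup M)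
      (P2.subgroupOf M) le_top
      (fun a _ b _ => Subgroup.mem_subgroupOf.2 (comm_mem_phi a.2 b.2))
      (fun a _ => Subgroup.mem_subgroupOf.2 (pow_mem_phi a.2))
    have hk3 : k ≤ 3 := EssThree.dim_le_three (hR.rank3 (hME.trans hES)) (B := P2.subgroupOf M)
      le_top (fun a _ b _ => Subgroup.mem_subgroupOf.2 (comm_mem_phi a.2 b.2))
      (fun a _ => Subgroup.mem_subgroupOf.2 (pow_mem_phi a.2)) hqc
    have hPn : P ≤ Subgroup.normalizer (M : Set Ω) := mem_normalizer_of_group hMP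
    let act : P →* MulAut M := M.normalizerMonoidHom.comp (Subgroup.inclusion hPn)
    have hact : ∀ (s : P) (u : M), ((act s u : M) : Ω) = s * u * (s : Ω)⁻¹ := fun s u => rfl
    have hqm' : ∀ a b, q (a * b) = q a + q b := fun a b => hqm a trivial b trivial
    obtain ⟨r, hr⟩ := EssThree.exists_action q hqm'
      (fun v => let ⟨a, _, ha⟩ := hqs v; ⟨a, ha⟩) act fun m h h0 => by
        rw [hq0 _ trivial, Subgroup.mem_subgroupOf] at h0 ⊢
        rw [hact]
        exact hP2P m m.2 _ h0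
    have hker : ∀ s : P, r s = 1 → ∀ u ∈ M, ⁅(s : Ω), u⁆ ∈ P2 := fun s hs u hu => by
      have h2 : q (act s ⟨u, hu⟩) = q ⟨u, hu⟩ := by rw [hr, hs]; rfl
      have h3 := hqm' (act s ⟨u, hu⟩ * (⟨u, hu⟩ : M)⁻¹) ⟨u, hu⟩
      rw [inv_mul_cancel_right, h2] at h3
      have h4 := (hq0 _ trivial).1 (right_eq_add.1 h3)
      rw [Subgroup.mem_subgroupOf] at h4
      exact h4
    have hEM : ∀ s : P, r s = 1 → (s : Ω) ∈ E → (s : Ω) ∈ M := fun s hs hsE =>
      hCM.le ⟨hsE, hker s hs⟩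
    have hrcomm : ∀ s t : P, r s = 1 → r ⁅s, t⁆ = 1 := fun s t hs => by
      rw [map_commutatorElement, hs, commutatorElement_one_left]
    have hNM : ∀ s : P, r s = 1 → (s : Ω) ∈ N → (s : Ω) ∈ M := by
      intro s hs hsN
      refine hEM s hs (ess_act hS hE hsN fun y hy => comm_flip ?_)
      have hy' : y⁻¹ ∈ E := E.inv_mem hy
      have h : ((⁅s, (⟨y⁻¹, hNP (hEN hy')⟩ : P)⁆ : P) : Ω) ∈ M := hEM _ (hrcomm s _ hs) (by
        show ⁅(s : Ω), y⁻¹⁆ ∈ E
        rw [commutatorElement_def]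
        exact E.mul_mem (conjN hE hsN hy') (E.inv_mem hy'))
      exact h
    have hkerM : ∀ s : P, r s = 1 → (s : Ω) ∈ M := by
      intro s hs
      refine hNM s hs ⟨hPS s.2, mem_normalizer_of_map fun y hy => ?_⟩
      have hsy : (s : Ω) * y * (s : Ω)⁻¹ ∈ N := conj_normalizerIn s.2 (hEN hy)
      have h : ((⁅s, (⟨y, hNP (hEN hy)⟩ : P)⁆ : P) : Ω) ∈ M := hNM _ (hrcomm s _ hs) (by
        show ⁅(s : Ω), y⁆ ∈ N
        rw [commutatorElement_def]
        exact N.mul_mem hsy (N.inv_mem (hEN hy)))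
      rw [show (s : Ω) * y * (s : Ω)⁻¹ = ⁅(s : Ω), y⁆ * y by rw [commutatorElement_def]; group]
      exact E.mul_mem (hME h) hy
    have h1 : Nat.card r.range ≤ p ^ 3 :=
      card_le_of_linear hk3 _ ((hS.to_le hPS).of_surjective _ r.rangeRestrict_surjective)
    have h2 : Nat.card r.ker ≤ Nat.card M :=
      Nat.card_le_card_of_injective (fun s : r.ker => (⟨((s : P) : Ω), hkerM s s.2⟩ : M))
        fun s t h => Subtype.ext (Subtype.ext (congrArg (fun x : M => (x : Ω)) h))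
    have h3 : Nat.card P = Nat.card r.range * Nat.card r.ker := by
      rw [r.ker.card_eq_card_quotient_mul_card_subgroup,
        Nat.card_congr (QuotientGroup.quotientKerEquivRange r).toEquiv]
    have h4 := mul_card_le hS hPS (lt_of_le_of_ne hNP fun h => hgN (h ▸ hg))
    obtain ⟨b, hb, hbE⟩ := exists_outside hS hE hsat
    have h5 := mul_card_le hS (hNP.trans hPS) (lt_of_le_of_ne hEN fun h => hbE (h ▸ hb))
    have h6 := card_two hS hE hidx hsat
    rw [h3] at h4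
    have h7 := Nat.mul_le_mul h1 h2
    have h8 : p ^ 4 * Nat.card M ≤ p ^ 3 * Nat.card M := by
      calc p ^ 4 * Nat.card M = p * (p * Nat.card E) := by rw [h6]; ring
        _ ≤ p * Nat.card N := Nat.mul_le_mul_left p h5
        _ ≤ _ := h4.trans h7
    exact absurd (Nat.le_of_mul_le_mul_right h8 Nat.card_pos)
      (Nat.pow_lt_pow_right hp.out.one_lt (by norm_num)).not_ge
  · have hgn : g ∉ Subgroup.normalizer (E : Set Ω) := fun h => hgN ⟨hg.1, h⟩
    obtain ⟨y, hy, hyE⟩ : ∃ y ∈ E, g * y * g⁻¹ ∉ E := by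
      by_contra h
      push Not at h
      exact hgn (mem_normalizer_of_map h)
    have hEM : ∀ y ∈ E, ∀ u ∈ M, ⁅y, u⁆ ∈ P2 := fun y hy => (hCE.ge hy).2
    refine pearl_of_centralized hS hE hidx hsat hp2 (conj_normalizerIn hg (hEN hy)) hyE
      (fun u hu => ?_) hEM
    rw [show ⁅g * y * g⁻¹, u⁆ = g * ⁅y, g⁻¹ * u * g⁆ * g⁻¹ by
      simp only [commutatorElement_def]; group]
    refine hP2P g hg _ (hEM y hy _ ?_)
    have h := hMP g⁻¹ (P.inv_mem hg) u hu
    rwa [inv_inv] at h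

end Cfsg.Agent.Invol.EssNormal
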