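import Cfsg.Agent.Lib.Invol.EssNormal.Setting
import Cfsg.Agent.Lib.Classical.GLTwoSylow

/-!
# Essential subgroups with two generators: the action on the Frattini quotient
-/

set_option autoImplicit false
set_option linter.style.haveILetI false
set_option linter.unusedSectionVars false

universe u

namespace Cfsg.Agent.Invol.EssNormal

open Cfsg FusionSystem Cfsg.Agent.Fus
open scoped commutatorElement

variable {Ω : Type u} [Group Ω] {p : ℕ} [hp : Fact p.Prime]

/-! ### Frattini subgroups -/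

theorem mem_phi_iff {E : Subgroup Ω} [Finite E] (hE : IsPGroup p E) {y : E} :
    (y : Ω) ∈ phi p E ↔ y ∈ frattini E := by
  constructor
  · have hle : phi p E ≤ (frattini E).map E.subtype := phi_le_iff.2
      ⟨fun a ha b hb => ⟨⁅(⟨a, ha⟩ : E), ⟨b, hb⟩⁆, Grp.pGroup_commutator_le_frattini hE
          (Subgroup.commutator_mem_commutator (Subgroup.mem_top _) (Subgroup.mem_top _)), rfl⟩,
        fun a ha => ⟨(⟨a, ha⟩ : E) ^ p, Grp.pGroup_pow_mem_frattini hE _, rfl⟩⟩
    intro hy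
    obtain ⟨z, hz, hzy⟩ := hle hy
    rwa [← Subtype.ext hzy]
  · haveI : ((phi p E).subgroupOf E).Normal := ⟨fun m hm g => by
      have h1 : ⁅(g : Ω), (m : Ω)⁆ ∈ phi p E := comm_mem_phi g.2 (phi_le E hm)
      show (g : Ω) * m * (g : Ω)⁻¹ ∈ phi p E
      rw [show (g : Ω) * m * (g : Ω)⁻¹ = ⁅(g : Ω), (m : Ω)⁆ * m by
        rw [commutatorElement_def]; group]
      exact mul_mem h1 hm⟩
    have hle : frattini E ≤ (phi p E).subgroupOf E := by
      refine Grp.frattini_le_of_elementary hp.out (Subgroup.commutator_le.2 fun a _ b _ => ?_)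
        fun a => ?_
      · exact Subgroup.mem_subgroupOf.2 (comm_mem_phi a.2 b.2)
      · exact Subgroup.mem_subgroupOf.2 (pow_mem_phi a.2)
    exact fun hy => Subgroup.mem_subgroupOf.1 (hle hy)

theorem card_eq_index_mul {E : Subgroup Ω} [Finite E] (hE : IsPGroup p E) :
    Nat.card E = (frattini E).index * Nat.card (phi p E) := by
  have h : (phi p E).subgroupOf E = frattini E := by
    ext y
    rw [Subgroup.mem_subgroupOf, mem_phi_iff hE]
  rw [← (frattini E).index_mul_card, ← h,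
    Nat.card_congr (Subgroup.subgroupOfEquivOfLe (phi_le E)).toEquiv]

theorem eq_of_sup_phi {E X : Subgroup Ω} [Finite E] (hE : IsPGroup p E) (hX : X ≤ E)
    (h : E ≤ X ⊔ phi p E) : X = E := by
  refine le_antisymm hX (Subgroup.subgroupOf_eq_top.1 (frattini_nongenerating ?_))
  have hf : (phi p E).subgroupOf E = frattini E := by
    ext y
    rw [Subgroup.mem_subgroupOf, mem_phi_iff hE]
  rw [← hf, ← Subgroup.subgroupOf_sup hX (phi_le E), Subgroup.subgroupOf_eq_top]
  exact h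

theorem phi_conj {D : Subgroup Ω} {g : Ω} (hD : ∀ d ∈ D, g * d * g⁻¹ ∈ D) {x : Ω}
    (hx : x ∈ phi p D) : g * x * g⁻¹ ∈ phi p D := by
  have : phi p D ≤ (phi p D).comap (MulAut.conj g).toMonoidHom := phi_le_iff.2
    ⟨fun a ha b hb => by
      rw [Subgroup.mem_comap, map_commutatorElement]
      exact comm_mem_phi (hD a ha) (hD b hb),
    fun a ha => by
      rw [Subgroup.mem_comap, map_pow]
      exact pow_mem_phi (hD a ha)⟩
  exact this hx

/-! ### Elementary abelian sections -/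

theorem elem_mod {T : Subgroup Ω} {A : Set Ω} (hA : A ⊆ Subgroup.normalizer (T : Set Ω))
    (hc : ∀ a ∈ A, ∀ b ∈ A, ⁅a, b⁆ ∈ T) (hpw : ∀ a ∈ A, a ^ p ∈ T) :
    (∀ a ∈ Subgroup.closure A, ∀ b ∈ Subgroup.closure A, ⁅a, b⁆ ∈ T) ∧
      ∀ a ∈ Subgroup.closure A, a ^ p ∈ T := by
  set H := Subgroup.normalizer (T : Set Ω) with hH
  haveI : (T.subgroupOf H).Normal := Subgroup.normal_in_normalizer
  set f := QuotientGroup.mk' (T.subgroupOf H)
  have hf : ∀ h : H, f h = 1 ↔ (h : Ω) ∈ T := fun h =>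
    (QuotientGroup.eq_one_iff h).trans Subgroup.mem_subgroupOf
  set A' : Set H := {h | (h : Ω) ∈ A}
  obtain ⟨h1, h2⟩ := closure_elem (p := p) (T := f '' A') (by
      rintro _ ⟨a, ha, rfl⟩ _ ⟨b, hb, rfl⟩
      rw [commute_iff_eq, ← commutatorElement_eq_one_iff_mul_comm, ← map_commutatorElement, hf]
      exact hc a ha b hb) (by
      rintro _ ⟨a, ha, rfl⟩
      rw [← map_pow, hf]
      exact hpw a ha)
  rw [← MonoidHom.map_closure] at h1 h2
  have hle : Subgroup.closure A ≤ H := (Subgroup.closure_le _).2 hA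
  have hcl : ∀ x (hx : x ∈ Subgroup.closure A), (⟨x, hle hx⟩ : H) ∈ Subgroup.closure A' := by
    intro x hx
    have hm : Subgroup.closure A ≤ (Subgroup.closure A').map H.subtype := by
      rw [MonoidHom.map_closure]
      exact Subgroup.closure_mono fun a ha => ⟨⟨a, hA ha⟩, ha, rfl⟩
    obtain ⟨y, hy, hyx⟩ := hm hx
    rwa [show (⟨x, hle hx⟩ : H) = y from Subtype.ext hyx.symm]
  refine ⟨fun a ha b hb => ?_, fun a ha => ?_⟩
  · have h := h1 _ (Subgroup.mem_map_of_mem f (hcl a ha)) _ (Subgroup.mem_map_of_mem f (hcl b hb))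
    rw [commute_iff_eq, ← commutatorElement_eq_one_iff_mul_comm, ← map_commutatorElement, hf] at h
    exact h
  · have h := h2 _ (Subgroup.mem_map_of_mem f (hcl a ha))
    rw [← map_pow, hf] at h
    exact h

/-- The elements of `E` of order dividing `p` and central, modulo `T`. -/
def omMod (p : ℕ) (E T : Subgroup Ω) : Subgroup Ω :=
  Subgroup.closure {e | e ∈ E ∧ e ^ p ∈ T ∧ ∀ y ∈ E, ⁅e, y⁆ ∈ T}

theorem mem_omMod {E T : Subgroup Ω} (hn : E ≤ Subgroup.normalizer (T : Set Ω)) {e : Ω} :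
    e ∈ omMod p E T ↔ e ∈ E ∧ e ^ p ∈ T ∧ ∀ y ∈ E, ⁅e, y⁆ ∈ T := by
  refine ⟨fun he => ?_, fun h => Subgroup.subset_closure h⟩
  have hle : omMod p E T ≤ E := (Subgroup.closure_le _).2 fun a ha => ha.1
  refine ⟨hle he, ?_, fun y hy => ?_⟩
  · exact (elem_mod (fun a (ha : a ∈ _ ∧ _) => hn ha.1) (fun a ha b hb => ha.2.2 b hb.1)
      fun a ha => ha.2.1).2 e he
  · exact comm_flip (comm_mem_closure (M := T)
      (fun a ha m hm => (Subgroup.mem_normalizer_iff.1 (hn (hle ha)) m).1 hm)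
      (fun a ha => comm_flip (ha.2.2 y hy)) he)

theorem le_omMod {E T : Subgroup Ω} (hn : E ≤ Subgroup.normalizer (T : Set Ω)) (hT : T ≤ E) :
    T ≤ omMod p E T := fun t ht => (mem_omMod hn).2 ⟨hT ht, T.pow_mem ht p, fun y hy => by
  rw [commutatorElement_def, mul_assoc, mul_assoc, ← mul_assoc y]
  exact T.mul_mem ht ((Subgroup.mem_normalizer_iff.1 (hn hy) _).1 (T.inv_mem ht))⟩

/-- A `p`-group of linear maps in dimension at most three has order at most `p ^ 3`. -/
theorem card_le_of_linear {k : ℕ} (hk : k ≤ 3)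
    (Q : Subgroup ((Fin k → ZMod p) ≃ₗ[ZMod p] (Fin k → ZMod p))) (hQ : IsPGroup p Q) :
    Nat.card Q ≤ p ^ 3 := by
  set e : ((Fin k → ZMod p) ≃ₗ[ZMod p] (Fin k → ZMod p)) ≃* GL (Fin k) (ZMod p) :=
    (LinearMap.GeneralLinearGroup.generalLinearEquiv (ZMod p) (Fin k → ZMod p)).symm.trans
      Matrix.GeneralLinearGroup.toLin.symm
  have hQ' : IsPGroup p (Q.map e.toMonoidHom) := hQ.map _
  obtain ⟨P, hP⟩ := hQ'.exists_le_sylow
  have h1 := Classical.GLTwoSylow.sylow_card (F := ZMod p) p k P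
  rw [ZMod.card] at h1
  have h2 := Subgroup.card_le_of_le hP
  rw [Subgroup.card_map_of_injective e.injective, h1] at h2
  refine h2.trans (Nat.pow_le_pow_right hp.out.pos ?_)
  interval_cases k <;> norm_num

/-! ### Essential subgroups -/

variable {S : Subgroup Ω} [Finite S] {F : FusionSystem S}
variable (hS : IsPGroup p S) {E : Subgroup Ω} (hE : F.IsEssential p E)
include hS hE

/-- An element of the normalizer trivial on the Frattini quotient lies in the essential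
subgroup. -/
theorem ess_act {b : Ω} (hb : b ∈ normalizerIn S E)
    (h : ∀ y ∈ E, ⁅y⁻¹, b⁆ ∈ phi p E) : b ∈ E := by
  haveI := finite_of_le hE.1.1
  set σ : MulAut E := E.normalizerMonoidHom ⟨b, hb.2⟩
  have hσe : ∀ y : E, ((σ y : E) : Ω) = b * y * b⁻¹ := fun y => rfl
  have hσG : σ ∈ F.autGroup E :=
    autInducedBy_le_autGroup F hE.1.1 (mem_autInducedBy.2 ⟨b, hb.1, hσe⟩)
  obtain ⟨u, hu⟩ := mem_inn_of_frattini_stab hS hE hσG fun y => by
    rw [← mem_phi_iff (hS.to_le hE.1.1)]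
    have h' := h y y.2
    rw [commutatorElement_def, inv_inv] at h'
    show (y : Ω)⁻¹ * (σ y : Ω) ∈ phi p E
    rw [hσe]
    simpa [mul_assoc] using h'
  have hcen : (u : Ω)⁻¹ * b ∈ E := by
    refine centralizerIn_le_of_centric hE.1
      (mem_centralizerIn.2 ⟨S.mul_mem (S.inv_mem (hE.1.1 u.2)) hb.1, fun y hy => ?_⟩)
    have e := hσe ⟨y, hy⟩
    rw [← hu] at e
    have e' : (u : Ω) * y * (u : Ω)⁻¹ = b * y * b⁻¹ := e
    calc y * ((u : Ω)⁻¹ * b) = (u : Ω)⁻¹ * ((u : Ω) * y * (u : Ω)⁻¹) * b := by group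
      _ = (u : Ω)⁻¹ * b * y := by rw [e']; group
  rw [← mul_inv_cancel_left (u : Ω) b]
  exact E.mul_mem u.2 hcen

omit hS in
theorem exists_cjN {b : Ω} (hb : b ∈ normalizerIn S E) :
    ∃ α ∈ F.autGroup E, ∀ x ∈ E, autFun α x = b * x * b⁻¹ := by
  have hmem : E.normalizerMonoidHom ⟨b, hb.2⟩ ∈ autInducedBy S E :=
    mem_autInducedBy.2 ⟨b, hb.1, fun x => rfl⟩
  refine ⟨_, autInducedBy_le_autGroup F hE.1.1 hmem, fun x hx => ?_⟩
  rw [show x = ((⟨x, hx⟩ : E) : Ω) from rfl, autFun_coe]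
  rfl

omit hS in
theorem normalN_of_inv {X : Subgroup Ω} (hXE : X ≤ E) (hX : Inv F E X) {b x : Ω}
    (hb : b ∈ normalizerIn S E) (hx : x ∈ X) : b * x * b⁻¹ ∈ X := by
  obtain ⟨α, hα, he⟩ := exists_cjN hE hb
  rw [← he x (hXE hx)]
  exact hX α hα x hx

omit hS in
theorem conjN {b x : Ω} (hb : b ∈ normalizerIn S E) (hx : x ∈ E) : b * x * b⁻¹ ∈ E :=
  (Subgroup.mem_normalizer_iff.1 hb.2 x).1 hx

theorem exists_outside (hsat : F.IsSaturated p) : ∃ b ∈ normalizerIn S E, b ∉ E := by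
  obtain ⟨-, b, hb, hbE⟩ := SetLike.lt_iff_le_and_exists.1
    (lt_normalizerIn hS (Fus.OrdFive.lt_of_essential hS hsat hE))
  exact ⟨b, hb, hbE⟩

variable (hidx : (frattini E).index = p ^ 2) (hsat : F.IsSaturated p)
include hidx hsat

theorem card_two : Nat.card E = p ^ 2 * Nat.card (phi p E) := by
  haveI := finite_of_le hE.1.1
  rw [card_eq_index_mul (hS.to_le hE.1.1), hidx]

/-- No invariant subgroup strictly between the Frattini subgroup and `E`. -/
theorem irr {X : Subgroup Ω} (hMX : phi p E ≤ X) (hXE : X ≤ E) (hX : Inv F E X) :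
    X = phi p E ∨ X = E := by
  haveI := finite_of_le hE.1.1
  have hEp : IsPGroup p E := hS.to_le hE.1.1
  by_contra hne
  push Not at hne
  have hlt1 : phi p E < X := lt_of_le_of_ne hMX (Ne.symm hne.1)
  have hlt2 : X < E := lt_of_le_of_ne hXE hne.2
  have h1 := mul_card_le hS (hXE.trans hE.1.1) hlt1
  have h2 := mul_card_le hS hE.1.1 hlt2
  rw [card_two hS hE hidx hsat, sq, mul_assoc] at h2
  have hXc : Nat.card X ≤ p * Nat.card (phi p E) := Nat.le_of_mul_le_mul_left h2 hp.out.pos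
  set N := normalizerIn S E
  haveI : Finite N := finite_of_le inf_le_left
  have hNp : IsPGroup p N := hS.to_le inf_le_left
  have hEN : E ≤ N := le_normalizerIn hE.1.1
  have hMn : ∀ s ∈ N, ∀ m ∈ phi p E, s * m * s⁻¹ ∈ phi p E := fun s hs m hm =>
    phi_conj (fun d hd => conjN hE hs hd) hm
  have hXn : ∀ s ∈ N, ∀ x ∈ X, s * x * s⁻¹ ∈ X := fun s hs x hx => normalN_of_inv hE hXE hX hs hx
  have hcE : Nat.card E ≤ p * Nat.card X := by
    rw [card_two hS hE hidx hsat, sq, mul_assoc]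
    exact Nat.mul_le_mul_left p h1
  set XE := X.subgroupOf E
  set f := QuotientGroup.mk' (frattini E)
  have hinv : ∀ g ∈ F.autGroup E, ∀ u ∈ XE, g u ∈ XE := fun g hg u hu => by
    rw [Subgroup.mem_subgroupOf] at hu ⊢
    rw [← autFun_coe]
    exact hX g hg _ hu
  have hfr : ∀ g : MulAut E, ∀ y ∈ frattini E, g y ∈ frattini E := fun g y hy =>
    ((inferInstance : (frattini E).Characteristic).fixed g).ge hy
  let K : Subgroup (F.autGroup E) :=
    { carrier := {g | (∀ u ∈ XE, u⁻¹ * (g : MulAut E) u ∈ frattini E) ∧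
        ∀ y, y⁻¹ * (g : MulAut E) y ∈ XE}
      one_mem' := ⟨fun u _ => by simp, fun y => by simp⟩
      mul_mem' := fun {a b} ha hb => by
        have e : ∀ y, y⁻¹ * ((a * b : F.autGroup E) : MulAut E) y =
            (y⁻¹ * (b : MulAut E) y) *
              (((b : MulAut E) y)⁻¹ * (a : MulAut E) ((b : MulAut E) y)) :=
          fun y => by simp [mul_assoc]
        exact ⟨fun u hu => by rw [e]; exact mul_mem (hb.1 u hu) (ha.1 _ (hinv _ b.2 u hu)),
          fun y => by rw [e]; exact mul_mem (hb.2 y) (ha.2 _)⟩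
      inv_mem' := fun {a} ha => by
        have e : ∀ y, y⁻¹ * ((a⁻¹ : F.autGroup E) : MulAut E) y =
            ((((a⁻¹ : F.autGroup E) : MulAut E) y)⁻¹ *
              (a : MulAut E) (((a⁻¹ : F.autGroup E) : MulAut E) y))⁻¹ := fun y => by simp
        exact ⟨fun u hu => by
          rw [e]; exact inv_mem (ha.1 _ (hinv _ (a⁻¹ : F.autGroup E).2 u hu)),
          fun y => by rw [e]; exact inv_mem (ha.2 _)⟩ }
  have hKn : K.Normal := ⟨fun c hc b => by
    have e : ∀ y, y⁻¹ * ((b * c * b⁻¹ : F.autGroup E) : MulAut E) y = (b : MulAut E)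
        ((((b⁻¹ : F.autGroup E) : MulAut E) y)⁻¹ *
          (c : MulAut E) (((b⁻¹ : F.autGroup E) : MulAut E) y)) := fun y => by simp
    exact ⟨fun u hu => by
      rw [e]; exact hfr _ _ (hc.1 _ (hinv _ (b⁻¹ : F.autGroup E).2 u hu)),
      fun y => by rw [e]; exact hinv _ b.2 _ (hc.2 _)⟩⟩
  have hKp : IsPGroup p K := by
    rintro ⟨α, hα1, hα2⟩
    have hpow : ∀ (y : E) (n : ℕ),
        f ((α ^ n : F.autGroup E).1 y) = f y * f (y⁻¹ * (α : MulAut E) y) ^ n := by
      intro y n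
      induction n with
      | zero => simp
      | succ n ih =>
        set d := y⁻¹ * (α : MulAut E) y
        set z := ((α ^ n : F.autGroup E) : MulAut E) y
        have hw : (d ^ n)⁻¹ * y⁻¹ * z ∈ frattini E := by
          refine (QuotientGroup.eq_one_iff _).1 ?_
          show f ((d ^ n)⁻¹ * y⁻¹ * z) = 1
          rw [map_mul, map_mul, map_inv, map_inv, map_pow, ih]
          group
        have hd : f ((α : MulAut E) d) = f d := by
          have h : f (d⁻¹ * (α : MulAut E) d) = 1 :=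
            (QuotientGroup.eq_one_iff _).2 (hα1 d (hα2 y))
          rwa [map_mul, map_inv, inv_mul_eq_one, eq_comm] at h
        have hz : z = y * d ^ n * ((d ^ n)⁻¹ * y⁻¹ * z) := by group
        rw [pow_succ', Subgroup.coe_mul, MulAut.mul_apply]
        show f ((α : MulAut E) z) = _
        rw [hz, map_mul, map_mul, map_mul, map_mul, map_pow, map_pow, hd,
          show f ((α : MulAut E) ((d ^ n)⁻¹ * y⁻¹ * z)) = 1 from
            (QuotientGroup.eq_one_iff _).2 (hfr _ _ hw),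
          show (α : MulAut E) y = y * d by simp [d], map_mul, mul_one, mul_assoc, ← pow_succ']
    have hI : ((α ^ p : F.autGroup E) : MulAut E) ∈ Inn E :=
      mem_inn_of_frattini_stab hS hE (α ^ p).2 fun y => (QuotientGroup.eq_one_iff _).1 (by
        show f (y⁻¹ * ((α ^ p : F.autGroup E) : MulAut E) y) = 1
        rw [map_mul, map_inv, hpow y p, inv_mul_cancel_left, ← map_pow]
        exact (QuotientGroup.eq_one_iff _).2 (Grp.pGroup_pow_mem_frattini hEp _))
    obtain ⟨w, hw⟩ := hI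
    obtain ⟨k, hk⟩ := hEp w
    refine ⟨k + 1, Subtype.ext (Subtype.ext ?_)⟩
    rw [SubgroupClass.coe_pow, SubgroupClass.coe_pow]
    show (α : MulAut E) ^ p ^ (k + 1) = 1
    rw [pow_succ', pow_mul, ← SubgroupClass.coe_pow, ← hw, ← map_pow, hk, map_one]
  obtain ⟨b, hb, hbE⟩ := exists_outside hS hE hsat
  obtain ⟨α, hα, hαe⟩ := exists_cjN hE hb
  have hαy : ∀ y : E, ((α y : E) : Ω) = b * y * b⁻¹ := fun y => by
    rw [← autFun_coe]; exact hαe y y.2
  have hαK : (⟨α, hα⟩ : F.autGroup E) ∈ K := by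
    refine ⟨fun u hu => (mem_phi_iff hEp).1 ?_, fun y => Subgroup.mem_subgroupOf.2 ?_⟩
    · rw [Subgroup.coe_mul, Subgroup.coe_inv, hαy]
      have h : ⁅b, ((u⁻¹ : E) : Ω)⁆ ∈ phi p E := comm_mem_of_index hNp hMX (hXE.trans hEN) hMn hXn
        hXc hb (by rw [Subgroup.coe_inv]; exact X.inv_mem (Subgroup.mem_subgroupOf.1 hu))
      have h' := comm_flip h
      rw [commutatorElement_def, Subgroup.coe_inv, inv_inv] at h'
      simpa [mul_assoc] using h'
    · rw [Subgroup.coe_mul, Subgroup.coe_inv, hαy]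
      have h : ⁅b, ((y⁻¹ : E) : Ω)⁆ ∈ X :=
        comm_mem_of_index hNp hXE hEN hXn (fun s hs n hn => conjN hE hs hn) hcE hb (y⁻¹ : E).2
      have h' := comm_flip h
      rw [commutatorElement_def, Subgroup.coe_inv, inv_inv] at h'
      simpa [mul_assoc] using h'
  have hαI : α ∈ Inn E := by
    rw [← (radical_of_essential hS hE).2]
    exact ⟨⟨α, hα⟩, Grp.le_pCore hKn hKp hαK, rfl⟩
  obtain ⟨w, hw⟩ := hαI
  refine hbE (ess_act hS hE hb fun y hy => ?_)
  have e : b * y * b⁻¹ = (w : Ω) * y * (w : Ω)⁻¹ := by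
    rw [← hαy ⟨y, hy⟩, ← hw]; rfl
  rw [commutatorElement_def, inv_inv, mul_assoc (y⁻¹ * b), mul_assoc y⁻¹, ← mul_assoc b, e]
  have h := comm_mem_phi (p := p) (E.inv_mem hy) w.2
  rw [commutatorElement_def, inv_inv] at h
  simpa [mul_assoc] using h

/-- The normalizer of `E` is elementary abelian modulo `E`. -/
theorem phiN_le : phi p (normalizerIn S E) ≤ E := by
  haveI := finite_of_le hE.1.1
  set N := normalizerIn S E
  set M := phi p E with hM
  haveI : Finite N := finite_of_le inf_le_left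
  haveI : Finite M := finite_of_le (phi_le E)
  have hNp : IsPGroup p N := hS.to_le inf_le_left
  have hEN : E ≤ N := le_normalizerIn hE.1.1
  have hMn : ∀ s ∈ N, ∀ m ∈ M, s * m * s⁻¹ ∈ M := fun s hs m hm =>
    phi_conj (fun d hd => conjN hE hs hd) hm
  haveI : (M.subgroupOf N).Normal := ⟨fun m hm g => hMn g g.2 m hm⟩
  haveI : (E.subgroupOf N).Normal := ⟨fun m hm g => conjN hE g.2 hm⟩
  obtain ⟨⟨e, heN⟩, he, heM, hec⟩ := Grp.PSmall.exists_central_mod hNp (M.subgroupOf N)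
    (E.subgroupOf N) fun h => by
      have hle : E ≤ M := fun y hy => (h (show (⟨y, hEN hy⟩ : N) ∈ E.subgroupOf N from hy) :)
      have := Subgroup.card_le_of_le hle
      rw [card_two hS hE hidx hsat] at this
      have h4 : 1 < p ^ 2 := Nat.one_lt_pow two_ne_zero hp.out.one_lt
      have := Nat.card_pos (α := M)
      nlinarith
  have heE : e ∈ E := he
  have hec' : ∀ s ∈ N, ⁅s, e⁆ ∈ M := fun s hs => by
    have h := hec ⟨s, hs⟩
    rw [Subgroup.mem_subgroupOf] at h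
    simpa [commutatorElement_def] using h
  set X := Subgroup.closure ((M : Set Ω) ∪ {e}) with hX
  have hMX : M ≤ X := fun m hm => Subgroup.subset_closure (Or.inl hm)
  have hXE : X ≤ E := (Subgroup.closure_le _).2 (Set.union_subset (phi_le E) (by simpa using heE))
  have hXM : ∀ s ∈ N, ∀ x ∈ X, ⁅s, x⁆ ∈ M := fun s hs x hx => comm_mem_closure
    (fun a ha m hm => hMn a (hEN (hXE ha)) m hm) (fun t ht => by
      rcases ht with ht | rfl
      · rw [commutatorElement_def]; exact M.mul_mem (hMn s hs t ht) (M.inv_mem ht)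
      · exact hec' s hs) hx
  have hXn : ∀ s ∈ N, ∀ x ∈ X, s * x * s⁻¹ ∈ X := fun s hs x hx => by
    rw [show s * x * s⁻¹ = ⁅s, x⁆ * x by rw [commutatorElement_def]; group]
    exact X.mul_mem (hMX (hXM s hs x hx)) hx
  have hker : ∀ b ∈ N, (∀ y ∈ E, ⁅b, y⁆ ∈ M) → b ∈ E := fun b hb h =>
    ess_act hS hE hb fun y hy => comm_flip (h _ (E.inv_mem hy))
  obtain ⟨b₀, hb₀, hb₀E⟩ := exists_outside hS hE hsat
  have hlt : X < E := lt_of_le_of_ne hXE fun h =>
    hb₀E (hker b₀ hb₀ fun y hy => hXM b₀ hb₀ y (h ▸ hy))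
  have hlt1 : M < X := lt_of_le_of_ne hMX fun h => heM (by
    show e ∈ M
    exact h ▸ Subgroup.subset_closure (Or.inr rfl))
  have h1 := mul_card_le hS (hXE.trans hE.1.1) hlt1
  have hcE : Nat.card E ≤ p * Nat.card X := by
    rw [card_two hS hE hidx hsat, sq, mul_assoc]
    exact Nat.mul_le_mul_left p h1
  have hEX : ∀ s ∈ N, ∀ y ∈ E, ⁅s, y⁆ ∈ X := fun s hs y hy =>
    comm_mem_of_index hNp hXE hEN hXn (fun t ht n hn => conjN hE ht hn) hcE hs hy
  obtain ⟨-, y₀, hy₀, hy₀X⟩ := SetLike.lt_iff_le_and_exists.1 hlt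
  have hgen : E ≤ Subgroup.closure ((X : Set Ω) ∪ {y₀}) := by
    have hle : Subgroup.closure ((X : Set Ω) ∪ {y₀}) ≤ E :=
      (Subgroup.closure_le _).2 (Set.union_subset hXE (by simpa using hy₀))
    have hlt' : X < Subgroup.closure ((X : Set Ω) ∪ {y₀}) :=
      lt_of_le_of_ne (fun x hx => Subgroup.subset_closure (Or.inl hx))
        fun h => hy₀X (h.ge (Subgroup.subset_closure (Or.inr rfl)))
    exact (Subgroup.eq_of_le_of_card_ge hle
      (hcE.trans (mul_card_le hS (hle.trans hE.1.1) hlt'))).ge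
  set f := QuotientGroup.mk' (M.subgroupOf N)
  have hf : ∀ h : N, f h = 1 ↔ (h : Ω) ∈ M := fun h =>
    (QuotientGroup.eq_one_iff h).trans Subgroup.mem_subgroupOf
  let φ : N → N ⧸ M.subgroupOf N := fun b => f ⁅b, ⟨y₀, hEN hy₀⟩⁆
  have hcen : ∀ b c : N, Commute (f c) (φ b) := fun b c => by
    rw [commute_iff_eq, ← commutatorElement_eq_one_iff_mul_comm, ← map_commutatorElement, hf]
    exact hXM c c.2 _ (hEX b b.2 y₀ hy₀)
  let Φ : N →* N ⧸ M.subgroupOf N := MonoidHom.mk' φ fun b c => by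
    show f ⁅b * c, _⁆ = f ⁅b, _⁆ * f ⁅c, _⁆
    rw [show ⁅b * c, (⟨y₀, hEN hy₀⟩ : N)⁆ = b * ⁅c, ⟨y₀, hEN hy₀⟩⁆ * b⁻¹ * ⁅b, ⟨y₀, hEN hy₀⟩⁆ by
      simp only [commutatorElement_def]; group, map_mul, map_mul, map_mul, map_inv,
      (hcen c b).eq, mul_inv_cancel_right]
    exact ((hcen c ⁅b, ⟨y₀, hEN hy₀⟩⁆).eq).symm
  have hker' : ∀ b : N, Φ b = 1 → (b : Ω) ∈ E := fun b hb => hker b b.2 fun y hy => by
    refine comm_mem_closure (T := (X : Set Ω) ∪ {y₀}) (fun a ha m hm => hMn a (hEN ?_) m hm) ?_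
      (hgen hy)
    · exact (Subgroup.closure_le _).2 (Set.union_subset hXE (by simpa using hy₀)) ha
    · rintro t (ht | rfl)
      · exact hXM b b.2 t ht
      · exact (hf _).1 hb
  refine phi_le_iff.2 ⟨fun a ha c hc => hker' ⁅(⟨a, ha⟩ : N), ⟨c, hc⟩⁆ ?_,
    fun a ha => hker' ((⟨a, ha⟩ : N) ^ p) ?_⟩
  · rw [map_commutatorElement, commutatorElement_eq_one_iff_mul_comm]
    exact (hcen ⟨c, hc⟩ ⁅(⟨a, ha⟩ : N), (⟨y₀, hEN hy₀⟩ : N)⁆).eq
  · rw [map_pow]
    show f ⁅(⟨a, ha⟩ : N), ⟨y₀, hEN hy₀⟩⁆ ^ p = 1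
    rw [← map_pow, hf]
    exact pow_mem_phi (hXE (hEX a ha y₀ hy₀))

end Cfsg.Agent.Invol.EssNormal
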