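import Cfsg.Agent.Lib.Invol.EssNormal.Pearl
import Cfsg.Agent.Lib.Invol.EssNormal.Cyclic
import Cfsg.Agent.Lib.Invol.EssThree.Main

/-!
# Existence of pearls in sectional rank three
-/

set_option autoImplicit false
set_option linter.style.haveILetI false
set_option linter.unusedSectionVars false

universe u

namespace Cfsg.Agent.Invol.EssNormal

open Cfsg FusionSystem Cfsg.Agent.Fus
open scoped commutatorElement Pointwise

variable {Ω : Type u} [Group Ω] {p : ℕ} [hp : Fact p.Prime] {S : Subgroup Ω} [Finite S]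
  {F : FusionSystem S}

/-- The Frattini quotient of an essential subgroup has rank two or three. -/
theorem index_cases (hS : IsPGroup p S) (hsat : F.IsSaturated p) (hR : R3 p S) {E : Subgroup Ω}
    (hE : F.IsEssential p E) :
    (frattini E).index = p ^ 2 ∨ (frattini E).index = p ^ 3 := by
  have hES := hE.1.1
  haveI := finite_of_le hES
  have hEp : IsPGroup p E := hS.to_le hES
  obtain ⟨k, q, -, -, -, hqc⟩ := EssThree.exists_coord (p := p) (⊤ : Subgroup E) (frattini E)
    le_top
    (fun a _ b _ => Grp.pGroup_commutator_le_frattini hEp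
      (Subgroup.commutator_mem_commutator (Subgroup.mem_top a) (Subgroup.mem_top b)))
    (fun a _ => Grp.pGroup_pow_mem_frattini hEp a)
  have hk3 : k ≤ 3 := EssThree.dim_le_three (hR.rank3 hES) (B := frattini E) le_top
    (fun a _ b _ => Grp.pGroup_commutator_le_frattini hEp
      (Subgroup.commutator_mem_commutator (Subgroup.mem_top a) (Subgroup.mem_top b)))
    (fun a _ => Grp.pGroup_pow_mem_frattini hEp a) hqc
  have hidx : (frattini E).index = p ^ k := by
    rw [Subgroup.card_top, ← (frattini E).index_mul_card, mul_comm] at hqc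
    exact (Nat.eq_of_mul_eq_mul_right Nat.card_pos hqc).symm
  rw [hidx]
  have hk2 : 2 ≤ k := by
    by_contra hk
    push Not at hk
    set N := normalizerIn S E
    haveI : Finite N := finite_of_le inf_le_left
    have hEN : E ≤ N := le_normalizerIn hES
    obtain ⟨b, hb, hbE⟩ := exists_outside hS hE hsat
    refine hbE (ess_act hS hE hb fun y hy => comm_flip (comm_mem_of_index (S := N)
      (hS.to_le inf_le_left)
      (phi_le E) hEN (fun s hs m hm => phi_conj (fun d hd => conjN hE hs hd) hm)
      (fun s hs n hn => conjN hE hs hn) ?_ hb (E.inv_mem hy)))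
    rw [card_eq_index_mul hEp, hidx]
    exact Nat.mul_le_mul_right _ ((Nat.pow_le_pow_right hp.out.pos (Nat.le_of_lt_succ hk)).trans_eq
      (pow_one p))
  interval_cases k
  · exact Or.inl rfl
  · exact Or.inr rfl

/-- A non-normal essential subgroup is a pearl for `p ≥ 5`. -/
theorem pearl_of_nonnormal (hS : IsPGroup p S) (hp5 : 5 ≤ p) (hsr : Cfsg.SectionalPRankLE p 3 S)
    (hsat : F.IsSaturated p) {E : Subgroup Ω} (hE : F.IsEssential p E)
    (hnn : ¬ S ≤ Subgroup.normalizer (E : Set Ω)) : IsPearl p E := by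
  rcases index_cases hS hsat (r3_of_sectional hsr) hE with h | h
  · exact pearl_of_not_normal hS hE h hsat (by omega) (r3_of_sectional hsr) hnn
  · exact absurd (EssThree.essential_le_normalizer hS hp5 hsr hsat hE h) hnn

/-- When all essential subgroups are normal, one of them is extraspecial. -/
theorem Hyp.exists_pearl (H : Hyp F p) (hr2 : ¬ Cfsg.SectionalPRankLE p 2 S) :
    ∃ E, F.IsEssential p E ∧ IsPearl p E := by
  obtain ⟨A, s, e, hAS, hAn, hAc, hAp, hA3, hS4, hs, hsA, hsp, he, hne2, hfix⟩ := H.main hr2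
  haveI := finite_of_le hAS
  have hS1 : S ≠ ⊥ := fun h => hsA (by
    rw [h, Subgroup.mem_bot] at hs
    exact hs ▸ A.one_mem)
  have hcardE : ∀ E, F.IsEssential p E → Nat.card E = p ^ 3 := fun E hE => by
    have h1 := H.natCard_index hE
    have h2 := mul_card_le H.isPGroup le_rfl (H.lt hE)
    rw [hS4, pow_succ'] at h1 h2
    exact le_antisymm (Nat.le_of_mul_le_mul_left h2 hp.out.pos)
      (Nat.le_of_mul_le_mul_left h1 hp.out.pos)
  by_cases hex : ∃ E, F.IsEssential p E ∧ ¬ ∀ a ∈ E, ∀ c ∈ E, Commute a c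
  · obtain ⟨E, hE, hna⟩ := hex
    refine ⟨E, hE, ?_⟩
    haveI := finite_of_le hE.1.1
    have hEp : IsPGroup p E := H.isPGroup.to_le hE.1.1
    have hc := card_eq_index_mul hEp
    rw [hcardE E hE] at hc
    have hidx : (frattini E).index = p ^ 2 := by
      refine (index_cases H.isPGroup H.sat H.rank hE).resolve_right fun h3 => hna ?_
      rw [h3] at hc
      have hbot : phi p E = ⊥ := Subgroup.card_eq_one.1
        (Nat.eq_of_mul_eq_mul_left (pow_pos hp.out.pos 3) (hc.symm.trans (mul_one _).symm))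
      exact (of_phi_eq_bot hbot).1
    rw [hidx] at hc
    have hMcard : Nat.card (phi p E) = p :=
      (Nat.eq_of_mul_eq_mul_left (pow_pos hp.out.pos 2) (by rw [← hc, ← pow_succ])).symm
    haveI : Finite (normalizerIn S E) := finite_of_le inf_le_left
    have hEN : E ≤ normalizerIn S E := le_normalizerIn hE.1.1
    have hcen : ∀ b ∈ normalizerIn S E, ∀ u ∈ phi p E, ⁅b, u⁆ ∈ phi p (phi p E) :=
      fun b hb u hu => by
        have h := comm_mem_of_index (S := normalizerIn S E) (H.isPGroup.to_le inf_le_left) (bot_le : ⊥ ≤ phi p E)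
          ((phi_le E).trans hEN) (fun s _ m hm => by simp [Subgroup.mem_bot.1 hm])
          (fun t ht m hm => phi_conj (fun d hd => conjN hE ht hd) hm)
          (by rw [Subgroup.card_bot, mul_one, hMcard]) hb hu
        rw [Subgroup.mem_bot.1 h]
        exact one_mem _
    obtain ⟨b, hb, hbE⟩ := exists_outside H.isPGroup hE H.sat
    exact pearl_of_centralized H.isPGroup hE hidx H.sat H.p_ne hb hbE (hcen b hb)
      fun y hy => hcen y (hEN hy)
  exfalso
  push Not at hex
  -- all essential subgroups coincide with `A`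
  have heqA : ∀ E, F.IsEssential p E → E = A := by
    intro E hE
    have hES := hE.1.1
    haveI := finite_of_le hES
    by_contra hne
    obtain ⟨y, hy, hyE⟩ : ∃ y ∈ E, y ∉ A := by
      by_contra h
      push Not at h
      exact hne (Subgroup.eq_of_le_of_card_ge h (by rw [hA3, hcardE E hE]))
    haveI hAnS : (A.subgroupOf S).Normal := ⟨fun m hm g => hAn g g.2 m hm⟩
    set Z := A ⊓ E
    have hidxA : (A.subgroupOf S).index = p := by
      have h1 := (A.subgroupOf S).index_mul_card
      rw [Nat.card_congr (Subgroup.subgroupOfEquivOfLe hAS).toEquiv, hA3, hS4, show p ^ 4 = p * p ^ 3 by ring] at h1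
      exact Nat.eq_of_mul_eq_mul_right (pow_pos hp.out.pos 3) h1
    have hZ : p ^ 2 ≤ Nat.card Z := by
      let φ : E →* S ⧸ A.subgroupOf S :=
        (QuotientGroup.mk' _).comp (Subgroup.inclusion hES)
      have h1 := φ.ker.card_eq_card_quotient_mul_card_subgroup
      rw [hcardE E hE, Nat.card_congr (QuotientGroup.quotientKerEquivRange φ).toEquiv] at h1
      have h2 : Nat.card φ.range ≤ p := by
        refine (Subgroup.card_le_card_group _).trans_eq ?_
        rw [← Subgroup.index_eq_card, hidxA]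
      haveI : Finite Z := finite_of_le (inf_le_right.trans hES)
      have h3 : Nat.card φ.ker ≤ Nat.card Z :=
        Nat.card_le_card_of_injective (fun x : φ.ker => (⟨((x : E) : Ω),
          ((QuotientGroup.eq_one_iff _).1 (MonoidHom.mem_ker.1 x.2) :), (x : E).2⟩ : Z))
          fun a b h => Subtype.ext (Subtype.ext (congrArg (fun z : Z => (z : Ω)) h))
      have h4 := h1.le.trans (Nat.mul_le_mul h2 h3)
      rw [pow_succ'] at h4
      exact Nat.le_of_mul_le_mul_left h4 hp.out.pos
    have hZs : ∀ z ∈ Z, Commute s z := by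
      intro z hz
      have hle : A ⊔ E = S := by
        refine Subgroup.eq_of_le_of_card_ge (sup_le hAS hES) ?_
        have hlt : A < A ⊔ E :=
          lt_of_le_of_ne le_sup_left fun h => hyE (h.ge (Subgroup.mem_sup_right hy))
        refine le_trans ?_ (mul_card_le H.isPGroup (sup_le hAS hES) hlt)
        rw [hS4, hA3, ← pow_succ']
      have hc : A ⊔ E ≤ Subgroup.centralizer ({z} : Set Ω) := sup_le
        (fun a ha => Subgroup.mem_centralizer_singleton_iff.2 (hAc a ha z hz.1).eq)
        (fun a ha => Subgroup.mem_centralizer_singleton_iff.2 (hex E hE a ha z hz.2).eq)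
      exact Subgroup.mem_centralizer_singleton_iff.1 (hc (hle.ge hs))
    have heZ : e ∉ Z := fun h => hne2 (by
      rw [commutatorElement_eq_one_iff_mul_comm.2 (hZs e h).eq, commutatorElement_one_right])
    have hA' : A = Z ⊔ Subgroup.zpowers e := by
      have hle : Z ⊔ Subgroup.zpowers e ≤ A := sup_le inf_le_left (Subgroup.zpowers_le.2 he)
      refine (Subgroup.eq_of_le_of_card_ge hle ?_).symm
      have hlt : Z < Z ⊔ Subgroup.zpowers e := lt_of_le_of_ne le_sup_left
        fun h => heZ (h.ge (Subgroup.mem_sup_right (Subgroup.mem_zpowers e)))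
      refine le_trans ?_ (mul_card_le H.isPGroup (hle.trans hAS) hlt)
      rw [hA3, pow_succ']
      exact Nat.mul_le_mul_left p hZ
    have hf : ⁅s, e⁆ ∈ A := by
      rw [commutatorElement_def]; exact A.mul_mem (hAn s hs e he) (A.inv_mem he)
    obtain ⟨z, hz, i, hzi⟩ : ∃ z ∈ Z, ∃ i : ℤ, z * e ^ i = ⁅s, e⁆ := by
      have hn : Subgroup.zpowers e ≤ Subgroup.normalizer (Z : Set Ω) :=
        Subgroup.zpowers_le.2 (Subgroup.mem_normalizer_iff.2 fun z =>
          ⟨fun hz => by rw [(hAc e he z hz.1).eq, mul_inv_cancel_right]; exact hz, fun hz => by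
            have h := (hAc e he _ hz.1).eq
            have : z = e * z * e⁻¹ := by
              have h' : e * z * e⁻¹ * e = e * (e * z * e⁻¹) := h.symm
              rw [inv_mul_cancel_right] at h'
              exact mul_left_cancel h'
            rwa [this]⟩)
      have hm : ⁅s, e⁆ ∈ (Z : Set Ω) * (Subgroup.zpowers e : Set Ω) := by
        rw [← Subgroup.coe_mul_of_right_le_normalizer_left _ _ hn, ← hA']
        exact hf
      obtain ⟨z, hz, _, ⟨i, rfl⟩, hzi⟩ := hm
      exact ⟨z, hz, i, hzi⟩
    have hcomm : ∀ z ∈ Z, ∀ a ∈ A, ⁅s, z * a⁆ = ⁅s, a⁆ := fun z hz a ha => by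
      rw [comm_mul_right, commutatorElement_eq_one_iff_mul_comm.2 (hZs z hz).eq, one_mul]
      have h : ⁅s, a⁆ ∈ A := by
        rw [commutatorElement_def]; exact A.mul_mem (hAn s hs a ha) (A.inv_mem ha)
      rw [(hAc z hz.1 _ h).eq, mul_inv_cancel_right]
    have hpow : ∀ a ∈ A, ∀ j : ℤ, ⁅s, a ^ j⁆ = ⁅s, a⁆ ^ j := fun a ha j => by
      have hca : Commute (s * a * s⁻¹) a⁻¹ := hAc _ (hAn s hs a ha) _ (A.inv_mem ha)
      rw [commutatorElement_def, commutatorElement_def, hca.mul_zpow, conj_zpow, inv_zpow]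
    have hg : ⁅s, ⁅s, e⁆⁆ = ⁅s, e⁆ ^ i := by
      conv_lhs => rw [← hzi]
      rw [hcomm z hz _ (A.zpow_mem he i), hpow e he]
    have hfp : ⁅s, e⁆ ^ p = 1 := hAp _ hf
    have hi2 : ⁅s, e⁆ ^ (i * i) = 1 := by
      rw [zpow_mul, ← hg, ← hpow _ hf, ← hg]; exact hfix
    have hf1 : ⁅s, e⁆ ≠ 1 := fun h => hne2 (by rw [h, commutatorElement_one_right])
    have hord : orderOf ⁅s, e⁆ = p := orderOf_eq_prime hfp hf1
    rw [← orderOf_dvd_iff_zpow_eq_one, hord] at hi2
    refine hne2 ?_
    rw [hg, ← orderOf_dvd_iff_zpow_eq_one, hord]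
    rcases (Nat.prime_iff_prime_int.1 hp.out).dvd_mul.1 hi2 with h | h <;> exact h
  by_cases hsome : ∃ E, F.IsEssential p E
  · obtain ⟨E₀, hE₀⟩ := hsome
    have hA0 : A ≠ ⊥ := fun h => by
      rw [h, Subgroup.card_bot] at hA3
      exact (Nat.one_lt_pow three_ne_zero hp.out.one_lt).ne hA3
    refine H.false_of_invariant hAS hA0 (fun α hα x hx => ?_) fun P hP => ?_
    · have hA : F.IsEssential p A := heqA E₀ hE₀ ▸ hE₀
      exact (heqA _ (H.essential_map hα hA)).le (apply_mem_fimg _ hx)
    · rw [heqA P hP]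
      exact ⟨le_rfl, inv_self A⟩
  · push Not at hsome
    exact H.false_of_invariant le_rfl hS1 (fun α _ x hx => autFun_mem α hx)
      fun P hP => absurd hP (hsome P)

end Cfsg.Agent.Invol.EssNormal
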