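import Cfsg.Agent.Lib.Invol.EssNormal.PearlBasic

/-!
# The Frattini subgroup of an essential subgroup with two generators
-/

set_option autoImplicit false
set_option linter.style.haveILetI false
set_option linter.unusedSectionVars false

universe u

namespace Cfsg.Agent.Invol.EssNormal

open Cfsg FusionSystem Cfsg.Agent.Fus
open scoped commutatorElement

variable {Ω : Type u} [Group Ω] {p : ℕ} [hp : Fact p.Prime] {S : Subgroup Ω} [Finite S]
  {F : FusionSystem S}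

theorem mem_normalizer_of_group {G T : Subgroup Ω} (h : ∀ g ∈ G, ∀ t ∈ T, g * t * g⁻¹ ∈ T) :
    G ≤ Subgroup.normalizer (T : Set Ω) := fun g hg => Subgroup.mem_normalizer_iff.2 fun t =>
  ⟨fun ht => h g hg t ht, fun ht => by
    have := h g⁻¹ (G.inv_mem hg) _ ht
    simpa [mul_assoc] using this⟩

theorem conj_normalizerIn {A : Subgroup Ω} {g x : Ω} (hg : g ∈ normalizerIn S A) (hx : x ∈ A) :
    g * x * g⁻¹ ∈ A :=
  (Subgroup.mem_normalizer_iff.1 hg.2 x).1 hx

theorem conj_normalizerIn' {A : Subgroup Ω} {g x : Ω} (hg : g ∈ normalizerIn S A) (hx : x ∈ A) :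
    g⁻¹ * x * g ∈ A := by
  have h := conj_normalizerIn (Subgroup.inv_mem _ hg) hx
  rwa [inv_inv] at h

theorem Inv.sup {E A B : Subgroup Ω} (hA : A ≤ E) (hB : B ≤ E) (hAi : Inv F E A) (hBi : Inv F E B) :
    Inv F E (A ⊔ B) := by
  intro α hα x hx
  let K : Subgroup Ω :=
    { carrier := {x | x ∈ E ∧ autFun α x ∈ A ⊔ B}
      one_mem' := ⟨E.one_mem, by rw [af_one]; exact one_mem _⟩
      mul_mem' := fun {a b} ha hb => ⟨E.mul_mem ha.1 hb.1, by
        rw [af_mul α ha.1 hb.1]; exact mul_mem ha.2 hb.2⟩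
      inv_mem' := fun {a} ha => ⟨E.inv_mem ha.1, by rw [af_inv α ha.1]; exact inv_mem ha.2⟩ }
  have hle : A ⊔ B ≤ K := sup_le (fun a ha => ⟨hA ha, Subgroup.mem_sup_left (hAi α hα a ha)⟩)
    fun b hb => ⟨hB hb, Subgroup.mem_sup_right (hBi α hα b hb)⟩
  exact (hle hx).2

variable (hS : IsPGroup p S) {E : Subgroup Ω} (hE : F.IsEssential p E)
  (hidx : (frattini E).index = p ^ 2) (hsat : F.IsSaturated p) (hR : R3 p S)
include hS hE hidx hsat hR

set_option maxHeartbeats 1000000 in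
theorem phi_step {T : Subgroup Ω} (hTM : T < phi p E) (hTi : Inv F E T)
    (hTg : ∀ g ∈ normalizerIn S (normalizerIn S E), ∀ t ∈ T, g * t * g⁻¹ ∈ T) :
    ∃ T' : Subgroup Ω, T < T' ∧ T' ≤ phi p E ∧ Inv F E T' ∧
      ∀ g ∈ normalizerIn S (normalizerIn S E), ∀ t ∈ T', g * t * g⁻¹ ∈ T' := by
  set N := normalizerIn S E with hN
  set P := normalizerIn S N with hP
  set M := phi p E with hM
  have hES := hE.1.1
  haveI := finite_of_le hES
  haveI : Finite N := finite_of_le inf_le_left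
  have hNp : IsPGroup p N := hS.to_le inf_le_left
  have hEN : E ≤ N := le_normalizerIn hES
  have hNP : N ≤ P := le_normalizerIn inf_le_left
  have hTE : T ≤ E := hTM.le.trans (phi_le E)
  haveI : Finite M := finite_of_le ((phi_le E).trans hES)
  haveI : Finite T := finite_of_le (hTE.trans hES)
  have hnN : N ≤ Subgroup.normalizer (T : Set Ω) :=
    mem_normalizer_of_group fun g hg => hTg g (hNP hg)
  have hnE : E ≤ Subgroup.normalizer (T : Set Ω) := hEN.trans hnN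
  set V := omMod p E T with hVdef
  set Z := omMod p N T with hZdef
  have hVm : ∀ {e}, e ∈ V ↔ e ∈ E ∧ e ^ p ∈ T ∧ ∀ y ∈ E, ⁅e, y⁆ ∈ T := mem_omMod hnE
  have hZm : ∀ {e}, e ∈ Z ↔ e ∈ N ∧ e ^ p ∈ T ∧ ∀ y ∈ N, ⁅e, y⁆ ∈ T := mem_omMod hnN
  have hVE : V ≤ E := fun e he => (hVm.1 he).1
  have hVi : Inv F E V := fun α hα e he => by
    obtain ⟨he1, he2, he3⟩ := hVm.1 he
    refine hVm.2 ⟨autFun_mem α he1, by rw [← af_pow α he1]; exact hTi α hα _ he2, fun y hy => ?_⟩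
    rw [← af_apply_inv α hy, ← af_comm α he1 (autFun_mem α⁻¹ hy)]
    exact hTi α hα _ (he3 _ (autFun_mem α⁻¹ hy))
  have hVn : ∀ s ∈ N, ∀ e ∈ V, s * e * s⁻¹ ∈ V := fun s hs e he =>
    normalN_of_inv hE hVE hVi hs he
  -- the centre modulo `T`
  have hZE : Z ≤ E := fun z hz => ess_act hS hE (hZm.1 hz).1 fun y hy =>
    hTM.le (comm_flip ((hZm.1 hz).2.2 _ (N.inv_mem (hEN hy))))
  have hZV : Z ≤ V := fun z hz => hVm.2 ⟨hZE hz, (hZm.1 hz).2.1,
    fun y hy => (hZm.1 hz).2.2 y (hEN hy)⟩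
  have hTZ : T ≤ Z := le_omMod hnN (hTE.trans hEN)
  have hZg : ∀ g ∈ P, ∀ z ∈ Z, g * z * g⁻¹ ∈ Z := by
    intro g hg z hz
    obtain ⟨h1, h2, h3⟩ := hZm.1 hz
    refine hZm.2 ⟨conj_normalizerIn hg h1, by rw [conj_pow]; exact hTg g hg _ h2, fun y hy => ?_⟩
    have e : ⁅g * z * g⁻¹, y⁆ = g * ⁅z, g⁻¹ * y * g⁆ * g⁻¹ := by
      simp only [commutatorElement_def]; group
    rw [e]
    exact hTg g hg _ (h3 _ (conj_normalizerIn' hg hy))
  -- `V` lies in the Frattini subgroup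
  have hVM : V ≤ M := by
    by_contra hne
    rcases irr hS hE hidx hsat (X := V ⊔ M) le_sup_right (sup_le hVE (phi_le E))
      (hVi.sup hVE (phi_le E) (inv_phi le_rfl (inv_self E))) with h | h
    · exact hne (le_sup_left.trans h.le)
    · have hVeq : V = E := eq_of_sup_phi (hS.to_le hES) hVE h.ge
      refine hTM.not_ge (phi_le_iff.2 ⟨fun a ha b hb => ?_, fun a ha => ?_⟩)
      · exact (hVm.1 (hVeq.ge ha)).2.2 b hb
      · exact (hVm.1 (hVeq.ge ha)).2.1
  -- `Z` is strictly above `T`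
  have hTZ' : T < Z := by
    refine lt_of_le_of_ne hTZ fun heq => ?_
    haveI : (T.subgroupOf N).Normal := ⟨fun m hm g => hTg g (hNP g.2) m hm⟩
    haveI : (M.subgroupOf N).Normal := ⟨fun m hm g =>
      phi_conj (fun d hd => conjN hE g.2 hd) hm⟩
    obtain ⟨⟨e, heN⟩, heM, heT, hec⟩ := Grp.PSmall.exists_central_mod hNp (T.subgroupOf N)
      (M.subgroupOf N) fun h => hTM.not_ge fun m hm =>
        (h (show (⟨m, hEN (phi_le E hm)⟩ : N) ∈ M.subgroupOf N from hm) :)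
    have hec' : ∀ s ∈ N, ⁅s, e⁆ ∈ T := fun s hs => by
      have h := hec ⟨s, hs⟩
      rw [Subgroup.mem_subgroupOf] at h
      simpa [commutatorElement_def] using h
    obtain ⟨j, hj⟩ := hNp ⟨e, heN⟩
    have hex : ∃ k, e ^ p ^ k ∈ T := ⟨j, by
      rw [show e ^ p ^ j = 1 from congrArg Subtype.val hj]; exact T.one_mem⟩
    classical
    have hk0 : Nat.find hex ≠ 0 := fun h0 => by
      have := Nat.find_spec hex
      rw [h0, pow_zero, pow_one] at this
      exact heT this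
    obtain ⟨k, hk⟩ := Nat.exists_eq_succ_of_ne_zero hk0
    refine Nat.find_min hex (show k < Nat.find hex by omega) ?_
    have he' : e ^ p ^ k ∈ Subgroup.closure ({e} : Set Ω) :=
      Subgroup.pow_mem _ (Subgroup.subset_closure (Set.mem_singleton e)) (p ^ k)
    refine heq.ge (hZm.2 ⟨N.pow_mem heN _, ?_, fun y hy => comm_flip (comm_mem_closure (T := {e})
      (fun a ha m hm => (Subgroup.mem_normalizer_iff.1 (hnN ?_) m).1 hm)
      (fun t ht => by rw [Set.mem_singleton_iff.1 ht]; exact hec' y hy)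
      he')⟩)
    · have h2 := Nat.find_spec hex
      rw [show Nat.find hex = k + 1 from hk] at h2
      rw [← pow_mul, ← pow_succ p k]
      exact h2
    · exact (Subgroup.closure_le N).2 (by simpa using heN) ha
  -- conjugates of elements of `V`
  have hQE : phi p N ≤ E := phiN_le hS hE hidx hsat
  have hgE : ∀ g ∈ P, ∀ v ∈ V, g * v * g⁻¹ ∈ E := fun g hg v hv =>
    hQE (phi_conj (fun d hd => conj_normalizerIn hg hd) (phi_mono hEN (hVM hv)))
  -- the elementary section generated by `V` and a conjugate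
  set Gs : Ω → Set Ω := fun g => (V : Set Ω) ∪ {x | ∃ v ∈ V, g * v * g⁻¹ = x}
  have hGsE : ∀ g ∈ P, Gs g ⊆ E := by
    rintro g hg x (hx | ⟨v, hv, rfl⟩)
    exacts [hVE hx, hgE g hg v hv]
  have hGsc : ∀ g ∈ P, ∀ a ∈ Gs g, ∀ b ∈ Gs g, ⁅a, b⁆ ∈ T := by
    intro g hg a ha b hb
    rcases ha with ha | ⟨v, hv, rfl⟩
    · exact (hVm.1 ha).2.2 b (hGsE g hg hb)
    · rcases hb with hb | ⟨w, hw, rfl⟩
      · exact comm_flip ((hVm.1 hb).2.2 _ (hgE g hg v hv))
      · rw [show ⁅g * v * g⁻¹, g * w * g⁻¹⁆ = g * ⁅v, w⁆ * g⁻¹ by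
          simp only [commutatorElement_def]; group]
        exact hTg g hg _ ((hVm.1 hv).2.2 w (hVE hw))
  have hGsp : ∀ g ∈ P, ∀ a ∈ Gs g, a ^ p ∈ T := by
    rintro g hg a (ha | ⟨v, hv, rfl⟩)
    · exact (hVm.1 ha).2.1
    · rw [conj_pow]; exact hTg g hg _ (hVm.1 hv).2.1
  have hrank : ∀ {A : Set Ω}, A ⊆ E → (∀ a ∈ A, ∀ b ∈ A, ⁅a, b⁆ ∈ T) → (∀ a ∈ A, a ^ p ∈ T) →
      (T : Set Ω) ⊆ Subgroup.closure A →
      Nat.card (Subgroup.closure A) ≤ p ^ 3 * Nat.card T := fun hA h1 h2 h3 => by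
    obtain ⟨hc, hpw⟩ := elem_mod (fun a ha => hnE (hA ha)) h1 h2
    exact hR _ T (((Subgroup.closure_le _).2 hA).trans hES) h3 hc hpw
  have hVcard : Nat.card V ≤ p ^ 3 * Nat.card T :=
    hR V T (hVE.trans hES) (hTZ.trans hZV) (fun a ha b hb => (hVm.1 ha).2.2 b (hVE hb))
      fun a ha => (hVm.1 ha).2.1
  haveI : Finite V := finite_of_le (hVE.trans hES)
  haveI : Finite Z := finite_of_le (hZE.trans hES)
  by_cases hbig : p ^ 3 * Nat.card T ≤ Nat.card V
  · refine ⟨V, lt_of_lt_of_le hTZ' hZV, hVM, hVi, fun g hg v hv => ?_⟩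
    haveI : Finite (Subgroup.closure (Gs g)) :=
      finite_of_le (((Subgroup.closure_le _).2 (hGsE g hg)).trans hES)
    have heq := Subgroup.eq_of_le_of_card_ge
      (fun x hx => Subgroup.subset_closure (Or.inl hx) : V ≤ Subgroup.closure (Gs g))
      ((hrank (hGsE g hg) (hGsc g hg) (hGsp g hg)
        (fun t ht => Subgroup.subset_closure (Or.inl (hZV (hTZ ht))))).trans hbig)
    exact heq.ge (Subgroup.subset_closure (Or.inr ⟨v, hv, rfl⟩))
  by_cases hVZ : V ≤ Z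
  · refine ⟨V, lt_of_lt_of_le hTZ' hZV, hVM, hVi, fun g hg v hv => ?_⟩
    exact hZV (hZg g hg v (hVZ hv))
  have hV2 : Nat.card V ≤ p ^ 2 * Nat.card T := by
    obtain ⟨i, hi⟩ := exists_card_pow hS (hVE.trans hES)
    obtain ⟨j, hj⟩ := exists_card_pow hS (hTE.trans hES)
    rw [hi, hj, ← pow_add] at hbig ⊢
    rw [Nat.pow_le_pow_iff_right hp.out.one_lt] at hbig
    exact Nat.pow_le_pow_right hp.out.pos (by omega)
  have hpT := mul_card_le hS (hZE.trans hES) hTZ'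
  have hpZ := mul_card_le hS (hVE.trans hES) (lt_of_le_of_ne hZV fun h => hVZ h.ge)
  have hZcard : Nat.card Z ≤ p * Nat.card T := by
    have := hpZ.trans hV2
    rw [sq, mul_assoc] at this
    exact Nat.le_of_mul_le_mul_left this hp.out.pos
  have hVpZ : Nat.card V ≤ p * Nat.card Z := hV2.trans (by
    rw [sq, mul_assoc]; exact Nat.mul_le_mul_left p hpT)
  have hNV : ∀ n ∈ N, ∀ v ∈ V, ⁅n, v⁆ ∈ Z := fun n hn v hv =>
    comm_mem_of_index hNp hZV (hVE.trans hEN) (fun s hs z hz => hZg s (hNP hs) z hz) hVn hVpZ hn hv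
  have hNgV : ∀ g ∈ P, ∀ n ∈ N, ∀ v ∈ V, ⁅n, g * v * g⁻¹⁆ ∈ Z := fun g hg n hn v hv => by
    rw [show ⁅n, g * v * g⁻¹⁆ = g * ⁅g⁻¹ * n * g, v⁆ * g⁻¹ by
      simp only [commutatorElement_def]; group]
    exact hZg g hg _ (hNV _ (conj_normalizerIn' hg hn) v hv)
  by_cases hZi : Inv F E Z
  · exact ⟨Z, hTZ', hZV.trans hVM, hZi, hZg⟩
  by_cases hVg : ∀ g ∈ P, ∀ v ∈ V, g * v * g⁻¹ ∈ V
  · exact ⟨V, lt_of_lt_of_le hTZ' hZV, hVM, hVi, hVg⟩
  exfalso
  simp only [Inv] at hZi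
  push Not at hZi hVg
  obtain ⟨β, hβ, z₀, hz₀, hβz₀⟩ := hZi
  obtain ⟨g, hg, v, hv, hw⟩ := hVg
  have hβ' : β⁻¹ ∈ F.autGroup E := inv_mem hβ
  have hI : ∀ a ∈ Z, autFun β⁻¹ a ∈ Z → a ∈ T := by
    intro a ha ha'
    by_contra haT
    set C := Subgroup.closure ((T : Set Ω) ∪ {autFun β⁻¹ a})
    have hCZ : C ≤ Z := (Subgroup.closure_le _).2 (Set.union_subset hTZ (by simpa using ha'))
    have hTC : T < C := lt_of_le_of_ne (fun t ht => Subgroup.subset_closure (Or.inl ht)) fun h => by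
      have h1 := hTi β hβ _ (h.ge (Subgroup.subset_closure (Or.inr rfl)))
      rw [af_apply_inv β (hZE ha)] at h1
      exact haT h1
    haveI : Finite C := finite_of_le (hCZ.trans (hZE.trans hES))
    have hC := Subgroup.eq_of_le_of_card_ge hCZ
      (hZcard.trans (mul_card_le hS (hCZ.trans (hZE.trans hES)) hTC))
    let K : Subgroup Ω :=
      { carrier := {x | x ∈ E ∧ autFun β x ∈ Z}
        one_mem' := ⟨E.one_mem, by rw [af_one]; exact one_mem _⟩
        mul_mem' := fun {a b} ha hb => ⟨E.mul_mem ha.1 hb.1, by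
          rw [af_mul β ha.1 hb.1]; exact mul_mem ha.2 hb.2⟩
        inv_mem' := fun {a} ha => ⟨E.inv_mem ha.1, by rw [af_inv β ha.1]; exact inv_mem ha.2⟩ }
    have hle : C ≤ K := (Subgroup.closure_le _).2 (by
      rintro x (hx | rfl)
      · exact ⟨hTE hx, hTZ (hTi β hβ x hx)⟩
      · exact ⟨autFun_mem _ (hZE ha), by rw [af_apply_inv β (hZE ha)]; exact ha⟩)
    exact hβz₀ (hle (hC.ge hz₀)).2
  set w := g * v * g⁻¹ with hwdef
  have hwE : w ∈ E := hgE g hg v hv
  set a' := autFun β w with ha'def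
  have ha'E : a' ∈ E := autFun_mem β hwE
  have hbinv : autFun β⁻¹ a' = w := autFun_inv_apply β hwE
  have hkey : ∀ x ∈ E, ⁅a', x⁆ ∈ Z → ⁅a', x⁆ ∈ T := fun x hx h => hI _ h (by
    rw [af_comm β⁻¹ ha'E hx, hbinv]
    exact comm_flip (hNgV g hg _ (hEN (autFun_mem _ hx)) v hv))
  have hcomA : ∀ x ∈ Gs g, ⁅a', x⁆ ∈ T := by
    rintro x (hx | ⟨u, hu, rfl⟩)
    · exact comm_flip ((hVm.1 hx).2.2 a' ha'E)
    · exact hkey _ (hgE g hg u hu) (hNgV g hg a' (hEN ha'E) u hu)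
  set A := Subgroup.closure (Gs g)
  set A' := Subgroup.closure (Gs g ∪ {a'})
  have hAE : A ≤ E := (Subgroup.closure_le _).2 (hGsE g hg)
  have hA'E : A' ≤ E :=
    (Subgroup.closure_le _).2 (Set.union_subset (hGsE g hg) (by simpa using ha'E))
  haveI : Finite A := finite_of_le (hAE.trans hES)
  haveI : Finite A' := finite_of_le (hA'E.trans hES)
  have hVA : V < A := lt_of_le_of_ne (fun x hx => Subgroup.subset_closure (Or.inl hx))
    fun h => hw (h.ge (Subgroup.subset_closure (Or.inr ⟨v, hv, rfl⟩)))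
  have hAcard : p ^ 3 * Nat.card T ≤ Nat.card A := by
    refine le_trans ?_ (mul_card_le hS (hAE.trans hES) hVA)
    rw [pow_succ', mul_assoc, sq, mul_assoc]
    exact Nat.mul_le_mul_left p ((Nat.mul_le_mul_left p hpT).trans hpZ)
  have hA'card : Nat.card A' ≤ p ^ 3 * Nat.card T := by
    refine hrank (Set.union_subset (hGsE g hg) (by simpa using ha'E)) ?_ ?_
      (fun t ht => Subgroup.subset_closure (Or.inl (Or.inl (hZV (hTZ ht)))))
    · rintro a (ha | rfl) b (hb | rfl)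
      · exact hGsc g hg a ha b hb
      · exact comm_flip (hcomA a ha)
      · exact hcomA b hb
      · rw [commutatorElement_self]; exact T.one_mem
    · rintro a (ha | rfl)
      · exact hGsp g hg a ha
      · rw [ha'def, ← af_pow β hwE]
        exact hTi β hβ _ (hGsp g hg w (Or.inr ⟨v, hv, rfl⟩))
  have hAA' : A = A' := Subgroup.eq_of_le_of_card_ge
    (Subgroup.closure_mono Set.subset_union_left) (hA'card.trans hAcard)
  have ha'A : a' ∈ A := hAA'.ge (Subgroup.subset_closure (Or.inr rfl))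
  have ha'Z : ∀ y ∈ E, ⁅a', y⁆ ∈ Z := fun y hy => comm_flip (comm_mem_closure (T := Gs g)
    (fun a ha m hm => hZg a (hNP (hEN (hAE ha))) m hm) (fun x hx => by
      rcases hx with hx | ⟨u, hu, rfl⟩
      · exact hTZ (comm_flip ((hVm.1 hx).2.2 y hy))
      · exact hNgV g hg y (hEN hy) u hu) ha'A)
  have ha'V : a' ∈ V := hVm.2 ⟨ha'E, by
    rw [ha'def, ← af_pow β hwE]
    exact hTi β hβ _ (hGsp g hg w (Or.inr ⟨v, hv, rfl⟩)),
    fun y hy => hkey y hy (ha'Z y hy)⟩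
  have h := hVi _ hβ' _ ha'V
  rw [hbinv] at h
  exact hw h

/-- The Frattini subgroup is normalised by the normalizer of the normalizer. -/
theorem phi_normalP : ∀ g ∈ normalizerIn S (normalizerIn S E), ∀ x ∈ phi p E,
    g * x * g⁻¹ ∈ phi p E := by
  haveI := finite_of_le hE.1.1
  haveI : Finite (phi p E) := finite_of_le ((phi_le E).trans hE.1.1)
  suffices h : ∀ n : ℕ, ∀ T : Subgroup Ω, T ≤ phi p E → Inv F E T →
      (∀ g ∈ normalizerIn S (normalizerIn S E), ∀ t ∈ T, g * t * g⁻¹ ∈ T) →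
      Nat.card (phi p E) ≤ Nat.card T + n →
      ∀ g ∈ normalizerIn S (normalizerIn S E), ∀ x ∈ phi p E, g * x * g⁻¹ ∈ phi p E from
    h (Nat.card (phi p E)) ⊥ bot_le
      (fun α _ x hx => by rw [Subgroup.mem_bot.1 hx, af_one]; exact one_mem _)
      (fun g _ t ht => by simp [Subgroup.mem_bot.1 ht]) (Nat.le_add_left _ _)
  intro n
  induction n with
  | zero =>
    intro T hT hi hg hc
    rw [← Subgroup.eq_of_le_of_card_ge hT (by simpa using hc)]
    exact hg
  | succ n ih =>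
    intro T hT hi hg hc
    rcases hT.eq_or_lt with heq | hlt
    · rw [← heq]; exact hg
    · obtain ⟨T', hTT', hT', hi', hg'⟩ := phi_step hS hE hidx hsat hR hlt hi hg
      haveI : Finite T' := finite_of_le (hT'.trans ((phi_le E).trans hE.1.1))
      refine ih T' hT' hi' hg' ?_
      have := mul_card_le hS (hT'.trans ((phi_le E).trans hE.1.1)) hTT'
      haveI : Finite T := finite_of_le (hT.trans ((phi_le E).trans hE.1.1))
      have h0 := Nat.card_pos (α := T)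
      nlinarith [hp.out.two_le]

end Cfsg.Agent.Invol.EssNormal
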