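import Cfsg.Agent.Lib.Invol.EssNormal.CenterSquare
import Cfsg.Agent.Lib.Invol.EssNormal.Isotropic

/-!
# The case of natural modules `Ω₁(Z(E))` of order `p ^ 2` inside all essential subgroups
-/

set_option autoImplicit false
set_option linter.style.haveILetI false
set_option linter.unusedSectionVars false

universe u

namespace Cfsg.Agent.Invol.EssNormal

open Cfsg FusionSystem Cfsg.Agent.Fus
open scoped commutatorElement

variable {Ω : Type u} [Group Ω] {S : Subgroup Ω} {p : ℕ} [hp : Fact p.Prime] {F : FusionSystem S}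

/-- A subgroup generated by another and one element. -/
theorem eq_closure_insert [Finite S] (hS : IsPGroup p S) {A X : Subgroup Ω} (hX : X ≤ S)
    (hAX : A ≤ X) {x : Ω} (hx : x ∈ X) (hxA : x ∉ A) (hcard : Nat.card X ≤ p * Nat.card A) :
    X = Subgroup.closure (insert x (A : Set Ω)) := by
  have hle : Subgroup.closure (insert x (A : Set Ω)) ≤ X :=
    (Subgroup.closure_le _).2 (Set.insert_subset hx hAX)
  haveI := Finite.of_injective _ (Subgroup.inclusion_injective hX)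
  refine (Subgroup.eq_of_le_of_card_ge hle (hcard.trans (mul_card_le hS (hle.trans hX) ?_))).symm
  refine lt_of_le_of_ne (fun a ha => Subgroup.subset_closure (Set.mem_insert_of_mem _ ha)) fun h => ?_
  exact hxA (h.ge (Subgroup.subset_closure (Set.mem_insert _ _)))

/-- Commutators of a group generated by an abelian group and one element. -/
theorem comm_mem_insert {A M : Subgroup Ω} {x : Ω}
    (hM : ∀ a ∈ Subgroup.closure (insert x (A : Set Ω)), ∀ m ∈ M, a * m * a⁻¹ ∈ M)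
    (hA : ∀ a ∈ A, ∀ b ∈ A, ⁅a, b⁆ ∈ M) (hxA : ∀ a ∈ A, ⁅x, a⁆ ∈ M) {a b : Ω}
    (ha : a ∈ Subgroup.closure (insert x (A : Set Ω)))
    (hb : b ∈ Subgroup.closure (insert x (A : Set Ω))) : ⁅a, b⁆ ∈ M := by
  have hgen : ∀ t ∈ insert x (A : Set Ω), ∀ t' ∈ insert x (A : Set Ω), ⁅t, t'⁆ ∈ M := by
    rintro t (rfl | ht) t' (rfl | ht')
    · rw [commutatorElement_self]; exact one_mem _
    · exact hxA t' ht'
    · exact comm_flip (hxA t ht)
    · exact hA t ht t' ht'
  refine comm_mem_closure hM (fun t ht => comm_flip ?_) hb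
  exact comm_mem_closure hM (fun t' ht' => hgen t ht t' ht') ha

/-- Commutators of an element with a group generated modulo a central subgroup by one element. -/
theorem comm_mem_zpowers {A V : Subgroup Ω} {x y₀ : Ω}
    (hAeq : A = Subgroup.closure (insert y₀ (V : Set Ω))) (hV : ∀ v ∈ V, Commute x v)
    (hc : ∀ a ∈ A, Commute ⁅x, y₀⁆ a) {a : Ω} (ha : a ∈ A) :
    ⁅x, a⁆ ∈ Subgroup.zpowers ⁅x, y₀⁆ := by
  subst hAeq
  refine comm_mem_closure (fun b hb m hm => ?_) (fun t ht => ?_) ha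
  · obtain ⟨i, rfl⟩ := hm
    show b * ⁅x, y₀⁆ ^ i * b⁻¹ ∈ _
    rw [← ((hc b hb).zpow_left i).eq, mul_inv_cancel_right]
    exact Subgroup.zpow_mem_zpowers _ i
  · rcases ht with rfl | ht
    · exact Subgroup.mem_zpowers _
    · rw [commutatorElement_eq_one_iff_mul_comm.2 (hV t ht).eq]
      exact one_mem _

/-- The subgroup generated by the commutators. -/
def comms (X : Subgroup Ω) : Subgroup Ω :=
  Subgroup.closure {c | ∃ a ∈ X, ∃ b ∈ X, c = ⁅a, b⁆}

theorem inv_comms {E X : Subgroup Ω} (hX : X ≤ E) (h : Inv F E X) : Inv F E (comms X) := by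
  intro α hα c hc
  have hle : comms X ≤ E := (Subgroup.closure_le _).2 fun c ⟨a, ha, b, hb, e⟩ => by
    rw [e, commutatorElement_def]
    exact E.mul_mem (E.mul_mem (E.mul_mem (hX ha) (hX hb)) (E.inv_mem (hX ha))) (E.inv_mem (hX hb))
  induction hc using Subgroup.closure_induction with
  | mem t ht =>
    obtain ⟨a, ha, b, hb, rfl⟩ := ht
    rw [af_comm α (hX ha) (hX hb)]
    exact Subgroup.subset_closure ⟨_, h α hα a ha, _, h α hα b hb, rfl⟩
  | one => rw [af_one]; exact one_mem _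
  | mul a b ha hb iha ihb => rw [af_mul α (hle ha) (hle hb)]; exact mul_mem iha ihb
  | inv a ha iha => rw [af_inv α (hle ha)]; exact inv_mem iha

theorem comm_af_mem {E M : Subgroup Ω} {α : MulAut E} (hα : α ∈ F.autGroup E) (hM : Inv F E M)
    {y : Ω} (hy : y ∈ E) (h : ∀ e ∈ E, ⁅e, y⁆ ∈ M) {e : Ω} (he : e ∈ E) :
    ⁅e, autFun α y⁆ ∈ M := by
  rw [← af_apply_inv α he, ← af_comm α (autFun_mem _ he) hy]
  exact hM α hα _ (h _ (autFun_mem _ he))

namespace Hyp

variable [Finite S] (H : Hyp F p)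
include H

/-- With `|Ω₁(Z(S))| = p`, a moving subgroup has no nontrivial invariant subgroup inside it. -/
theorem no_inv_line (hZ : Nat.card (om p S) = p) {E N : Subgroup Ω} (hE : Nt F p E)
    (hN : N ≤ om p S) (hNi : Inv F E N) (hne : N ≠ ⊥) : False := by
  haveI := finite_of_le (om_le (p := p) S)
  have heq : N = om p S := Subgroup.eq_of_le_of_card_ge hN
    (hZ.trans_le (prime_le_card H.isPGroup (hN.trans (om_le S)) hne))
  exact hE.2 (heq ▸ hNi)

theorem comm_mem_omS {s z : Ω} (hs : s ∈ S) (hz : z ∈ om p S) : ⁅s, z⁆ = 1 :=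
  commutatorElement_eq_one_iff_mul_comm.2 (hz.2.2 s hs).symm.eq

theorem conj_omS {s z : Ω} (hs : s ∈ S) (hz : z ∈ om p S) : s * z * s⁻¹ = z := by
  rw [← (hz.2.2 s hs).eq, mul_inv_cancel_right]

/-- No elementary abelian subgroup of order `p ^ 3` of `E` has all its commutators with `S` in
`Ω₁(Z(S))`. -/
theorem no_A (hZ : Nat.card (om p S) = p) {E A : Subgroup Ω} (hE : Nt F p E) (hAE : A ≤ E)
    (hc : ∀ a ∈ A, ∀ b ∈ A, Commute a b) (hp' : ∀ a ∈ A, a ^ p = 1) (h3 : p ^ 3 ≤ Nat.card A)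
    (hV : Nat.card (om p E) < p ^ 3) (hcomm : ∀ s ∈ S, ∀ a ∈ A, ⁅s, a⁆ ∈ om p S) : False := by
  have hES := H.le hE.1
  have hZE := H.omS_le hE.1
  haveI := finite_of_le (om_le (p := p) S)
  haveI := finite_of_le ((om_le (p := p) E).trans hES)
  obtain ⟨γ, hγ, z₀, hz₀, hzne⟩ : ∃ γ ∈ F.autGroup E, ∃ z ∈ om p S, autFun γ z ∉ om p S := by
    by_contra h
    push Not at h
    exact hE.2 h
  -- generation of `Ω₁(Z(S))`
  have hgen : ∀ z ∈ om p S, z ≠ 1 → Subgroup.zpowers z = om p S := fun z hz hz1 => by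
    refine Subgroup.eq_of_le_of_card_ge (Subgroup.zpowers_le.2 hz) ?_
    rw [hZ, Nat.card_zpowers, orderOf_eq_prime hz.2.1 hz1]
  have hinv_of : ∀ α : MulAut E, ∀ z ∈ om p S, z ≠ 1 → autFun α z ∈ om p S →
      ∀ w ∈ om p S, autFun α w ∈ om p S := by
    intro α z hz hz1 h w hw
    rw [← hgen z hz hz1] at hw
    obtain ⟨i, rfl⟩ := exists_pow_eq hz.2.1 hw
    rw [af_pow α (hZE hz)]
    exact Subgroup.pow_mem _ h i
  -- automorphisms moving the line preserve `A`
  have hmove : ∀ α ∈ F.autGroup E, (∃ z ∈ om p S, autFun α z ∉ om p S) →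
      ∀ a ∈ A, autFun α a ∈ A := by
    rintro α hα ⟨z, hz, hzn⟩ a ha
    refine H.rank.absorb (hAE.trans hES) hc hp' h3 (hES (autFun_mem α (hAE ha)))
      (by rw [← af_pow α (hAE ha), hp' a ha, af_one]) fun a' ha' => ?_
    have h1 : ⁅autFun α a, a'⁆ ∈ om p S := hcomm _ (hES (autFun_mem α (hAE ha))) a' ha'
    have h2 : ⁅a, autFun α⁻¹ a'⁆ ∈ om p S :=
      comm_flip (hcomm _ (hES (autFun_mem _ (hAE ha'))) a ha)
    have h3' : ⁅autFun α a, a'⁆ = autFun α ⁅a, autFun α⁻¹ a'⁆ := by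
      rw [af_comm α (hAE ha) (autFun_mem _ (hAE ha')), af_apply_inv α (hAE ha')]
    refine commutatorElement_eq_one_iff_mul_comm.1 (by_contra fun hne => hzn ?_)
    refine hinv_of α _ h2 (fun h0 => hne ?_) (h3' ▸ h1) z hz
    rw [h3', h0, af_one]
  have hAinv : Inv F E A := by
    intro α hα a ha
    by_cases hm : ∃ z ∈ om p S, autFun α z ∉ om p S
    · exact hmove α hα hm a ha
    push Not at hm
    have h1 : autFun α a = autFun (α * γ) (autFun γ⁻¹ a) := by
      rw [autFun_mul _ _ (autFun_mem _ (hAE ha)), af_apply_inv γ (hAE ha)]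
    rw [h1]
    refine hmove _ (mul_mem hα hγ) ⟨z₀, hz₀, fun h => hzne ?_⟩ _ (hmove _ (inv_mem hγ) ?_ a ha)
    · rw [autFun_mul _ _ (hZE hz₀)] at h
      have hy := autFun_mem γ (hZE hz₀)
      have hz1 : autFun α (autFun γ z₀) ∈ autFun α '' (om p S : Set Ω) := by
        have hfin : ((om p S : Subgroup Ω) : Set Ω).Finite := Set.toFinite _
        have hsub : autFun α '' (om p S : Set Ω) ⊆ (om p S : Set Ω) := by
          rintro _ ⟨w, hw, rfl⟩; exact hm w hw
        rw [Set.eq_of_subset_of_ncard_le hsub (le_of_eq (Set.InjOn.ncard_image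
          fun x hx y hy h => af_injOn α (hZE hx) (hZE hy) h).symm) hfin]
        exact h
      obtain ⟨w, hw, hwe⟩ := hz1
      rwa [← af_injOn α (hZE hw) hy hwe]
    · by_contra h
      push Not at h
      have hz1 : z₀ ≠ 1 := fun h0 => hzne (by rw [h0, af_one]; exact one_mem _)
      have h2 := h z₀ hz₀
      obtain ⟨i, hi⟩ := exists_pow_eq (p := p) hz₀.2.1
        ((hgen z₀ hz₀ hz1).ge h2)
      have h3' : z₀ = autFun γ z₀ ^ i := by
        have := congrArg (autFun γ) hi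
        rwa [af_apply_inv γ (hZE hz₀), af_pow γ (hZE hz₀)] at this
      have hne1 : autFun γ⁻¹ z₀ ≠ 1 := fun h0 => hz1 (by
        rw [← af_apply_inv γ (hZE hz₀), h0, af_one])
      have h4 := hinv_of γ _ h2 hne1 (by rw [af_apply_inv γ (hZE hz₀)]; exact hz₀) z₀ hz₀
      exact hzne h4
  obtain ⟨a, ha, e, he, hne⟩ : ∃ a ∈ A, ∃ e ∈ E, ⁅e, a⁆ ≠ 1 := by
    by_contra h
    push Not at h
    refine hV.not_ge (h3.trans (Subgroup.card_le_of_le fun a ha => ⟨hAE ha, hp' a ha, fun y hy => ?_⟩))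
    exact ((commutatorElement_eq_one_iff_mul_comm.1 (h a ha y hy)) : Commute y a).symm
  refine hE.2 fun α hα => hinv_of α _ (hcomm e (hES he) a ha) hne ?_
  rw [af_comm α he (hAE ha)]
  exact hcomm _ (hES (autFun_mem α he)) _ (hAinv α hα a ha)

section natural

variable (hZ : Nat.card (om p S) = p)
  (hcard : ∀ E, Nt F p E → Nat.card (om p E) = p ^ 2)
  (hall : ∀ E, Nt F p E → ∀ P, F.IsEssential p P → om p E ≤ P)
include hZ hcard hall

theorem comm_om {E : Subgroup Ω} (hE : Nt F p E) {s v : Ω} (hs : s ∈ S) (hv : v ∈ om p E) :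
    ⁅s, v⁆ ∈ om p S :=
  comm_mem_of_index H.isPGroup (H.omS_le_om hE.1) ((om_le E).trans (H.le hE.1))
    (fun t ht m hm => by rw [H.conj_omS ht hm]; exact hm)
    (fun t ht n hn => H.normal_of_inv hE.1 (om_le E) (inv_om E) ht hn)
    (by rw [hcard E hE, hZ, sq]) hs hv

theorem nt_unique {E E' : Subgroup Ω} (hE : Nt F p E) (hE' : Nt F p E') : E = E' := by
  by_contra hne
  have hp1 := hp.out.one_lt
  have hV' : om p E' ≤ E := hall E' hE' E hE.1
  obtain ⟨hAc, hAp⟩ := sup_elem (p := p) (A := om p E) (B := om p E')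
    (fun a ha b hb => ha.2.2 b hb.1) (fun a ha b hb => ha.2.2 b hb.1) (fun a ha => ha.2.1)
    (fun a ha => ha.2.1) fun a ha b hb => ha.2.2 b (hV' hb)
  have hAE : om p E ⊔ om p E' ≤ E := sup_le (om_le E) hV'
  have hlt : om p E < om p E ⊔ om p E' := by
    refine lt_of_le_of_ne le_sup_left fun h => ?_
    have hle : om p E' ≤ om p E := h ▸ le_sup_right
    haveI := finite_of_le ((om_le (p := p) E).trans (H.le hE.1))
    have heq : om p E' = om p E :=
      Subgroup.eq_of_le_of_card_ge hle (by rw [hcard E hE, hcard E' hE'])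
    have hVZ : om p E ≤ om p S := fun x hx =>
      H.omS_of_two hE.1 hE'.1 hne hx (heq.ge hx).2.2
    haveI := finite_of_le (om_le (p := p) S)
    have h1 := Subgroup.card_le_of_le hVZ
    rw [hcard E hE, hZ] at h1
    have := Nat.pow_lt_pow_right hp1 (show 1 < 2 by norm_num)
    rw [pow_one] at this
    omega
  refine H.no_A hZ hE hAE hAc hAp ?_ (by rw [hcard E hE]; exact Nat.pow_lt_pow_right hp1 (by norm_num))
    fun s hs a ha => ?_
  · have h1 := mul_card_le H.isPGroup (hAE.trans (H.le hE.1)) hlt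
    rwa [hcard E hE, ← pow_succ'] at h1
  · rw [Subgroup.sup_eq_closure] at ha
    refine comm_mem_closure (fun b hb m hm => ?_) (fun t ht => ?_) ha
    · rw [H.conj_omS (H.le hE.1 (hAE (by rw [Subgroup.sup_eq_closure]; exact hb))) hm]; exact hm
    · rcases ht with ht | ht
      · exact H.comm_om hZ hcard hall hE hs ht
      · exact H.comm_om hZ hcard hall hE' hs ht

variable {E₁ : Subgroup Ω} (hE₁ : Nt F p E₁)
include hE₁

theorem cent_le {x : Ω} (hx : x ∈ S) (hc : ∀ v ∈ om p E₁, Commute x v) : x ∈ E₁ := by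
  by_contra hxE
  haveI := finite_of_le (om_le (p := p) S)
  have hle : om p E₁ ≤ om p S := fun v hv =>
    H.mem_omS hE₁.1 hx hxE (H.le hE₁.1 hv.1) hv.2.1 hv.2.2 (hc v hv).symm
  have h1 := Subgroup.card_le_of_le hle
  rw [hcard E₁ hE₁, hZ] at h1
  have := Nat.pow_lt_pow_right hp.out.one_lt (show 1 < 2 by norm_num)
  rw [pow_one] at this
  omega

theorem top_fix {β : MulAut S} (hβ : β ∈ F.autGroup S) :
    fimg (autFun β) E₁ = E₁ ∧ ∀ v ∈ om p E₁, autFun β v ∈ om p E₁ := by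
  have h := H.nt_unique hZ hcard hall (H.nt_map hβ hE₁) hE₁
  refine ⟨h, fun v hv => ?_⟩
  have h1 := H.om_map hβ (H.le hE₁.1) hv
  rwa [h] at h1

/-- The image of the subgroup moved by an essential subgroup, in the nonabelian case. -/
theorem orb_nonabelian_false {P : Subgroup Ω} (hP : F.IsEssential p P) (hPne : P ≠ E₁)
    (hW : Inv F P (orb F P (om p E₁)))
    (hcW : ∀ e ∈ P, ∀ w ∈ orb F P (om p E₁), ⁅e, w⁆ ∈ om p S)
    (hexp : ∀ w ∈ orb F P (om p E₁), w ^ p = 1)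
    (hnab : ¬ ∀ a ∈ orb F P (om p E₁), ∀ b ∈ orb F P (om p E₁), Commute a b) : False := by
  have hp1 := hp.out.one_lt
  have hES := H.le hE₁.1
  have hVP : om p E₁ ≤ P := hall E₁ hE₁ P hP
  set V := om p E₁ with hVdef
  set W := orb F P V with hWdef
  have hWP : W ≤ P := orb_le hVP
  have hWS : W ≤ S := hWP.trans (H.le hP)
  have hVW : V ≤ W := le_orb hVP
  have hV2 : Nat.card V = p ^ 2 := hcard E₁ hE₁
  have hWn : ∀ s ∈ S, ∀ w ∈ W, s * w * s⁻¹ ∈ W := fun s hs w hw =>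
    H.normal_of_inv hP hWP hW hs hw
  haveI := finite_of_le (om_le (p := p) S)
  haveI : Finite W := finite_of_le hWS
  -- `W` is not inside `E₁`
  obtain ⟨f, hf, hfE⟩ : ∃ f ∈ W, f ∉ E₁ := by
    by_contra h
    push Not at h
    apply hnab
    have hgen : ∀ w ∈ W, ∀ v ∈ V, Commute w v := fun w hw v hv => (hv.2.2 w (h w hw)).symm
    intro a ha b hb
    induction ha using Subgroup.closure_induction with
    | mem t ht =>
      obtain ⟨α, hα, v, hv, rfl⟩ := ht
      have h1 := af_commute α (hVP hv) (autFun_mem α⁻¹ (hWP hb))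
        (hgen _ (hW _ (inv_mem hα) b hb) v hv).symm
      rwa [af_apply_inv α (hWP hb)] at h1
    | one => exact Commute.one_left _
    | mul x y _ _ ihx ihy => exact ihx.mul_left ihy
    | inv x _ ihx => exact ihx.inv_left
  have hfS := hWS hf
  obtain ⟨v₀, hv₀, hz₀⟩ : ∃ v ∈ V, ⁅f, v⁆ ≠ 1 := by
    by_contra h
    push Not at h
    exact hfE (H.cent_le hZ hcard hall hE₁ hfS fun v hv =>
      commutatorElement_eq_one_iff_mul_comm.1 (h v hv))
  have hz₀Z : ⁅f, v₀⁆ ∈ om p S := H.comm_om hZ hcard hall hE₁ hfS hv₀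
  have hgenZ : ∀ z ∈ om p S, ∃ i : ℕ, z = ⁅f, v₀⁆ ^ i := fun z hz => by
    refine exists_pow_eq hz₀Z.2.1 ?_
    rw [Subgroup.eq_of_le_of_card_ge (Subgroup.zpowers_le.2 hz₀Z)
      (by rw [hZ, Nat.card_zpowers, orderOf_eq_prime hz₀Z.2.1 hz₀])]
    exact hz
  -- orders
  have hW4 : Nat.card W ≤ p ^ 4 := by
    have h := H.rank W (om p S) hWS ((H.omS_le_om hE₁.1).trans hVW)
      (fun a ha b hb => hcW a (hWP ha) b hb) fun a ha => by rw [hexp a ha]; exact one_mem _
    rwa [hZ, ← pow_succ] at h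
  set A := W ⊓ E₁ with hA
  have hVA : V ≤ A := le_inf hVW (om_le E₁)
  have hAW : A < W := lt_of_le_of_ne inf_le_left fun h => hfE ((h.ge hf : f ∈ A).2)
  have hA3 : Nat.card A ≤ p ^ 3 := by
    have h := (mul_card_le H.isPGroup hWS hAW).trans hW4
    rw [pow_succ' p 3] at h
    exact Nat.le_of_mul_le_mul_left h hp.out.pos
  haveI : Finite A := finite_of_le (inf_le_left.trans hWS)
  have hdec : ∀ w ∈ W, ∃ i : ℕ, ∃ a ∈ A, w = a * f ^ i := by
    intro w hw
    obtain ⟨i, e, he, rfl⟩ := (H.decomp hE₁.1 hfS hfE).2 w (hWS hw)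
    exact ⟨i, e, ⟨(W.mul_mem_cancel_right (W.pow_mem hf i)).1 hw, he⟩, rfl⟩
  rcases hVA.eq_or_lt with hAeq | hAlt
  swap
  · -- `A` is elementary abelian of order `p ^ 3`
    obtain ⟨a₀, ha₀, ha₀V⟩ := SetLike.exists_of_lt hAlt
    have hA3' : p ^ 3 ≤ Nat.card A := by
      have h := mul_card_le H.isPGroup (inf_le_left.trans hWS) hAlt
      rwa [hV2, ← pow_succ'] at h
    have hAcl := eq_closure_insert H.isPGroup (inf_le_left.trans hWS) hVA ha₀ ha₀V
      (hA3.trans (by rw [hV2, ← pow_succ']))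
    obtain ⟨hAc, -⟩ := closure_elem (p := p) (T := insert a₀ (V : Set Ω)) (by
      rintro a (rfl | ha) b (rfl | hb)
      · exact Commute.refl _
      · exact (hb.2.2 a ha₀.2).symm
      · exact ha.2.2 b ha₀.2
      · exact ha.2.2 b hb.1) (by
      rintro a (rfl | ha)
      · exact hexp a ha₀.1
      · exact ha.2.1)
    rw [← hAcl] at hAc
    -- the centre of `W`
    set R := om p W with hR
    have hRA : R ≤ A := fun r hr => ⟨hr.1, H.cent_le hZ hcard hall hE₁ (hWS hr.1)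
      fun v hv => hr.2.2 v (hVW hv)⟩
    have hRlt : R < A := lt_of_le_of_ne hRA fun h => hz₀
      (commutatorElement_eq_one_iff_mul_comm.2 ((h.ge (hVA hv₀)).2.2 f hf).symm.eq)
    have hRinv : Inv F P R := by
      intro α hα r hr
      refine ⟨hW α hα r hr.1, hexp _ (hW α hα r hr.1), fun y hy => ?_⟩
      have h := af_commute α (hWP hr.1) (autFun_mem α⁻¹ (hWP hy))
        (hr.2.2 _ (hW _ (inv_mem hα) y hy))
      rwa [af_apply_inv α (hWP hy)] at h
    have hZR : om p S ≤ R := fun z hz => ⟨hVW (H.omS_le_om hE₁.1 hz), hz.2.1,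
      fun y hy => hz.2.2 y (hWS hy)⟩
    have hRS : R ≤ S := (om_le W).trans hWS
    have hRcard : Nat.card R ≤ p * Nat.card (om p S) := by
      rw [hZ]
      have h := (mul_card_le H.isPGroup (inf_le_left.trans hWS) hRlt).trans hA3
      rw [pow_succ' p 2] at h
      exact (Nat.le_of_mul_le_mul_left h hp.out.pos).trans_eq (sq p)
    refine H.no_A hZ hE₁ (inf_le_right : A ≤ E₁) hAc (fun a ha => hexp a ha.1) hA3'
      (by rw [hcard E₁ hE₁]; exact Nat.pow_lt_pow_right hp1 (by norm_num)) fun s hs a ha => ?_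
    obtain ⟨i, hi⟩ := hgenZ _ (hcW f (hWP hf) a ha.1)
    have hvi : v₀ ^ i ∈ V := V.pow_mem hv₀ i
    have hr : a * (v₀ ^ i)⁻¹ ∈ R := by
      have hmem : a * (v₀ ^ i)⁻¹ ∈ W := W.mul_mem ha.1 (W.inv_mem (hVW hvi))
      refine ⟨hmem, hexp _ hmem, fun y hy => ?_⟩
      obtain ⟨j, a', ha', rfl⟩ := hdec y hy
      refine ((hAc a ha a' ha').mul_left (hAc _ (A.inv_mem (hVA hvi)) a' ha')).mul_right
        (Commute.pow_right ?_ j)
      refine Commute.symm (commutatorElement_eq_one_iff_mul_comm.1 ?_)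
      have hz' := hz₀Z.2.2
      have e1 : ⁅f, v₀ ^ i⁆ = ⁅f, v₀⁆ ^ i := comm_pow_right' (hz' v₀ (hES hv₀.1)) i
      rw [comm_mul_right,
        show ⁅f, (v₀ ^ i)⁻¹⁆ = (⁅f, v₀⁆ ^ i)⁻¹ by
          rw [← e1, show ⁅f, (v₀ ^ i)⁻¹⁆ = (v₀ ^ i)⁻¹ * ⁅f, v₀ ^ i⁆⁻¹ * v₀ ^ i by
            simp only [commutatorElement_def]; group, mul_assoc, e1,
            ((hz' v₀ (hES hv₀.1)).pow_pow i i).inv_left.eq, inv_mul_cancel_left],
        ← ((hz' a (hES ha.2)).pow_left i).inv_left.eq, mul_inv_cancel_right, hi, mul_inv_cancel]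
    have h1 : ⁅s, a * (v₀ ^ i)⁻¹⁆ ∈ om p S := comm_mem_of_index H.isPGroup hZR hRS
      (fun t ht m hm => by rw [H.conj_omS ht hm]; exact hm)
      (fun t ht n hn => H.normal_of_inv hP ((om_le W).trans hWP) hRinv ht hn) hRcard hs hr
    have h2 : ⁅s, v₀ ^ i⁆ ∈ om p S := H.comm_om hZ hcard hall hE₁ hs hvi
    rw [show a = a * (v₀ ^ i)⁻¹ * v₀ ^ i by rw [inv_mul_cancel_right], comm_mul_right]
    refine Subgroup.mul_mem _ h1 ?_
    rw [H.conj_omS (S.mul_mem (hES ha.2) (S.inv_mem (hES hvi.1))) h2]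
    exact h2
  -- `W = V⟨f⟩` is extraspecial and `E₁` is elementary
  set Q := centralizerIn P W with hQdef
  have hQS : Q ≤ S := inf_le_left.trans (H.le hP)
  haveI hQn : (Q.subgroupOf S).Normal := ⟨fun q hq t => by
    have hq' : (q : Ω) ∈ Q := hq
    show (t : Ω) * q * (t : Ω)⁻¹ ∈ Q
    refine mem_centralizerIn.2 ⟨H.conj_mem hP t.2 hq'.1, fun w hw => ?_⟩
    have h := (mem_centralizerIn.1 hq').2 _ (hWn _ (S.inv_mem t.2) w hw)
    rw [inv_inv] at h
    have h2 := congrArg (fun y => (t : Ω) * y * (t : Ω)⁻¹) h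
    group at h2 ⊢
    exact h2⟩
  haveI : Finite (Subgroup.zpowers f) := finite_of_le (S := S) (Subgroup.zpowers_le.2 hfS)
  obtain ⟨s, hs, hsP⟩ := H.not_le_other hP hE₁.1 hPne
  have hsS := hES hs
  -- `s ^ p` centralizes `W`
  have hsp : s ^ p ∈ Q := by
    refine mem_centralizerIn.2 ⟨(H.decomp hP hsS hsP).1, fun w hw => ?_⟩
    obtain ⟨i, a, ha, rfl⟩ := hdec w hw
    have hav : a ∈ V := hAeq.ge ha
    have c1 : Commute (s ^ p) a := (hav.2.2 s hs).symm.pow_left p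
    set u := ⁅s, f⁆ with hu
    have huA : u ∈ A := comm_mem_of_index H.isPGroup (inf_le_left : A ≤ W) hWS
      (fun t ht m hm => ⟨hWn t ht m hm.1, H.conj_mem hE₁.1 ht hm.2⟩) hWn (by
        refine le_trans (card_mul_le (A := A) (B := (Subgroup.zpowers f)) fun c hc => ?_) ?_
        · obtain ⟨i, a, ha, rfl⟩ := hdec c hc
          exact ⟨a, ha, _, Subgroup.pow_mem _ (Subgroup.mem_zpowers f) i, rfl⟩
        · rw [mul_comm p, Nat.card_zpowers]
          exact Nat.mul_le_mul_left _ (Nat.le_of_dvd hp.out.pos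
            (orderOf_dvd_of_pow_eq_one (hexp f hf)))) hsS hf
    have hsu : Commute s u := ((hAeq.ge huA).2.2 s hs).symm
    have key : ∀ n : ℕ, s ^ n * f = u ^ n * f * s ^ n := by
      intro n
      induction n with
      | zero => simp
      | succ n ih =>
        have e : s * f = u * f * s := by rw [hu, commutatorElement_def]; group
        calc s ^ (n + 1) * f = s * (s ^ n * f) := by rw [pow_succ', mul_assoc]
          _ = (s * u ^ n) * f * s ^ n := by rw [ih]; simp only [mul_assoc]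
          _ = u ^ n * (s * f) * s ^ n := by rw [(hsu.pow_right n).eq]; simp only [mul_assoc]
          _ = u ^ (n + 1) * f * s ^ (n + 1) := by
            rw [e, pow_succ u, pow_succ' s]; simp only [mul_assoc]
    have c2 : Commute (s ^ p) f := by
      have h := key p
      rwa [(hAeq.ge huA).2.1, one_mul] at h
    exact (c1.mul_right (c2.pow_right i)).symm.eq
  -- the elements of `E₁`
  have hEdec : ∀ g ∈ E₁, ∃ v ∈ V, ∃ q ∈ Q, ∃ k : ℕ, g = v * q * s ^ k := by
    intro g hg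
    obtain ⟨k, e, he, rfl⟩ := (H.decomp hP hsS hsP).2 g (hES hg)
    have heE : e ∈ E₁ := (E₁.mul_mem_cancel_right (E₁.pow_mem hs k)).1 hg
    obtain ⟨j, hj⟩ := hgenZ _ (comm_flip (hcW e he f hf))
    have hvj : v₀ ^ j ∈ V := V.pow_mem hv₀ j
    refine ⟨v₀ ^ j, hvj, (v₀ ^ j)⁻¹ * e, ?_, k, by group⟩
    refine mem_centralizerIn.2 ⟨P.mul_mem (P.inv_mem (hVP hvj)) he, fun w hw => ?_⟩
    obtain ⟨i, a, ha, rfl⟩ := hdec w hw
    have hav : a ∈ V := hAeq.ge ha
    have hz' := hz₀Z.2.2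
    have hz'' : ⁅f, e⁆ = ⁅f, v₀ ^ j⁆ := by
      rw [hj, comm_pow_right' (hz' v₀ (hES hv₀.1)) j]
    have c2 : Commute f ((v₀ ^ j)⁻¹ * e) := by
      rw [commutatorElement_def, commutatorElement_def, mul_assoc (f * e), ← mul_inv_rev,
        mul_assoc (f * v₀ ^ j), ← mul_inv_rev] at hz''
      rw [commute_iff_eq]
      have h2 : f * e * (e * f)⁻¹ * (v₀ ^ j * f) = f * v₀ ^ j := by
        rw [hz'', inv_mul_cancel_right]
      have hc4 : Commute (f * e * (e * f)⁻¹) (v₀ ^ j) := by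
        have := (hcW f (hWP hf) _ (hVW hvj))
        have h5 : f * e * (e * f)⁻¹ ∈ om p S := by
          rw [hz'']
          rw [commutatorElement_def, mul_assoc (f * v₀ ^ j), ← mul_inv_rev] at this
          exact this
        exact h5.2.2 _ (hES hvj.1)
      have h6 : f * v₀ ^ j = v₀ ^ j * (f * e * (e * f)⁻¹) * f := by
        rw [← hc4.eq, mul_assoc, h2]
      calc f * ((v₀ ^ j)⁻¹ * e) = (v₀ ^ j)⁻¹ * (v₀ ^ j * f) * ((v₀ ^ j)⁻¹ * e) := by group
        _ = (v₀ ^ j)⁻¹ * ((f * e * (e * f)⁻¹)⁻¹ * (f * v₀ ^ j)) * ((v₀ ^ j)⁻¹ * e) := by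
          rw [← h2]; group
        _ = (v₀ ^ j)⁻¹ * (f * e * (e * f)⁻¹)⁻¹ * (f * e) := by group
        _ = (v₀ ^ j)⁻¹ * e * f := by group
    have c1 : Commute a ((v₀ ^ j)⁻¹ * e) := hav.2.2 _ (E₁.mul_mem (E₁.inv_mem hvj.1) heE)
    exact (c1.mul_left (c2.pow_left i)).eq
  set φ := QuotientGroup.mk' (Q.subgroupOf S) with hφ
  have hφQ : ∀ x : S, (x : Ω) ∈ Q → φ x = 1 := fun x hx => (QuotientGroup.eq_one_iff x).2 hx
  have himg : ∀ g : S, (g : Ω) ∈ E₁ → ∃ v : S, (v : Ω) ∈ V ∧ ∃ k : ℕ,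
      φ g = φ v * φ ⟨s, hsS⟩ ^ k := by
    intro g hg
    obtain ⟨v, hv, q, hq, k, he⟩ := hEdec g hg
    refine ⟨⟨v, hES hv.1⟩, hv, k, ?_⟩
    have hge : g = ⟨v, hES hv.1⟩ * ⟨q, hQS hq⟩ * ⟨s, hsS⟩ ^ k := Subtype.ext he
    rw [hge, map_mul, map_mul, map_pow, hφQ ⟨q, hQS hq⟩ hq, mul_one]
  have hVs : ∀ v : S, (v : Ω) ∈ V → Commute v ⟨s, hsS⟩ := fun v hv =>
    Subtype.ext (hv.2.2 s hs).eq
  have hphi : phi p E₁ ≤ Q := by
    refine phi_le_iff.2 ⟨fun a ha b hb => ?_, fun a ha => ?_⟩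
    · obtain ⟨v, hv, k, hk⟩ := himg ⟨a, hES ha⟩ ha
      obtain ⟨w, hw, l, hl⟩ := himg ⟨b, hES hb⟩ hb
      have h : φ ⁅(⟨a, hES ha⟩ : S), ⟨b, hES hb⟩⁆ = 1 := by
        rw [map_commutatorElement, hk, hl, commutatorElement_eq_one_iff_mul_comm]
        refine Commute.eq ?_
        have cvw : Commute v w := Subtype.ext (hv.2.2 w hw.1).eq
        exact ((cvw.map φ).mul_right (((hVs v hv).map φ).pow_right l)).mul_left
          ((((hVs w hw).map φ).symm.pow_left k).mul_right ((Commute.refl _).pow_pow k l))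
      exact ((QuotientGroup.eq_one_iff _).1 h :)
    · obtain ⟨v, hv, k, hk⟩ := himg ⟨a, hES ha⟩ ha
      have h : φ ((⟨a, hES ha⟩ : S) ^ p) = 1 := by
        rw [map_pow, hk, (((hVs v hv).map φ).pow_right k).mul_pow, ← map_pow, ← pow_mul,
          mul_comm k, pow_mul, ← map_pow φ (⟨s, hsS⟩ : S) p, hφQ (⟨s, hsS⟩ ^ p) hsp, one_pow,
          mul_one, show v ^ p = 1 from Subtype.ext hv.2.1, map_one]
      exact ((QuotientGroup.eq_one_iff _).1 h :)
  have hbot : phi p E₁ = ⊥ := by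
    by_contra hne
    have hn : phi p E₁ ⊓ V ≤ om p S := by
      rintro y ⟨hy, hyV⟩
      exact H.mem_omS hE₁.1 hfS hfE (hES hyV.1) hyV.2.1 hyV.2.2
        ((mem_centralizerIn.1 (hphi hy)).2 f hf).symm
    refine H.no_inv_line hZ hE₁ hn ((inv_phi le_rfl (inv_self E₁)).inf (inv_om E₁)) fun h0 => ?_
    obtain ⟨z, hz, hzZ, hz1⟩ := exists_om_of_normal H.isPGroup ((phi_le E₁).trans hES)
      (fun t ht n hn => H.normal_of_inv hE₁.1 (phi_le E₁) (inv_phi le_rfl (inv_self E₁)) ht hn) hne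
    exact hz1 (Subgroup.mem_bot.1 (h0 ▸ Subgroup.mem_inf.2 ⟨hz, H.omS_le_om hE₁.1 hzZ⟩))
  obtain ⟨hc, he⟩ := of_phi_eq_bot hbot
  exact hsP (hVP ⟨hs, he s hs, fun y hy => hc s hs y hy⟩)

omit hall in
/-- An invariant overgroup of `V` of exponent `p` and class two has order at most `p ^ 4`. -/
theorem card_over {X : Subgroup Ω} (hXS : X ≤ S) (hVX : om p E₁ ≤ X)
    (hXc : ∀ x ∈ X, ∀ v ∈ om p E₁, Commute x v) (hXp : ∀ x ∈ X, x ^ p = 1)
    (hcomm : ∀ a ∈ X, ∀ b ∈ X, ⁅a, b⁆ ∈ om p E₁) : Nat.card X ≤ p ^ 4 := by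
  have h := card_le_four_sect H.rank hXS hVX (bot_le : ⊥ ≤ om p E₁)
    (fun b hb x _ => by rw [Subgroup.mem_bot.1 hb]; exact Commute.one_left x)
    (by rw [Subgroup.card_bot, mul_one]; exact hcard E₁ hE₁)
    (fun m hm x hx => by
      rw [commutatorElement_eq_one_iff_mul_comm.2 (hXc x hx m hm).eq]; exact one_mem _) hcomm
    fun a ha => by rw [hXp a ha]; exact one_mem _
  rwa [Subgroup.card_bot, mul_one] at h

omit hall in
/-- The commutators in such a group of order `p ^ 4`. -/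
theorem comms_small {X Y : Subgroup Ω} (hXS : X ≤ S) (hYX : Y ≤ X) (hVY : om p E₁ ≤ Y)
    (hXc : ∀ x ∈ X, ∀ v ∈ om p E₁, Commute x v)
    (hcomm : ∀ a ∈ X, ∀ b ∈ X, ⁅a, b⁆ ∈ om p E₁)
    (hY : ∀ a ∈ Y, ∀ b ∈ Y, Commute a b) (hY3 : Nat.card Y = p ^ 3)
    (hX4 : Nat.card X ≤ p ^ 4) (hne : ¬ X ≤ Y) :
    ∃ c ∈ om p E₁, comms X ≤ Subgroup.zpowers c := by
  obtain ⟨x, hx, hxY⟩ := SetLike.not_le_iff_exists.1 hne
  have hVlt : om p E₁ < Y := lt_of_le_of_ne hVY fun h => by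
    have h1 := hcard E₁ hE₁
    rw [h, hY3] at h1
    exact absurd (Nat.pow_right_injective hp.out.two_le h1) (by norm_num)
  obtain ⟨y₀, hy₀, hy₀V⟩ := SetLike.exists_of_lt hVlt
  have hXcl := eq_closure_insert H.isPGroup hXS hYX hx hxY
    (hX4.trans (by rw [hY3, ← pow_succ']))
  have hYcl := eq_closure_insert H.isPGroup (hYX.trans hXS) hVY hy₀ hy₀V
    (by rw [hY3, hcard E₁ hE₁, ← pow_succ'])
  have hcV : ⁅x, y₀⁆ ∈ om p E₁ := hcomm x hx y₀ (hYX hy₀)
  refine ⟨_, hcV, (Subgroup.closure_le _).2 ?_⟩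
  rintro _ ⟨a, ha, b, hb, rfl⟩
  rw [hXcl] at ha hb
  refine comm_mem_insert (A := Y) (fun t ht m hm => ?_) (fun a ha b hb => ?_) (fun a ha => ?_) ha hb
  · obtain ⟨i, rfl⟩ := hm
    rw [← hXcl] at ht
    show t * ⁅x, y₀⁆ ^ i * t⁻¹ ∈ _
    rw [((hXc t ht _ hcV).zpow_right i).eq, mul_inv_cancel_right]
    exact Subgroup.zpow_mem_zpowers _ i
  · rw [commutatorElement_eq_one_iff_mul_comm.2 (hY a ha b hb).eq]; exact one_mem _
  · exact comm_mem_zpowers hYcl (fun v hv => hXc x hx v hv)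
      (fun a ha => (hXc a (hYX ha) _ hcV).symm) ha

end natural

end Hyp

/-- The candidates for the subgroup of order `p ^ 3`. -/
structure IsW (p : ℕ) (E₁ Y : Subgroup Ω) : Prop where
  le : Y ≤ E₁
  om_le : om p E₁ ≤ Y
  card : Nat.card Y = p ^ 3
  comm : ∀ a ∈ Y, ∀ b ∈ Y, Commute a b
  pow : ∀ a ∈ Y, a ^ p = 1
  disp : ∀ e ∈ E₁, ∀ y ∈ Y, ⁅e, y⁆ ∈ EssNormal.om p E₁

namespace Hyp

variable [Finite S] (H : Hyp F p) (hZ : Nat.card (om p S) = p)
  (hcard : ∀ E, Nt F p E → Nat.card (om p E) = p ^ 2)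
  (hall : ∀ E, Nt F p E → ∀ P, F.IsEssential p P → om p E ≤ P)
  {E₁ : Subgroup Ω} (hE₁ : Nt F p E₁)
include H hZ hcard hall hE₁

theorem isW_le {Y Y' : Subgroup Ω} (hY : IsW p E₁ Y) (hY' : IsW p E₁ Y') : Y' ≤ Y := by
  have hES := H.le hE₁.1
  set X := orb F E₁ (Y ⊔ Y') with hXdef
  have hle : Y ⊔ Y' ≤ E₁ := sup_le hY.le hY'.le
  have hXE : X ≤ E₁ := orb_le hle
  have hXinv : Inv F E₁ X := inv_orb hle
  have hXc : ∀ x ∈ X, ∀ v ∈ om p E₁, Commute x v := fun x hx v hv => (hv.2.2 x (hXE hx)).symm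
  have hnorm : ∀ a ∈ E₁, ∀ m ∈ om p E₁, a * m * a⁻¹ ∈ om p E₁ := fun a ha m hm =>
    H.normal_of_inv hE₁.1 (om_le E₁) (inv_om E₁) (hES ha) hm
  -- generators
  set T : Set Ω := {y | ∃ α ∈ F.autGroup E₁, ∃ a ∈ (Y : Set Ω) ∪ Y', y = autFun α a}
  have hXT : X = Subgroup.closure T := by
    refine le_antisymm ((Subgroup.closure_le _).2 ?_) ((Subgroup.closure_le _).2 ?_)
    · rintro _ ⟨α, hα, a, ha, rfl⟩
      rw [Subgroup.sup_eq_closure] at ha
      induction ha using Subgroup.closure_induction with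
      | mem t ht => exact Subgroup.subset_closure ⟨α, hα, t, ht, rfl⟩
      | one => rw [af_one]; exact one_mem _
      | mul a b ha hb iha ihb =>
        rw [af_mul α (hle (by rw [Subgroup.sup_eq_closure]; exact ha))
          (hle (by rw [Subgroup.sup_eq_closure]; exact hb))]
        exact mul_mem iha ihb
      | inv a ha iha =>
        rw [af_inv α (hle (by rw [Subgroup.sup_eq_closure]; exact ha))]; exact inv_mem iha
    · rintro _ ⟨α, hα, a, ha, rfl⟩
      exact af_mem_orb hα (ha.elim (fun h => Subgroup.mem_sup_left h)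
        fun h => Subgroup.mem_sup_right h)
  have hdisp : ∀ e ∈ E₁, ∀ x ∈ X, ⁅e, x⁆ ∈ om p E₁ := by
    intro e he x hx
    rw [hXT] at hx
    refine comm_mem_closure (fun a ha m hm => hnorm a (hXE (hXT ▸ ha)) m hm) (fun t ht => ?_) hx
    obtain ⟨α, hα, a, ha, rfl⟩ := ht
    rcases ha with ha | ha
    · exact comm_af_mem hα (inv_om E₁) (hY.le ha) (fun e he => hY.disp e he a ha) he
    · exact comm_af_mem hα (inv_om E₁) (hY'.le ha) (fun e he => hY'.disp e he a ha) he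
  have hcomm : ∀ a ∈ X, ∀ b ∈ X, ⁅a, b⁆ ∈ om p E₁ := fun a ha b hb => hdisp a (hXE ha) b hb
  have hXp : ∀ x ∈ X, x ^ p = 1 := fun x hx => by
    refine pow_eq_one_of_closure H.p_ne hXT (fun t ht => ?_)
      (fun a ha b hb h hh => (hXc h hh _ (hcomm a ha b hb)).symm)
      (fun a ha b hb => (hcomm a ha b hb).2.1) hx
    obtain ⟨α, -, a, ha, rfl⟩ := ht
    rcases ha with ha | ha
    · rw [← af_pow α (hY.le ha), hY.pow a ha, af_one]
    · rw [← af_pow α (hY'.le ha), hY'.pow a ha, af_one]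
  have hYX : Y ≤ X := le_sup_left.trans (le_orb hle)
  have hY'X : Y' ≤ X := le_sup_right.trans (le_orb hle)
  refine le_trans hY'X ?_
  by_contra hne
  have hX4 := H.card_over hZ hcard hE₁ (hXE.trans hES) (hY.om_le.trans hYX) hXc hXp hcomm
  by_cases hb : comms X = ⊥
  · have hab : ∀ a ∈ X, ∀ b ∈ X, Commute a b := fun a ha b hb' =>
      commutatorElement_eq_one_iff_mul_comm.1 (Subgroup.mem_bot.1
        (hb ▸ Subgroup.subset_closure ⟨a, ha, b, hb', rfl⟩))
    haveI := finite_of_le (hXE.trans hES)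
    exact hne (Subgroup.eq_of_le_of_card_ge hYX
      ((H.rank.card_elem (hXE.trans hES) hab hXp).trans hY.card.ge)).ge
  · obtain ⟨c, hc, hC⟩ := H.comms_small hZ hcard hE₁ (hXE.trans hES) hYX hY.om_le hXc hcomm
      hY.comm hY.card hX4 hne
    have hCV : comms X ≤ om p E₁ := hC.trans (Subgroup.zpowers_le.2 hc)
    have hCi : Inv F E₁ (comms X) := inv_comms hXE hXinv
    have hCS : comms X ≤ S := hCV.trans ((om_le E₁).trans hES)
    obtain ⟨z, hz, hzZ, hz1⟩ := exists_om_of_normal H.isPGroup hCS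
      (fun t ht n hn => H.normal_of_inv hE₁.1 (hCV.trans (om_le E₁)) hCi ht hn) hb
    refine H.no_inv_line hZ hE₁ (N := comms X) ?_ hCi hb
    obtain ⟨i, hi⟩ := exists_pow_eq hc.2.1 (hC hz)
    have hc1 : c ≠ 1 := fun h => hz1 (by rw [hi, h, one_pow])
    haveI : Finite (Subgroup.zpowers c) :=
      finite_of_le (S := S) (Subgroup.zpowers_le.2 (hES hc.1))
    have heq : Subgroup.zpowers z = Subgroup.zpowers c :=
      Subgroup.eq_of_le_of_card_ge (Subgroup.zpowers_le.2 (hC hz))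
        (by rw [Nat.card_zpowers, Nat.card_zpowers, orderOf_eq_prime hc.2.1 hc1,
          orderOf_eq_prime hzZ.2.1 hz1])
    exact hC.trans (heq.ge.trans (Subgroup.zpowers_le.2 hzZ))

/-- The natural case does not occur. -/
theorem natural_false : False := by
  have hp1 := hp.out.one_lt
  have hES := H.le hE₁.1
  have hV2 := hcard E₁ hE₁
  haveI := finite_of_le (om_le (p := p) S)
  have htriv : ∀ P, F.IsEssential p P → P ≠ E₁ → Inv F P (om p S) := fun P hP hne =>
    by_contra fun h => hne (H.nt_unique hZ hcard hall ⟨hP, h⟩ hE₁)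
  have hVne : om p E₁ ≠ ⊥ := fun h => by
    rw [h, Subgroup.card_bot] at hV2
    exact absurd hV2.symm (Nat.one_lt_pow two_ne_zero hp1).ne'
  obtain ⟨E₂, hE₂, hmov⟩ : ∃ P, F.IsEssential p P ∧ ¬ Inv F P (om p E₁) := by
    by_contra h
    push Not at h
    exact H.false_of_invariant ((om_le E₁).trans hES) hVne
      (fun β hβ => (H.top_fix hZ hcard hall hE₁ hβ).2) fun P hP => ⟨hall E₁ hE₁ P hP, h P hP⟩
  -- the orbits of movers
  have hmover : ∀ P, F.IsEssential p P → ¬ Inv F P (om p E₁) →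
      IsW p E₁ (orb F P (om p E₁)) := by
    intro P hP hmv
    have hne : P ≠ E₁ := fun h => hmv (by rw [h]; exact inv_om E₁)
    have hVP := hall E₁ hE₁ P hP
    set W := orb F P (om p E₁) with hWdef
    have hWi : Inv F P W := inv_orb hVP
    have hWS : W ≤ S := (orb_le hVP).trans (H.le hP)
    have hcW : ∀ e ∈ P, ∀ w ∈ W, ⁅e, w⁆ ∈ om p S := by
      intro e he w hw
      refine comm_mem_closure (fun a ha m hm => ?_) (fun t ht => ?_) hw
      · rw [H.conj_omS (hWS ha) hm]; exact hm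
      · obtain ⟨α, hα, v, hv, rfl⟩ := ht
        exact comm_af_mem hα (htriv P hP hne) (hVP hv)
          (fun e he => H.comm_om hZ hcard hall hE₁ (H.le hP he) hv) he
    have hexp : ∀ w ∈ W, w ^ p = 1 := fun w hw => by
      refine pow_eq_one_of_closure H.p_ne (H := W) rfl (fun t ht => ?_)
        (fun a ha b hb h hh => (hcW a (orb_le hVP ha) b hb).2.2 h (hWS hh))
        (fun a ha b hb => (hcW a (orb_le hVP ha) b hb).2.1) hw
      obtain ⟨α, -, v, hv, rfl⟩ := ht
      rw [← af_pow α (hVP hv), hv.2.1, af_one]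
    have hab : ∀ a ∈ W, ∀ b ∈ W, Commute a b := by_contra fun h =>
      H.orb_nonabelian_false hZ hcard hall hE₁ hP hne hWi hcW hexp h
    have hlt : om p E₁ < W := lt_of_le_of_ne (le_orb hVP) fun h => hmv (h ▸ hWi)
    have h3 := mul_card_le H.isPGroup hWS hlt
    rw [hV2, ← pow_succ'] at h3
    have hWE : W ≤ E₁ := fun w hw =>
      H.cent_le hZ hcard hall hE₁ (hWS hw) fun v hv => hab w hw v (le_orb hVP hv)
    have hW3 := le_antisymm (H.rank.card_elem hWS hab hexp) h3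
    refine ⟨hWE, le_orb hVP, hW3, hab, hexp, fun e he y hy => ?_⟩
    exact comm_mem_of_index H.isPGroup (le_orb hVP) hWS
      (fun t ht m hm => H.normal_of_inv hE₁.1 (om_le E₁) (inv_om E₁) ht hm)
      (fun t ht n hn => H.normal_of_inv hP (orb_le hVP) hWi ht hn)
      (by rw [hW3, hV2, ← pow_succ']) (hES he) hy
  have hW := hmover E₂ hE₂ hmov
  set W := orb F E₂ (om p E₁) with hWdef
  have hVE₂ := hall E₁ hE₁ E₂ hE₂
  have hne₂ : E₂ ≠ E₁ := fun h => hmov (by rw [h]; exact inv_om E₁)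
  have hWS : W ≤ S := hW.le.trans hES
  have hWinv₂ : Inv F E₂ W := inv_orb hVE₂
  haveI := finite_of_le hWS
  haveI := finite_of_le ((om_le (p := p) E₁).trans hES)
  have hSW : ∀ s ∈ S, ∀ w ∈ W, ⁅s, w⁆ ∈ om p E₁ := fun s hs w hw =>
    comm_mem_of_index H.isPGroup hW.om_le hWS
      (fun t ht m hm => H.normal_of_inv hE₁.1 (om_le E₁) (inv_om E₁) ht hm)
      (fun t ht n hn => H.normal_of_inv hE₂ (orb_le hVE₂) hWinv₂ ht hn)
      (by rw [hW.card, hV2, ← pow_succ']) hs hw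
  have hnoA : ¬ ∀ s ∈ S, ∀ w ∈ W, ⁅s, w⁆ ∈ om p S := fun h =>
    H.no_A hZ hE₁ hW.le hW.comm hW.pow hW.card.ge
      (by rw [hV2]; exact Nat.pow_lt_pow_right hp1 (by norm_num)) h
  -- invariance in `E₁` and under `Aut_F(S)`
  have hWinv₁ : Inv F E₁ W := by
    intro α hα w hw
    have hm : IsMap F E₁ (autFun α) := (mem_autGroup hES).1 hα
    have hY : IsW p E₁ (fimg (autFun α) W) := by
      refine ⟨fimg_le fun y hy => autFun_mem α (hW.le hy), fun v hv => ?_,
        by rw [(hm.res hW.le).card_fimg, hW.card], ?_, ?_, ?_⟩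
      · have h1 := apply_mem_fimg (autFun α) (hW.om_le (inv_om E₁ _ (inv_mem hα) v hv))
        rwa [af_apply_inv α hv.1] at h1
      · intro a ha b hb
        obtain ⟨a, ha', rfl⟩ := (hm.res hW.le).mem_fimg_iff.1 ha
        obtain ⟨b, hb', rfl⟩ := (hm.res hW.le).mem_fimg_iff.1 hb
        exact af_commute α (hW.le ha') (hW.le hb') (hW.comm a ha' b hb')
      · intro a ha
        obtain ⟨a, ha', rfl⟩ := (hm.res hW.le).mem_fimg_iff.1 ha
        rw [← af_pow α (hW.le ha'), hW.pow a ha', af_one]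
      · intro e he y hy
        obtain ⟨y, hy', rfl⟩ := (hm.res hW.le).mem_fimg_iff.1 hy
        exact comm_af_mem hα (inv_om E₁) (hW.le hy') (fun e he => hW.disp e he y hy') he
    exact H.isW_le hZ hcard hall hE₁ hW hY (apply_mem_fimg _ hw)
  have hWtop : ∀ β ∈ F.autGroup S, ∀ w ∈ W, autFun β w ∈ W := by
    intro β hβ w hw
    obtain ⟨hfix, hVfix⟩ := H.top_fix hZ hcard hall hE₁ hβ
    obtain ⟨-, hVfix'⟩ := H.top_fix hZ hcard hall hE₁ (inv_mem hβ)
    have hm := (H.isMap_top hβ).res hWS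
    have hmem : ∀ x ∈ E₁, autFun β x ∈ E₁ := fun x hx => hfix ▸ apply_mem_fimg _ hx
    have hmem' : ∀ x ∈ E₁, autFun β⁻¹ x ∈ E₁ := fun x hx =>
      (H.top_fix hZ hcard hall hE₁ (inv_mem hβ)).1 ▸ apply_mem_fimg _ hx
    have hY : IsW p E₁ (fimg (autFun β) W) := by
      refine ⟨fimg_le fun y hy => hmem y (hW.le hy), fun v hv => ?_,
        by rw [hm.card_fimg, hW.card], ?_, ?_, ?_⟩
      · have h1 := apply_mem_fimg (autFun β) (hW.om_le (hVfix' v hv))
        rwa [af_apply_inv β (hES hv.1)] at h1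
      · intro a ha b hb
        obtain ⟨a, ha', rfl⟩ := hm.mem_fimg_iff.1 ha
        obtain ⟨b, hb', rfl⟩ := hm.mem_fimg_iff.1 hb
        exact af_commute β (hWS ha') (hWS hb') (hW.comm a ha' b hb')
      · intro a ha
        obtain ⟨a, ha', rfl⟩ := hm.mem_fimg_iff.1 ha
        rw [← af_pow β (hWS ha'), hW.pow a ha', af_one]
      · intro e he y hy
        obtain ⟨y, hy', rfl⟩ := hm.mem_fimg_iff.1 hy
        rw [← af_apply_inv β (hES he), ← af_comm β (hES (hmem' e he)) (hWS hy')]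
        exact hVfix _ (hW.disp _ (hmem' e he) y hy')
    exact H.isW_le hZ hcard hall hE₁ hW hY (apply_mem_fimg _ hw)
  refine H.false_of_invariant hWS (fun h => hVne (eq_bot_iff.2 (h ▸ hW.om_le))) hWtop
    fun P hP => ?_
  by_cases hmv : Inv F P (om p E₁)
  swap
  · -- a mover has the same orbit
    have hPW := hmover P hP hmv
    have heq : orb F P (om p E₁) = W :=
      le_antisymm (H.isW_le hZ hcard hall hE₁ hW hPW) (H.isW_le hZ hcard hall hE₁ hPW hW)
    exact ⟨heq ▸ orb_le (hall E₁ hE₁ P hP), heq ▸ inv_orb (hall E₁ hE₁ P hP)⟩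
  have hVP := hall E₁ hE₁ P hP
  have hWP : W ≤ P := fun w hw => H.series hP hVP hmv (hWS hw)
    (fun v hv => (hv.2.2 w (hW.le hw)).symm) fun y hy => hSW _ (S.inv_mem (H.le hP hy)) w hw
  refine ⟨hWP, ?_⟩
  by_cases hPE : P = E₁
  · exact hPE ▸ hWinv₁
  set X := orb F P W with hXdef
  have hXP : X ≤ P := orb_le hWP
  have hXS : X ≤ S := hXP.trans (H.le hP)
  have hXi : Inv F P X := inv_orb hWP
  have hWX : W ≤ X := le_orb hWP
  have hnormV : ∀ a ∈ S, ∀ m ∈ om p E₁, a * m * a⁻¹ ∈ om p E₁ := fun a ha m hm =>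
    H.normal_of_inv hE₁.1 (om_le E₁) (inv_om E₁) ha hm
  have hXc : ∀ x ∈ X, ∀ v ∈ om p E₁, Commute x v := by
    intro x hx v hv
    induction hx using Subgroup.closure_induction with
    | mem t ht =>
      obtain ⟨α, hα, w, hw, rfl⟩ := ht
      have h1 := af_commute α (hWP hw) (autFun_mem α⁻¹ (hVP hv))
        ((hmv _ (inv_mem hα) v hv).2.2 w (hW.le hw)).symm
      rwa [af_apply_inv α (hVP hv)] at h1
    | one => exact Commute.one_left _
    | mul a b _ _ iha ihb => exact iha.mul_left ihb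
    | inv a _ iha => exact iha.inv_left
  have hdisp : ∀ e ∈ P, ∀ x ∈ X, ⁅e, x⁆ ∈ om p E₁ := by
    intro e he x hx
    refine comm_mem_closure (fun a ha m hm => hnormV a (hXS ha) m hm) (fun t ht => ?_) hx
    obtain ⟨α, hα, w, hw, rfl⟩ := ht
    exact comm_af_mem hα hmv (hWP hw) (fun e he => hSW e (H.le hP he) w hw) he
  have hXp : ∀ x ∈ X, x ^ p = 1 := fun x hx => by
    refine pow_eq_one_of_closure H.p_ne (H := X) rfl (fun t ht => ?_)
      (fun a ha b hb h hh => (hXc h hh _ (hdisp a (hXP ha) b hb)).symm)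
      (fun a ha b hb => (hdisp a (hXP ha) b hb).2.1) hx
    obtain ⟨α, -, w, hw, rfl⟩ := ht
    rw [← af_pow α (hWP hw), hW.pow w hw, af_one]
  have hcomm : ∀ a ∈ X, ∀ b ∈ X, ⁅a, b⁆ ∈ om p E₁ := fun a ha b hb => hdisp a (hXP ha) b hb
  have hX4 := H.card_over hZ hcard hE₁ hXS (hW.om_le.trans hWX) hXc hXp hcomm
  by_cases hXW : X ≤ W
  · exact le_antisymm hXW hWX ▸ hXi
  exfalso
  obtain ⟨c, hc, hC⟩ := H.comms_small hZ hcard hE₁ hXS hWX hW.om_le hXc hcomm hW.comm hW.card hX4 hXW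
  -- the commutators of `X` are central in `S`
  have hCi : Inv F P (comms X) := inv_comms hXP hXi
  have hCV : comms X ≤ om p E₁ := hC.trans (Subgroup.zpowers_le.2 hc)
  have hCZ : ∀ a ∈ X, ∀ b ∈ X, ⁅a, b⁆ ∈ om p S := by
    intro a ha b hb
    have hmem : ⁅a, b⁆ ∈ comms X := Subgroup.subset_closure ⟨a, ha, b, hb, rfl⟩
    by_cases h1 : comms X = ⊥
    · rw [h1, Subgroup.mem_bot] at hmem; rw [hmem]; exact one_mem _
    obtain ⟨z, hz, hzZ, hz1⟩ := exists_om_of_normal H.isPGroup (hCV.trans ((om_le E₁).trans hES))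
      (fun t ht n hn => H.normal_of_inv hP (hCV.trans hVP) hCi ht hn) h1
    obtain ⟨i, hi⟩ := exists_pow_eq hc.2.1 (hC hz)
    have hc1 : c ≠ 1 := fun h => hz1 (by rw [hi, h, one_pow])
    haveI : Finite (Subgroup.zpowers c) :=
      finite_of_le (S := S) (Subgroup.zpowers_le.2 (hES hc.1))
    have heq : Subgroup.zpowers z = Subgroup.zpowers c :=
      Subgroup.eq_of_le_of_card_ge (Subgroup.zpowers_le.2 (hC hz))
        (by rw [Nat.card_zpowers, Nat.card_zpowers, orderOf_eq_prime hc.2.1 hc1,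
          orderOf_eq_prime hzZ.2.1 hz1])
    exact Subgroup.zpowers_le.2 hzZ (heq.ge (hC hmem))
  -- `X` lies in `E₂`
  have htr₂ := htriv E₂ hE₂ hne₂
  have hE₂W : ∀ e ∈ E₂, ∀ w ∈ W, ⁅e, w⁆ ∈ om p S := by
    intro e he w hw
    refine comm_mem_closure (fun a ha m hm => ?_) (fun t ht => ?_) hw
    · rw [H.conj_omS (hWS ha) hm]; exact hm
    · obtain ⟨α, hα, v, hv, rfl⟩ := ht
      exact comm_af_mem hα htr₂ (hVE₂ hv)
        (fun e he => H.comm_om hZ hcard hall hE₁ (H.le hE₂ he) hv) he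
  have hXE₂ : X ≤ E₂ := by
    intro x hx
    by_contra hxE
    let K : Subgroup Ω :=
      { carrier := {g | g ∈ S ∧ ∀ w ∈ W, ⁅g, w⁆ ∈ om p S}
        one_mem' := ⟨S.one_mem, fun w _ => by rw [commutatorElement_one_left]; exact one_mem _⟩
        mul_mem' := fun {a b} ha hb => ⟨S.mul_mem ha.1 hb.1, fun w hw => by
          rw [show ⁅a * b, w⁆ = a * ⁅b, w⁆ * a⁻¹ * ⁅a, w⁆ by
            simp only [commutatorElement_def]; group, H.conj_omS ha.1 (hb.2 w hw)]
          exact mul_mem (hb.2 w hw) (ha.2 w hw)⟩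
        inv_mem' := fun {a} ha => ⟨S.inv_mem ha.1, fun w hw => by
          rw [show ⁅a⁻¹, w⁆ = a⁻¹ * ⁅a, w⁆⁻¹ * (a⁻¹)⁻¹ by simp only [commutatorElement_def]; group,
            H.conj_omS (S.inv_mem ha.1) (inv_mem (ha.2 w hw))]
          exact inv_mem (ha.2 w hw)⟩ }
    have hK : S ≤ K := H.eq_top_of_lt hE₂ (K := K) (fun e he => ⟨H.le hE₂ he, hE₂W e he⟩)
      (show x ∈ K from ⟨hXS hx, fun w hw => hCZ x hx w (hWX hw)⟩) hxE (hXS hx)
    exact hnoA fun s hs => (hK hs).2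
  -- `X` is moved by `E₂`
  have hXnab : ∃ a ∈ X, ∃ b ∈ X, ¬ Commute a b := by
    by_contra h
    push Not at h
    haveI := finite_of_le hXS
    exact hXW (Subgroup.eq_of_le_of_card_ge hWX
      ((H.rank.card_elem hXS h hXp).trans hW.card.ge)).ge
  haveI := finite_of_le hXS
  have hXcard : Nat.card X ≤ p * Nat.card W := hX4.trans (by rw [hW.card, ← pow_succ'])
  obtain ⟨x, hx, hxW⟩ := SetLike.not_le_iff_exists.1 hXW
  have hXcl := eq_closure_insert H.isPGroup hXS hWX hx hxW hXcard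
  have hX4' : p ^ 4 ≤ Nat.card X := by
    have h := mul_card_le H.isPGroup hXS (lt_of_le_not_ge hWX hXW)
    rwa [hW.card, ← pow_succ'] at h
  obtain ⟨α, hα, v, hv, hαv⟩ : ∃ α ∈ F.autGroup E₂, ∃ v ∈ om p E₁, autFun α v ∉ om p E₁ := by
    by_contra h
    push Not at h
    exact hmov h
  obtain ⟨a, ha, hαa⟩ : ∃ a ∈ X, autFun α a ∉ X := by
    by_contra h
    push Not at h
    have hm : IsMap F E₂ (autFun α) := (mem_autGroup (H.le hE₂)).1 hα
    have hfix : fimg (autFun α) X = X :=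
      Subgroup.eq_of_le_of_card_ge (fimg_le h) (hm.res hXE₂).card_fimg.ge
    -- all of `X` commutes with `W`
    have hw : ∀ y ∈ X, ∀ w ∈ W, Commute y w := by
      intro y hy w hw'
      have hcl := eq_closure_insert H.isPGroup hWS hW.om_le
        (hWinv₂ α hα v (hW.om_le hv)) hαv (by rw [hW.card, hV2, ← pow_succ'])
      rw [hcl] at hw'
      induction hw' using Subgroup.closure_induction with
      | mem t ht =>
        rcases ht with rfl | ht
        · obtain ⟨b, hb, rfl⟩ := (hm.res hXE₂).mem_fimg_iff.1 (hfix.ge hy)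
          exact af_commute α (hXE₂ hb) (hVE₂ hv) (hXc b hb v hv)
        · exact hXc y hy t ht
      | one => exact Commute.one_right _
      | mul a b _ _ iha ihb => exact iha.mul_right ihb
      | inv a _ iha => exact iha.inv_right
    obtain ⟨a, ha, b, hb, hab⟩ := hXnab
    refine hab ((closure_elem (p := p) (T := insert x (W : Set Ω)) ?_ ?_).1 a (hXcl ▸ ha) b
      (hXcl ▸ hb))
    · rintro s (rfl | hs) t (rfl | ht)
      · exact Commute.refl _
      · exact hw s hx t ht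
      · exact (hw t hx s hs).symm
      · exact hW.comm s hs t ht
    · rintro s (rfl | hs)
      · exact hXp s hx
      · exact hW.pow s hs
  -- the orbit of `X`
  set Y := orb F E₂ X with hYdef
  have hYE : Y ≤ E₂ := orb_le hXE₂
  have hYS : Y ≤ S := hYE.trans (H.le hE₂)
  have hYi : Inv F E₂ Y := inv_orb hXE₂
  have hXY : X ≤ Y := le_orb hXE₂
  haveI := finite_of_le hYS
  have hWn : ∀ t ∈ S, ∀ m ∈ W, t * m * t⁻¹ ∈ W := fun t ht m hm =>
    H.normal_of_inv hE₂ (orb_le hVE₂) hWinv₂ ht hm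
  have hYW : ∀ e ∈ E₂, ∀ y ∈ Y, ⁅e, y⁆ ∈ W := by
    intro e he y hy
    refine comm_mem_closure (fun a ha m hm => hWn a (hYS ha) m hm) (fun t ht => ?_) hy
    obtain ⟨β, hβ, x', hx', rfl⟩ := ht
    exact comm_af_mem hβ hWinv₂ (hXE₂ hx') (fun e he =>
      comm_mem_of_index H.isPGroup hWX hXS hWn
        (fun t ht n hn => H.normal_of_inv hP hXP hXi ht hn) hXcard (H.le hE₂ he) hx') he
  have hcYW : ∀ a ∈ Y, ∀ b ∈ W, ⁅a, b⁆ ∈ om p S := fun a ha b hb => hE₂W a (hYE ha) b hb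
  haveI hZn : ((om p S).subgroupOf S).Normal := ⟨fun z hz g => by
    show (g : Ω) * z * (g : Ω)⁻¹ ∈ om p S
    have hz' : (z : Ω) ∈ om p S := hz
    rw [H.conj_omS g.2 hz']; exact hz'⟩
  have hYp : ∀ y ∈ Y, y ^ p ∈ om p S := by
    intro y hy
    set φ := QuotientGroup.mk' ((om p S).subgroupOf S)
    set T : Set S := {t | (t : Ω) ∈ {z | ∃ β ∈ F.autGroup E₂, ∃ a ∈ X, z = autFun β a}}
    have hcl : Y.subgroupOf S = Subgroup.closure T := by
      refine le_antisymm (fun z hz => ?_) ((Subgroup.closure_le _).2 fun t ht =>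
        (Subgroup.subset_closure ht : (t : Ω) ∈ Y))
      have hz' : (z : Ω) ∈ (Subgroup.closure T).map S.subtype := by
        rw [MonoidHom.map_closure]
        refine Subgroup.closure_mono ?_ (show (z : Ω) ∈ Y from hz)
        intro t ht
        obtain ⟨β, hβ, a, ha', rfl⟩ := ht
        exact ⟨⟨_, hYS (af_mem_orb hβ ha')⟩, ⟨β, hβ, a, ha', rfl⟩, rfl⟩
      obtain ⟨w, hw, hwe⟩ := hz'
      rwa [← Subtype.ext hwe]
    have hc1 : ∀ a ∈ (Y.subgroupOf S).map φ, ∀ b ∈ (Y.subgroupOf S).map φ,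
        ∀ h ∈ (Y.subgroupOf S).map φ, Commute ⁅a, b⁆ h := by
      rintro _ ⟨a, ha, rfl⟩ _ ⟨b, hb, rfl⟩ _ ⟨h, hh, rfl⟩
      rw [← map_commutatorElement, commute_iff_eq, ← commutatorElement_eq_one_iff_mul_comm,
        ← map_commutatorElement]
      exact (QuotientGroup.eq_one_iff _).2 (comm_flip (hcYW h hh _ (hYW a (hYE ha) b hb)))
    have h := pow_eq_one_of_closure (p := p) H.p_ne
      (H := (Y.subgroupOf S).map φ) (T := φ '' T) (by rw [hcl, MonoidHom.map_closure]) (by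
        rintro _ ⟨t, ⟨β, -, a, ha, hte⟩, rfl⟩
        rw [← map_pow, show t ^ p = 1 from Subtype.ext (by
          rw [SubmonoidClass.coe_pow, hte, ← af_pow β (hXE₂ ha), hXp a ha, af_one]; rfl), map_one])
      hc1 (by
        rintro _ ⟨a, ha, rfl⟩ _ ⟨b, hb, rfl⟩
        rw [← map_commutatorElement, ← map_pow, show ⁅a, b⁆ ^ p = 1 from
          Subtype.ext (hW.pow _ (hYW a (hYE ha) b hb)), map_one])
      (Subgroup.mem_map_of_mem φ (show (⟨y, hYS hy⟩ : S) ∈ Y.subgroupOf S from hy))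
    rw [← map_pow] at h
    exact ((QuotientGroup.eq_one_iff _).1 h :)
  have hY5 : Nat.card Y ≤ p ^ 4 * Nat.card (om p S) :=
    card_le_four_sect H.rank hYS (hWX.trans hXY)
      ((H.omS_le_om hE₁.1).trans hW.om_le)
      (fun b hb x' hx' => hb.2.2 x' (hYS hx'))
      (by rw [hW.card, hZ, ← pow_succ]) (fun m hm y hy => hcYW y hy m hm)
      (fun a ha b hb => hYW a (hYE ha) b hb) hYp
  rw [hZ, ← pow_succ] at hY5
  have hyY : autFun α a ∈ Y := af_mem_orb hα ha
  have hYcl := eq_closure_insert H.isPGroup hYS hXY hyY hαa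
    (hY5.trans (by rw [pow_succ' p 4]; exact Nat.mul_le_mul_left p hX4'))
  set y := autFun α a
  -- commutators of `Y` lie in a subgroup of order at most `p ^ 2`
  have hcW' : ⁅x, y⁆ ∈ W := hYW x (hXE₂ hx) y hyY
  set M := Subgroup.zpowers ⁅x, y⁆ ⊔ om p S with hM
  have hMW : M ≤ W := sup_le (Subgroup.zpowers_le.2 hcW') ((H.omS_le_om hE₁.1).trans hW.om_le)
  have hMn : ∀ b ∈ Y, ∀ m ∈ M, b * m * b⁻¹ ∈ M := by
    intro b hb m hm
    rw [show b * m * b⁻¹ = ⁅b, m⁆ * m by rw [commutatorElement_def]; group]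
    exact M.mul_mem (Subgroup.mem_sup_right (hcYW b hb m (hMW hm))) hm
  have hY_M : ∀ a ∈ Y, ∀ b ∈ Y, ⁅a, b⁆ ∈ M := by
    intro a' ha' b hb
    rw [hYcl] at ha' hb
    refine comm_mem_insert (A := X) (fun t ht m hm => hMn t (hYcl ▸ ht) m hm)
      (fun a ha b hb => Subgroup.mem_sup_right (hCZ a ha b hb)) (fun a' ha' => ?_) ha' hb
    rw [hXcl] at ha'
    refine comm_mem_closure (fun t ht m hm => hMn t (hXY (hXcl ▸ ht)) m hm) (fun t ht => ?_) ha'
    rcases ht with rfl | ht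
    · exact comm_flip (Subgroup.mem_sup_left (Subgroup.mem_zpowers _))
    · exact Subgroup.mem_sup_right (hcYW y hyY t ht)
  set C := om p S ⊔ comms Y with hCdef
  have hCM : C ≤ M := sup_le le_sup_right
    ((Subgroup.closure_le _).2 fun t ⟨a, ha, b, hb, e⟩ => e ▸ hY_M a ha b hb)
  have hCS : C ≤ S := hCM.trans (hMW.trans hWS)
  haveI : Finite C := finite_of_le hCS
  haveI : Finite M := finite_of_le (hMW.trans hWS)
  have hM2 : Nat.card M ≤ p ^ 2 := by
    have h := card_zpowers_sup_le (p := p) (M := om p S) (hW.pow _ hcW')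
      (fun m hm => (hm.2.2 _ (hWS hcW')).symm)
    rwa [hZ, ← sq] at h
  have hCi₂ : Inv F E₂ C := by
    intro β hβ z hz
    have hcY : comms Y ≤ Y := (Subgroup.closure_le _).2 fun c ⟨a, ha, b, hb, e⟩ => by
      rw [e, commutatorElement_def]
      exact Y.mul_mem (Y.mul_mem (Y.mul_mem ha hb) (Y.inv_mem ha)) (Y.inv_mem hb)
    have hn : om p S ≤ Subgroup.normalizer (comms Y : Set Ω) := fun w hw =>
      mem_normalizer_of_forall (fun t ht => by
        rwa [(hw.2.2 t (hYS (hcY ht))).eq, mul_inv_cancel_right]) fun t ht => by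
        rwa [← ((hw.2.2 t (hYS (hcY ht))).symm.inv_right).eq, mul_assoc, inv_mul_cancel, mul_one]
    have hz' : z ∈ ((om p S ⊔ comms Y : Subgroup Ω) : Set Ω) := hz
    rw [Subgroup.coe_mul_of_left_le_normalizer_right _ _ hn] at hz'
    obtain ⟨u, hu, w, hw, rfl⟩ := hz'
    have hcW : comms Y ≤ W := (Subgroup.closure_le _).2
      fun c ⟨a, ha, b, hb, e⟩ => e ▸ hYW a (hYE ha) b hb
    have hwW : w ∈ W := hcW hw
    rw [af_mul β (H.omS_le hE₂ hu) (orb_le hVE₂ hwW)]
    exact mul_mem (Subgroup.mem_sup_left (htr₂ β hβ u hu))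
      (Subgroup.mem_sup_right (inv_comms hYE hYi β hβ w hw))
  rcases (le_sup_left : om p S ≤ C).eq_or_lt with hCeq | hClt
  · -- `Y / Ω₁(Z(S))` is elementary abelian of order `p ^ 4`
    have h := H.rank Y (om p S) hYS ((H.omS_le_om hE₁.1).trans (hW.om_le.trans (hWX.trans hXY)))
      (fun a ha b hb => hCeq.ge (Subgroup.mem_sup_right (Subgroup.subset_closure ⟨a, ha, b, hb, rfl⟩)))
      hYp
    rw [hZ, ← pow_succ] at h
    have h1 := mul_card_le H.isPGroup hYS (lt_of_le_not_ge hXY fun h' => hαa (h' hyY))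
    have h2 := Nat.mul_le_mul_left p hX4'
    rw [← pow_succ'] at h2
    have := Nat.pow_lt_pow_right hp1 (show 4 < 5 by norm_num)
    simp only [Nat.reduceAdd] at *
    omega
  have hCne : C ≠ om p E₁ := fun h => hmov (h ▸ hCi₂)
  have hC2 : Nat.card C ≤ p * Nat.card (om p S) := by
    rw [hZ, ← sq]; exact (Subgroup.card_le_of_le hCM).trans hM2
  have hC2' : p ^ 2 ≤ Nat.card C := by
    have h := mul_card_le H.isPGroup hCS hClt
    rwa [hZ, ← sq] at h
  have hltV : om p E₁ < om p E₁ ⊔ C := lt_of_le_of_ne le_sup_left fun h =>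
    hCne (Subgroup.eq_of_le_of_card_ge (h ▸ le_sup_right) (by rw [hV2]; exact hC2'))
  have hsup : om p E₁ ⊔ C = W := by
    refine Subgroup.eq_of_le_of_card_ge (sup_le hW.om_le (hCM.trans hMW)) ?_
    have h := mul_card_le H.isPGroup ((sup_le hW.om_le (hCM.trans hMW)).trans hWS) hltV
    rwa [hV2, ← pow_succ', ← hW.card] at h
  apply hnoA
  intro s hs w hw
  rw [← hsup, Subgroup.sup_eq_closure] at hw
  refine comm_mem_closure (fun t ht m hm => ?_) (fun t ht => ?_) hw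
  · rw [H.conj_omS (hWS (by rw [← hsup, Subgroup.sup_eq_closure]; exact ht)) hm]; exact hm
  · rcases ht with ht | ht
    · exact H.comm_om hZ hcard hall hE₁ hs ht
    · exact comm_mem_of_index H.isPGroup (le_sup_left : om p S ≤ C) hCS
        (fun t ht m hm => by rw [H.conj_omS ht hm]; exact hm)
        (fun t ht n hn => H.normal_of_inv hE₂ (hCM.trans (hMW.trans (orb_le hVE₂))) hCi₂ ht hn)
        hC2 hs ht

end Hyp

end Cfsg.Agent.Invol.EssNormal
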