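import Cfsg.Agent.Lib.Invol.EssNormal.Tools
import Cfsg.Agent.Lib.Invol.EssThree.Setup
import Cfsg.Agent.Lib.Fus.AbelianIndexPEss
import Cfsg.Agent.Lib.Fus.OrdFive.Auto

/-!
# Saturated systems with all essential subgroups normal, in sectional rank three
-/

set_option autoImplicit false
set_option linter.style.haveILetI false
set_option linter.unusedSectionVars false

universe u

namespace Cfsg.Agent.Invol.EssNormal

open Cfsg FusionSystem Cfsg.Agent.Fus
open scoped commutatorElement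

variable {Ω : Type u} [Group Ω]

/-! ### Automorphisms as functions -/

section af

variable {P : Subgroup Ω} (α : MulAut P) {x y : Ω}

theorem af_mul (hx : x ∈ P) (hy : y ∈ P) : autFun α (x * y) = autFun α x * autFun α y := by
  refine (autFun_coe α (⟨x, hx⟩ * ⟨y, hy⟩)).trans ?_
  rw [map_mul, Subgroup.coe_mul, ← autFun_coe α ⟨x, hx⟩, ← autFun_coe α ⟨y, hy⟩]

theorem af_one : autFun α 1 = 1 := by
  have h := af_mul α P.one_mem P.one_mem
  rw [mul_one] at h
  exact left_eq_mul.1 h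

theorem af_inv (hx : x ∈ P) : autFun α x⁻¹ = (autFun α x)⁻¹ := by
  refine eq_inv_of_mul_eq_one_left ?_
  rw [← af_mul α (P.inv_mem hx) hx, inv_mul_cancel, af_one]

theorem af_comm (hx : x ∈ P) (hy : y ∈ P) :
    autFun α ⁅x, y⁆ = ⁅autFun α x, autFun α y⁆ := by
  rw [commutatorElement_def, commutatorElement_def,
    af_mul α (P.mul_mem (P.mul_mem hx hy) (P.inv_mem hx)) (P.inv_mem hy),
    af_mul α (P.mul_mem hx hy) (P.inv_mem hx), af_mul α hx hy, af_inv α hx, af_inv α hy]

theorem af_pow (hx : x ∈ P) : ∀ n : ℕ, autFun α (x ^ n) = autFun α x ^ n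
  | 0 => by rw [pow_zero, pow_zero, af_one]
  | n + 1 => by rw [pow_succ, pow_succ, af_mul α (P.pow_mem hx n) hx, af_pow hx n]

theorem af_injOn (hx : x ∈ P) (hy : y ∈ P) (h : autFun α x = autFun α y) : x = y := by
  have h1 := congrArg (autFun α⁻¹) h
  rwa [autFun_inv_apply α hx, autFun_inv_apply α hy] at h1

theorem af_apply_inv (hx : x ∈ P) : autFun α (autFun α⁻¹ x) = x := by
  have h := autFun_inv_apply α⁻¹ hx
  rwa [inv_inv] at h

theorem af_commute (hx : x ∈ P) (hy : y ∈ P) (h : Commute x y) :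
    Commute (autFun α x) (autFun α y) := by
  rw [commute_iff_eq, ← af_mul α hx hy, ← af_mul α hy hx, h.eq]

end af

variable {S : Subgroup Ω} {p : ℕ}

/-- The standing hypotheses. -/
structure Hyp (F : FusionSystem S) (p : ℕ) : Prop where
  isPGroup : IsPGroup p S
  sat : F.IsSaturated p
  p_ne : p ≠ 2
  rank : R3 p S
  nrm : ∀ E, F.IsEssential p E → S ≤ Subgroup.normalizer (E : Set Ω)
  no_normal : ∀ Q, F.IsNormal Q → Q = ⊥

/-- `N` is invariant under the automorphisms that the system induces on `E`. -/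
def Inv (F : FusionSystem S) (E N : Subgroup Ω) : Prop :=
  ∀ α ∈ F.autGroup E, ∀ x ∈ N, autFun α x ∈ N

/-- The subgroup generated by the images of `A` under the automorphisms of `E`. -/
def orb (F : FusionSystem S) (E A : Subgroup Ω) : Subgroup Ω :=
  Subgroup.closure {y | ∃ α ∈ F.autGroup E, ∃ a ∈ A, y = autFun α a}

/-- An essential subgroup whose automorphisms do not preserve `Ω₁(Z(S))`. -/
def Nt (F : FusionSystem S) (p : ℕ) (E : Subgroup Ω) : Prop :=
  F.IsEssential p E ∧ ¬ Inv F E (om p S)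

variable {F : FusionSystem S} [hp : Fact p.Prime]

theorem le_orb {E A : Subgroup Ω} (hAE : A ≤ E) : A ≤ orb F E A := fun a ha =>
  Subgroup.subset_closure ⟨1, one_mem _, a, ha, (autFun_one (hAE ha)).symm⟩

theorem af_mem_orb {E A : Subgroup Ω} {α : MulAut E} (hα : α ∈ F.autGroup E) {a : Ω} (ha : a ∈ A) :
    autFun α a ∈ orb F E A := Subgroup.subset_closure ⟨α, hα, a, ha, rfl⟩

theorem orb_le {E A : Subgroup Ω} (hAE : A ≤ E) : orb F E A ≤ E :=
  (Subgroup.closure_le _).2 fun _ ⟨α, _, _, ha, e⟩ => e ▸ autFun_mem α (hAE ha)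

theorem orb_le_of {E A N : Subgroup Ω} (hAN : A ≤ N) (hN : Inv F E N) : orb F E A ≤ N :=
  (Subgroup.closure_le _).2 fun _ ⟨α, hα, _, ha, e⟩ => e ▸ hN α hα _ (hAN ha)

theorem inv_orb {E A : Subgroup Ω} (hAE : A ≤ E) : Inv F E (orb F E A) := by
  intro α hα x hx
  induction hx using Subgroup.closure_induction with
  | mem y hy =>
    obtain ⟨β, hβ, a, ha, rfl⟩ := hy
    rw [← autFun_mul _ _ (hAE ha)]
    exact af_mem_orb (mul_mem hα hβ) ha
  | one => rw [af_one]; exact one_mem _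
  | mul a b ha hb iha ihb =>
    rw [af_mul α (orb_le hAE ha) (orb_le hAE hb)]; exact mul_mem iha ihb
  | inv a ha iha => rw [af_inv α (orb_le hAE ha)]; exact inv_mem iha

theorem Inv.inf {E M N : Subgroup Ω} (hM : Inv F E M) (hN : Inv F E N) : Inv F E (M ⊓ N) :=
  fun α hα x hx => ⟨hM α hα x hx.1, hN α hα x hx.2⟩

theorem inv_self (E : Subgroup Ω) : Inv F E E := fun α _ _ hx => autFun_mem α hx

theorem inv_om (E : Subgroup Ω) : Inv F E (om p E) := by
  rintro α - x ⟨hx, hxp, hxc⟩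
  refine ⟨autFun_mem α hx, by rw [← af_pow α hx, hxp, af_one], fun y hy => ?_⟩
  have h := af_commute α hx (autFun_mem α⁻¹ hy) (hxc _ (autFun_mem α⁻¹ hy))
  rwa [af_apply_inv α hy] at h

theorem inv_phi {E D : Subgroup Ω} (hD : D ≤ E) (h : Inv F E D) : Inv F E (phi p D) := by
  intro α hα x hx
  have hle : phi p D ≤ E := (phi_le D).trans hD
  induction hx using Subgroup.closure_induction with
  | mem y hy =>
    rcases hy with ⟨a, ha, b, hb, rfl⟩ | ⟨a, ha, rfl⟩
    · rw [af_comm α (hD ha) (hD hb)]; exact comm_mem_phi (h α hα a ha) (h α hα b hb)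
    · rw [af_pow α (hD ha)]; exact pow_mem_phi (h α hα a ha)
  | one => rw [af_one]; exact one_mem _
  | mul a b ha hb iha ihb => rw [af_mul α (hle ha) (hle hb)]; exact mul_mem iha ihb
  | inv a ha iha => rw [af_inv α (hle ha)]; exact inv_mem iha

namespace Hyp

variable [Finite S] (H : Hyp F p) {E : Subgroup Ω}
include H

theorem lt (hE : F.IsEssential p E) : E < S :=
  Fus.OrdFive.lt_of_essential H.isPGroup H.sat hE

theorem le (hE : F.IsEssential p E) : E ≤ S := hE.1.1

theorem conj_mem (hE : F.IsEssential p E) {s x : Ω} (hs : s ∈ S) (hx : x ∈ E) :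
    s * x * s⁻¹ ∈ E := (Subgroup.mem_normalizer_iff.1 (H.nrm E hE hs) x).1 hx

theorem exists_cj (hE : F.IsEssential p E) {s : Ω} (hs : s ∈ S) :
    ∃ α ∈ F.autGroup E, α ∈ autInducedBy S E ∧ ∀ x ∈ E, autFun α x = s * x * s⁻¹ := by
  have hmem : E.normalizerMonoidHom ⟨s, H.nrm E hE hs⟩ ∈ autInducedBy S E :=
    mem_autInducedBy.2 ⟨s, hs, fun x => rfl⟩
  refine ⟨_, autInducedBy_le_autGroup F (H.le hE) hmem, hmem, fun x hx => ?_⟩
  rw [show x = ((⟨x, hx⟩ : E) : Ω) from rfl, autFun_coe]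
  rfl

theorem normal_of_inv (hE : F.IsEssential p E) {N : Subgroup Ω} (hNE : N ≤ E) (hN : Inv F E N)
    {s x : Ω} (hs : s ∈ S) (hx : x ∈ N) : s * x * s⁻¹ ∈ N := by
  obtain ⟨α, hα, -, he⟩ := H.exists_cj hE hs
  rw [← he x (hNE hx)]
  exact hN α hα x hx

theorem center_le (hE : F.IsEssential p E) {x : Ω} (hx : x ∈ S) (hc : ∀ y ∈ E, Commute x y) :
    x ∈ E :=
  centralizerIn_le_of_centric hE.1 (mem_centralizerIn.2 ⟨hx, fun y hy => (hc y hy).symm.eq⟩)

theorem omS_le (hE : F.IsEssential p E) : om p S ≤ E := fun _ hx =>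
  H.center_le hE hx.1 fun y hy => hx.2.2 y (H.le hE hy)

theorem omS_le_om (hE : F.IsEssential p E) : om p S ≤ om p E := fun _ hx =>
  ⟨H.omS_le hE hx, hx.2.1, fun y hy => hx.2.2 y (H.le hE hy)⟩

/-- An element stabilizing an invariant series lies in the essential subgroup. -/
theorem series (hE : F.IsEssential p E) {U : Subgroup Ω} (hUE : U ≤ E) (hU : Inv F E U) {b : Ω}
    (hb : b ∈ S) (hfix : ∀ u ∈ U, Commute b u) (hdisp : ∀ y ∈ E, ⁅y⁻¹, b⁆ ∈ U) : b ∈ E := by
  refine mem_of_series H.isPGroup hE (fun α hα u hu _ => hU α hα u hu) hb (H.nrm E hE hb)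
    (fun u hu _ => by rw [(hfix u hu).eq, mul_inv_cancel_right]) fun y hy => ?_
  have h := hdisp y hy
  rwa [commutatorElement_def, inv_inv, show y⁻¹ * b * y * b⁻¹ = y⁻¹ * (b * y * b⁻¹) by group] at h

theorem false_of_invariant {Q : Subgroup Ω} (hQS : Q ≤ S) (hQ : Q ≠ ⊥)
    (htop : ∀ α ∈ F.autGroup S, ∀ x ∈ Q, autFun α x ∈ Q)
    (hess : ∀ P, F.IsEssential p P → Q ≤ P ∧ Inv F P Q) : False :=
  hQ (H.no_normal Q (isNormal_of_essential H.isPGroup H.sat hQS htop hess))

theorem natCard_index (hE : F.IsEssential p E) : Nat.card S ≤ p * Nat.card E := by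
  classical
  haveI := finite_of_le (H.le hE)
  haveI : Finite (MulAut E) :=
    Finite.of_injective (fun e : MulAut E => (e : E → E)) DFunLike.coe_injective
  have hEp : IsPGroup p E := H.isPGroup.to_le (H.le hE)
  obtain ⟨k, q, hqm, hq0, hqs, hqc⟩ := EssThree.exists_coord (p := p) (⊤ : Subgroup E) (frattini E)
    le_top
    (fun a _ b _ => Grp.pGroup_commutator_le_frattini hEp
      (Subgroup.commutator_mem_commutator (Subgroup.mem_top a) (Subgroup.mem_top b)))
    (fun a _ => Grp.pGroup_pow_mem_frattini hEp a)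
  have hk3 : k ≤ 3 := EssThree.dim_le_three (H.rank.rank3 (H.le hE)) (B := frattini E) le_top
    (fun a _ b _ => Grp.pGroup_commutator_le_frattini hEp
      (Subgroup.commutator_mem_commutator (Subgroup.mem_top a) (Subgroup.mem_top b)))
    (fun a _ => Grp.pGroup_pow_mem_frattini hEp a) hqc
  have hidx : (frattini E).index = p ^ k := by
    rw [Subgroup.card_top, ← (frattini E).index_mul_card, mul_comm] at hqc
    exact (Nat.eq_of_mul_eq_mul_right Nat.card_pos hqc).symm
  -- conjugation by elements of `S`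
  let c : S →* F.autGroup E :=
    ((E.normalizerMonoidHom).comp (Subgroup.inclusion (H.nrm E hE))).codRestrict _ fun s =>
      autInducedBy_le_autGroup F (H.le hE) (mem_autInducedBy.2 ⟨s, s.2, fun x => rfl⟩)
  have hker : ∀ s : S, (c s : MulAut E) ∈ Inn E → (s : Ω) ∈ E := by
    rintro s ⟨u, hu⟩
    have hmem : (u : Ω)⁻¹ * s ∈ E := by
      refine H.center_le hE (S.mul_mem (S.inv_mem (H.le hE u.2)) s.2) fun y hy => ?_
      have e : (u : Ω) * y * (u : Ω)⁻¹ = s * y * (s : Ω)⁻¹ :=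
        congrArg (fun β : MulAut E => ((β ⟨y, hy⟩ : E) : Ω)) hu
      calc (u : Ω)⁻¹ * s * y = (u : Ω)⁻¹ * (s * y * (s : Ω)⁻¹) * s := by group
        _ = y * ((u : Ω)⁻¹ * s) := by rw [← e]; group
    rw [← mul_inv_cancel_left (u : Ω) s]
    exact E.mul_mem u.2 hmem
  suffices h : ∃ (T : Type) (_ : Group T) (f : S →* T), (∀ s, f s = 1 → (s : Ω) ∈ E) ∧
      Nat.card f.range ≤ p by
    obtain ⟨T, _, f, hf, hcard⟩ := h
    rw [f.ker.card_eq_card_quotient_mul_card_subgroup,
      Nat.card_congr (QuotientGroup.quotientKerEquivRange f).toEquiv]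
    refine Nat.mul_le_mul hcard ?_
    exact Nat.card_le_card_of_injective (fun x : f.ker => (⟨(x : S), hf _ x.2⟩ : E)) fun a b h =>
      Subtype.ext (Subtype.ext (by simpa using h))
  rcases hk3.eq_or_lt with rfl | hk2
  · obtain ⟨D⟩ := EssThree.exists_core H.isPGroup hE hidx
    exact ⟨_, _, D.r.comp c, fun s hs => hker s (D.ker_le _ hs),
      D.emb.card_le (by have := hp.out.two_le; have := H.p_ne; omega)
        (by rintro _ ⟨s, rfl⟩; exact ⟨c s, rfl⟩)
        (H.isPGroup.of_surjective _ (D.r.comp c).rangeRestrict_surjective)⟩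
  · have hqm' : ∀ a b, q (a * b) = q a + q b := fun a b => hqm a trivial b trivial
    obtain ⟨r, hr⟩ := EssThree.exists_action q hqm'
      (fun v => let ⟨a, _, ha⟩ := hqs v; ⟨a, ha⟩) (F.autGroup E).subtype fun m h h0 => by
      rw [hq0 _ trivial] at h0 ⊢
      exact (EssThree.frattini_comap (m : MulAut E)).2 h0
    refine ⟨_, _, r.comp c, fun s hs => hker s (mem_inn_of_frattini_stab H.isPGroup hE (c s).2
      fun y => ?_), ?_⟩
    · have h2 : q ((c s : MulAut E) y) = q y := by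
        rw [show (c s : MulAut E) = (F.autGroup E).subtype (c s) from rfl, hr,
          show r (c s) = 1 from hs]
        rfl
      have h3 := hqm' y (y⁻¹ * (c s : MulAut E) y)
      rw [mul_inv_cancel_left, h2] at h3
      exact (hq0 _ trivial).1 (left_eq_add.1 h3)
    · haveI : Finite (r.comp c).range := Finite.of_surjective _ (r.comp c).rangeRestrict_surjective
      obtain ⟨j, hj⟩ := (H.isPGroup.of_surjective _
        (r.comp c).rangeRestrict_surjective).exists_card_eq
      have hdvd := Subgroup.card_subgroup_dvd_card (r.comp c).range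
      rw [Nat.card_congr ((LinearMap.GeneralLinearGroup.generalLinearEquiv (ZMod p)
          (Fin k → ZMod p)).symm.trans Matrix.GeneralLinearGroup.toLin.symm).toEquiv,
        Matrix.card_GL_field, hj, ZMod.card] at hdvd
      rw [hj]
      refine le_of_le_of_eq (Nat.pow_le_pow_right hp.out.pos ?_) (pow_one p)
      by_contra hj2
      have h2 : p ^ 2 ∣ ∏ i : Fin k, (p ^ k - p ^ (i : ℕ)) :=
        dvd_trans (pow_dvd_pow p (Nat.lt_of_not_le hj2)) hdvd
      have hm : ¬ p ∣ p ^ 2 - 1 := fun h => hp.out.one_lt.ne'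
        (Nat.dvd_one.1 ((Nat.dvd_add_right h).1 (by
          rw [Nat.sub_add_cancel (Nat.one_le_pow _ _ hp.out.pos)]; exact dvd_pow_self p two_ne_zero)))
      have hm1 : ¬ p ∣ p - 1 := fun h => hp.out.one_lt.ne'
        (Nat.dvd_one.1 ((Nat.dvd_add_right h).1 (by
          rw [Nat.sub_add_cancel hp.out.one_le])))
      interval_cases k
      · exact hp.out.one_lt.ne' (Nat.eq_one_of_dvd_one (dvd_trans (dvd_pow_self p two_ne_zero)
          (by simpa using h2)))
      · exact hm1 (dvd_trans (dvd_pow_self p two_ne_zero) (by simpa using h2))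
      · have h3 : p ^ 2 ∣ p * ((p ^ 2 - 1) * (p - 1)) := by
          have e : (∏ i : Fin 2, (p ^ 2 - p ^ (i : ℕ))) = p * ((p ^ 2 - 1) * (p - 1)) := by
            rw [Fin.prod_univ_two]
            simp only [Fin.val_zero, Fin.val_one, pow_zero, pow_one]
            rw [show p ^ 2 - p = p * (p - 1) by rw [Nat.mul_sub, mul_one, sq]]
            ring
          exact e ▸ h2
        rw [sq, Nat.mul_dvd_mul_iff_left hp.out.pos] at h3
        rcases hp.out.dvd_mul.1 h3 with h | h
        · exact hm (by rwa [sq])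
        · exact hm1 h

/-- An element outside an essential subgroup generates `S` with it. -/
theorem decomp (hE : F.IsEssential p E) {b : Ω} (hb : b ∈ S) (hbE : b ∉ E) :
    b ^ p ∈ E ∧ ∀ g ∈ S, ∃ i : ℕ, ∃ e ∈ E, g = e * b ^ i := by
  haveI := finite_of_le (H.le hE)
  haveI hn : (E.subgroupOf S).Normal := ⟨fun m hm g => H.conj_mem hE g.2 hm⟩
  have hidx : (E.subgroupOf S).index = p := by
    have h1 := (E.subgroupOf S).index_mul_card
    rw [Nat.card_congr (Subgroup.subgroupOfEquivOfLe (H.le hE)).toEquiv] at h1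
    have h2 := mul_card_le H.isPGroup le_rfl (H.lt hE)
    exact Nat.eq_of_mul_eq_mul_right Nat.card_pos (h1.trans (le_antisymm (H.natCard_index hE) h2))
  set f := QuotientGroup.mk' (E.subgroupOf S)
  haveI : Fact (Nat.card (S ⧸ E.subgroupOf S)).Prime :=
    ⟨by rw [← Subgroup.index_eq_card, hidx]; exact hp.out⟩
  have hb1 : f ⟨b, hb⟩ ≠ 1 := fun h => hbE ((QuotientGroup.eq_one_iff (⟨b, hb⟩ : S)).1 h :)
  refine ⟨?_, fun g hg => ?_⟩
  · have h : f (⟨b, hb⟩ ^ p) = 1 := by
      rw [map_pow]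
      conv_lhs => rw [← hidx, Subgroup.index_eq_card]
      exact pow_card_eq_one'
    exact ((QuotientGroup.eq_one_iff _).1 h :)
  · obtain ⟨i, hi⟩ := (mem_powers_iff_mem_zpowers (x := f ⟨b, hb⟩)).2
      (mem_zpowers_of_prime_card (G := S ⧸ E.subgroupOf S) rfl hb1 (g' := f ⟨g, hg⟩))
    refine ⟨i, g * (b ^ i)⁻¹, ?_, by group⟩
    have h : f (⟨g, hg⟩ * (⟨b, hb⟩ ^ i)⁻¹) = 1 := by
      rw [map_mul, map_inv, map_pow, mul_inv_eq_one]; exact hi.symm
    exact ((QuotientGroup.eq_one_iff _).1 h :)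

/-- An element centralized by `E` and by an element outside is central in `S`. -/
theorem mem_omS (hE : F.IsEssential p E) {b x : Ω} (hb : b ∈ S) (hbE : b ∉ E) (hx : x ∈ S)
    (hxp : x ^ p = 1) (hxE : ∀ y ∈ E, Commute x y) (hxb : Commute x b) : x ∈ om p S := by
  refine ⟨hx, hxp, fun g hg => ?_⟩
  obtain ⟨i, e, he, rfl⟩ := (H.decomp hE hb hbE).2 g hg
  exact (hxE e he).mul_right (hxb.pow_right i)

/-- The maximality of an essential subgroup. -/
theorem eq_top_of_lt (hE : F.IsEssential p E) {K : Subgroup Ω} (hEK : E ≤ K) {b : Ω} (hb : b ∈ K)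
    (hbE : b ∉ E) (hbS : b ∈ S) : S ≤ K := fun g hg => by
  obtain ⟨i, e, he, rfl⟩ := (H.decomp hE hbS hbE).2 g hg
  exact K.mul_mem (hEK he) (K.pow_mem hb i)

/-- An automorphism normalizing `Aut_S(E)` extends to `S`. -/
theorem extend (hE : F.IsEssential p E) {α : MulAut E} (hα : α ∈ F.autGroup E)
    (hn : ∀ γ ∈ autInducedBy S E, α * γ * α⁻¹ ∈ autInducedBy S E) :
    ∃ β ∈ F.autGroup S, ∀ x ∈ E, autFun β x = autFun α x := by
  have hES := H.le hE
  have hN : ∀ s ∈ S, s ∈ normalizerIn S E ∧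
      ∃ h ∈ S, ∀ x ∈ E, autFun α (s * x * s⁻¹) = h * autFun α x * h⁻¹ := by
    intro s hs
    refine ⟨⟨hs, H.nrm E hE hs⟩, ?_⟩
    obtain ⟨γ, -, hγ, hγe⟩ := H.exists_cj hE hs
    obtain ⟨h, hh, he⟩ := mem_autInducedBy.1 (hn γ hγ)
    refine ⟨h, hh, fun x hx => ?_⟩
    have h1 := he ⟨autFun α x, autFun_mem α hx⟩
    rw [← autFun_coe, autFun_mul _ _ (autFun_mem α hx), autFun_inv_apply α hx,
      autFun_mul _ _ hx, hγe x hx] at h1
    exact h1
  obtain ⟨g, hg, hge⟩ := receptive_extend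
    (receptive_of_fullyNormalized H.isPGroup H.sat hE.2.1) ((mem_autGroup hES).1 hα)
    (fimg_autFun α) hN hES
  obtain ⟨β, hβ, he⟩ := hg.exists_aut (fimg_eq_self_of_source_top hg)
  exact ⟨β, hβ, fun x hx => (he x (hES hx)).trans (hge x hx)⟩

/-- A subgroup of `Ω₁(Z(S))` invariant under `Aut_F(S)` is invariant under the automorphisms of
every essential subgroup preserving `Ω₁(Z(S))`. -/
theorem inv_of_fix (hE : F.IsEssential p E) (hZ : Inv F E (om p S)) {C : Subgroup Ω}
    (hC : C ≤ om p S) (htop : ∀ α ∈ F.autGroup S, ∀ x ∈ C, autFun α x ∈ C) : Inv F E C := by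
  classical
  haveI := finite_of_le (H.le hE)
  haveI : Finite (MulAut E) :=
    Finite.of_injective (fun e : MulAut E => (e : E → E)) DFunLike.coe_injective
  have hZE := H.omS_le hE
  let K : Subgroup (F.autGroup E) :=
    { carrier := {α | ∀ z ∈ om p S, autFun (α : MulAut E) z = z}
      one_mem' := fun z hz => autFun_one (hZE hz)
      mul_mem' := fun {a b} ha hb z hz => by
        rw [Subgroup.coe_mul, autFun_mul _ _ (hZE hz), hb z hz, ha z hz]
      inv_mem' := fun {a} ha z hz => by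
        conv_lhs => rw [← ha z hz]
        rw [Subgroup.coe_inv, autFun_inv_apply _ (hZE hz)] }
  haveI hKn : K.Normal := ⟨fun a ha g z hz => by
    have h1 : autFun ((g : MulAut E))⁻¹ z ∈ om p S := hZ _ (inv_mem g.2) z hz
    rw [Subgroup.coe_mul, Subgroup.coe_mul, Subgroup.coe_inv, mul_assoc,
      autFun_mul _ _ (hZE hz), autFun_mul _ _ (hZE hz), ha _ h1, af_apply_inv _ (hZE hz)]⟩
  obtain ⟨-, R, hR⟩ := fullyAutomized_of_fullyNormalized H.isPGroup H.sat hE.2.1
  have hRK : (R : Subgroup (F.autGroup E)) ≤ K := by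
    intro γ hγ z hz
    rw [hR, Subgroup.mem_subgroupOf] at hγ
    obtain ⟨g, hg, he⟩ := mem_autInducedBy.1 hγ
    rw [show z = ((⟨z, hZE hz⟩ : E) : Ω) from rfl, autFun_coe, he]
    show g * z * g⁻¹ = z
    rw [← ((hz.2.2 g hg).eq), mul_inv_cancel_right]
  have htopK := Sylow.normalizer_sup_eq_top' R hRK
  intro α hα x hx
  have hmem : (⟨α, hα⟩ : F.autGroup E) ∈ Subgroup.normalizer (R : Set (F.autGroup E)) ⊔ K :=
    htopK.ge (Subgroup.mem_top _)
  rw [sup_comm, Subgroup.mem_sup_of_normal_left] at hmem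
  obtain ⟨k, hk, ν, hν, hkν⟩ := hmem
  have hνn : ∀ γ ∈ autInducedBy S E, (ν : MulAut E) * γ * (ν : MulAut E)⁻¹ ∈ autInducedBy S E := by
    intro γ hγ
    have hγ' : (⟨γ, autInducedBy_le_autGroup F (H.le hE) hγ⟩ : F.autGroup E) ∈
        (R : Subgroup (F.autGroup E)) := by rw [hR]; exact hγ
    have h := (Subgroup.mem_normalizer_iff.1 hν _).1 hγ'
    rw [hR] at h
    exact h
  obtain ⟨β, hβ, hβe⟩ := H.extend hE ν.2 hνn
  rw [show α = (k : MulAut E) * (ν : MulAut E) from (congrArg Subtype.val hkν).symm,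
    autFun_mul _ _ (hZE (hC hx)), ← hβe x (hZE (hC hx)), hk _ (hC (htop β hβ x hx))]
  exact htop β hβ x hx

end Hyp

end Cfsg.Agent.Invol.EssNormal
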