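import Cfsg.Agent.Lib.Classical.SympGen
import Mathlib.GroupTheory.Sylow
import Mathlib.GroupTheory.NoncommPiCoprod

/-!
# A Sylow `p`-subgroup of `Sp₄(p)` for odd `p`, by generators
-/

set_option autoImplicit false
set_option linter.style.haveILetI false
set_option linter.unusedSectionVars false

namespace Cfsg.Agent.Invol.EssNormal

open scoped commutatorElement Pointwise

section abstract

variable {G : Type*} [Group G] {p : ℕ} [hp : Fact p.Prime]

/-- Adjoining an element of order `p` that normalises a subgroup. -/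
theorem card_adjoin {H : Subgroup G} [Finite H] {x : G} (hx : x ^ p = 1) (hxH : x ∉ H)
    (hconj : ∀ h ∈ H, x * h * x⁻¹ ∈ H) :
    Nat.card ↥(H ⊔ Subgroup.zpowers x) = Nat.card H * p := by
  have hx1 : x ≠ 1 := fun h => hxH (h ▸ H.one_mem)
  have ho : orderOf x = p := orderOf_eq_prime hx hx1
  have hZ : Nat.card (Subgroup.zpowers x) = p := by rw [Nat.card_zpowers, ho]
  haveI : Finite (Subgroup.zpowers x) := Nat.finite_of_card_ne_zero (hZ ▸ hp.out.ne_zero)
  have hpow : ∀ (n : ℕ), ∀ h ∈ H, x ^ n * h * (x ^ n)⁻¹ ∈ H := by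
    intro n
    induction n with
    | zero => intro h hh; simpa using hh
    | succ n ih =>
      intro h hh
      have := hconj _ (ih h hh)
      rw [pow_succ']
      convert this using 1
      group
  have hfin : IsOfFinOrder x := orderOf_pos_iff.1 (ho ▸ hp.out.pos)
  have hZn : ∀ z ∈ Subgroup.zpowers x, ∀ h ∈ H, z * h * z⁻¹ ∈ H := by
    intro z hz h hh
    obtain ⟨n, rfl⟩ := (hfin.mem_powers_iff_mem_zpowers.2 hz)
    exact hpow n h hh
  have hle : Subgroup.zpowers x ≤ Subgroup.normalizer (H : Set G) := fun z hz =>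
    Subgroup.mem_normalizer_iff.2 fun h => ⟨hZn z hz h, fun hh => by
      have := hZn z⁻¹ (inv_mem hz) _ hh
      convert this using 1
      group⟩
  have hdis : Disjoint H (Subgroup.zpowers x) := by
    rw [disjoint_iff]
    have hdvd := Subgroup.card_dvd_of_le (inf_le_right : H ⊓ Subgroup.zpowers x ≤ _)
    rw [hZ] at hdvd
    rcases (Nat.dvd_prime hp.out).1 hdvd with h | h
    · exact Subgroup.card_eq_one.1 h
    · exfalso
      have heq := Subgroup.eq_of_le_of_card_ge (inf_le_right : H ⊓ Subgroup.zpowers x ≤ _)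
        (by rw [h, hZ])
      exact hxH (heq.ge (Subgroup.mem_zpowers x)).1
  have hbij : Function.Bijective (fun y : H × Subgroup.zpowers x =>
      (⟨(y.1 : G) * y.2, Subgroup.mul_mem_sup y.1.2 y.2.2⟩ : ↥(H ⊔ Subgroup.zpowers x))) := by
    refine ⟨fun a b hab => Subgroup.mul_injective_of_disjoint hdis (congrArg Subtype.val hab),
      fun y => ?_⟩
    have hy : (y : G) ∈ (H : Set G) * (Subgroup.zpowers x : Set G) := by
      rw [← Subgroup.coe_mul_of_right_le_normalizer_left _ _ hle]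
      exact y.2
    obtain ⟨a, ha, b, hb, hab⟩ := hy
    exact ⟨(⟨a, ha⟩, ⟨b, hb⟩), Subtype.ext hab⟩
  rw [← Nat.card_eq_of_bijective _ hbij, Nat.card_prod, hZ]

/-- The defining relations of the maximal class group of order `p ^ 4` with an elementary abelian
subgroup of order `p ^ 3` and an element of order `p` outside it. -/
structure Data (p : ℕ) (t a : G) : Prop where
  ht : t ^ p = 1
  ha : a ^ p = 1
  hb : ⁅t, a⁆ ^ p = 1
  hc : ⁅t, ⁅t, a⁆⁆ ^ p = 1
  hab : Commute a ⁅t, a⁆
  hac : Commute a ⁅t, ⁅t, a⁆⁆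
  hbc : Commute ⁅t, a⁆ ⁅t, ⁅t, a⁆⁆
  hfix : ⁅t, ⁅t, ⁅t, a⁆⁆⁆ = 1
  hne : ⁅t, ⁅t, a⁆⁆ ≠ 1

theorem Data.card_closure {t a : G} (D : Data p t a) :
    Nat.card (Subgroup.closure {t, a}) = p ^ 4 := by
  set b := ⁅t, a⁆ with hbdef
  set c := ⁅t, b⁆ with hcdef
  have htc : t * c * t⁻¹ = c := by
    rw [(commutatorElement_eq_one_iff_mul_comm.1 D.hfix), mul_inv_cancel_right]
  have htb : t * b * t⁻¹ = c * b := by rw [hcdef, commutatorElement_def]; group
  have hta : t * a * t⁻¹ = b * a := by rw [hbdef, commutatorElement_def]; group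
  have hc1 : Nat.card (Subgroup.zpowers c) = p := by
    rw [Nat.card_zpowers, orderOf_eq_prime D.hc D.hne]
  haveI : Finite (Subgroup.zpowers c) := Nat.finite_of_card_ne_zero (hc1 ▸ hp.out.ne_zero)
  have hbn : b ∉ Subgroup.zpowers c := by
    intro h
    obtain ⟨k, hk⟩ := Subgroup.mem_zpowers_iff.1 h
    apply D.hne
    show ⁅t, b⁆ = 1
    rw [← hk, commutatorElement_def, ← conj_zpow, htc, mul_inv_cancel]
  have hB : ∀ h ∈ Subgroup.zpowers c, b * h * b⁻¹ ∈ Subgroup.zpowers c := by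
    intro h hh
    obtain ⟨k, rfl⟩ := Subgroup.mem_zpowers_iff.1 hh
    rw [(D.hbc.zpow_right k).eq, mul_inv_cancel_right]
    exact hh
  have hc2 := card_adjoin D.hb hbn hB
  rw [hc1, ← sq] at hc2
  set K₂ := Subgroup.zpowers c ⊔ Subgroup.zpowers b with hK₂
  haveI : Finite K₂ := Nat.finite_of_card_ne_zero (hc2 ▸ pow_ne_zero _ hp.out.ne_zero)
  have hK₂a : ∀ h ∈ K₂, Commute a h := by
    intro h hh
    have hle : K₂ ≤ Subgroup.centralizer {a} := by
      refine sup_le ?_ ?_ <;> refine Subgroup.zpowers_le.2 (Subgroup.mem_centralizer_singleton_iff.2 ?_)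
      exacts [D.hac.eq.symm, D.hab.eq.symm]
    exact (Subgroup.mem_centralizer_singleton_iff.1 (hle hh)).symm
  have han : a ∉ K₂ := by
    intro h
    have hle : K₂ ≤ Subgroup.centralizer {b} := by
      refine sup_le ?_ ?_ <;> refine Subgroup.zpowers_le.2 (Subgroup.mem_centralizer_singleton_iff.2 ?_)
      exacts [D.hbc.eq.symm, rfl]
    -- `a` would be fixed by conjugation by `t` up to `c`
    obtain ⟨i, j, hij⟩ : ∃ i j : ℤ, c ^ i * b ^ j = a := by
      have h' : a ∈ (Subgroup.zpowers c : Set G) * (Subgroup.zpowers b : Set G) := by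
        rw [← Subgroup.coe_mul_of_right_le_normalizer_left _ _ ?_]
        · exact h
        · refine Subgroup.zpowers_le.2 (Subgroup.mem_normalizer_iff.2 fun y => ⟨hB y, fun hy => ?_⟩)
          obtain ⟨k, hk⟩ := Subgroup.mem_zpowers_iff.1 hy
          have hcm : b⁻¹ * c ^ k * b = c ^ k := by
            rw [mul_assoc, ← (D.hbc.zpow_right k).eq, inv_mul_cancel_left]
          have : y = c ^ k := by rw [← hcm, hk]; group
          exact this ▸ Subgroup.zpow_mem_zpowers _ _
      obtain ⟨_, ⟨i, rfl⟩, _, ⟨j, rfl⟩, hij⟩ := h'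
      exact ⟨i, j, hij⟩
    have hb' : b = c ^ j := by
      have h1 : t * a * t⁻¹ = c ^ j * a := by
        conv_lhs => rw [← hij]
        rw [← hij, show t * (c ^ i * b ^ j) * t⁻¹ = (t * c ^ i * t⁻¹) * (t * b ^ j * t⁻¹) by group,
          ← conj_zpow, ← conj_zpow, htc, htb, (D.hbc.symm).mul_zpow, ← mul_assoc, ← mul_assoc,
          ← zpow_add, ← zpow_add, add_comm]
      rw [hta] at h1
      exact mul_right_cancel h1
    exact hbn (hb' ▸ Subgroup.zpow_mem_zpowers _ _)
  have hA : ∀ h ∈ K₂, a * h * a⁻¹ ∈ K₂ := fun h hh => by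
    rw [(hK₂a h hh).eq, mul_inv_cancel_right]; exact hh
  have hc3 := card_adjoin D.ha han hA
  rw [hc2, ← pow_succ] at hc3
  set K := K₂ ⊔ Subgroup.zpowers a with hK
  haveI : Finite K := Nat.finite_of_card_ne_zero (hc3 ▸ pow_ne_zero _ hp.out.ne_zero)
  have hcK : c ∈ K := Subgroup.mem_sup_left (Subgroup.mem_sup_left (Subgroup.mem_zpowers c))
  have hbK : b ∈ K := Subgroup.mem_sup_left (Subgroup.mem_sup_right (Subgroup.mem_zpowers b))
  have haK : a ∈ K := Subgroup.mem_sup_right (Subgroup.mem_zpowers a)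
  have hKt : ∀ h ∈ K, t * h * t⁻¹ ∈ K := by
    have : K ≤ K.comap (MulAut.conj t).toMonoidHom := by
      refine sup_le (sup_le ?_ ?_) ?_ <;> refine Subgroup.zpowers_le.2 ?_ <;>
        simp only [Subgroup.mem_comap, MulEquiv.coe_toMonoidHom, MulAut.conj_apply]
      · rwa [htc]
      · rw [htb]; exact K.mul_mem hcK hbK
      · rw [hta]; exact K.mul_mem hbK haK
    exact fun h hh => this hh
  have htn : t ∉ K := by
    intro h
    have hle : K ≤ Subgroup.centralizer {a} := by
      refine sup_le (fun h hh => Subgroup.mem_centralizer_singleton_iff.2 (hK₂a h hh).eq.symm) ?_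
      exact Subgroup.zpowers_le.2 (Subgroup.mem_centralizer_singleton_iff.2 rfl)
    have hta' := Subgroup.mem_centralizer_singleton_iff.1 (hle h)
    apply D.hne
    show ⁅t, ⁅t, a⁆⁆ = 1
    rw [commutatorElement_eq_one_iff_mul_comm.2 (show t * a = a * t from hta'),
      commutatorElement_one_right]
  have hc4 := card_adjoin D.ht htn hKt
  rw [hc3, ← pow_succ] at hc4
  have hta2 : ∀ y ∈ ({t, a} : Set G), y ∈ K ⊔ Subgroup.zpowers t := by
    rintro y (rfl | rfl)
    · exact Subgroup.mem_sup_right (Subgroup.mem_zpowers y)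
    · exact Subgroup.mem_sup_left haK
  have heq : Subgroup.closure {t, a} = K ⊔ Subgroup.zpowers t := by
    refine le_antisymm ((Subgroup.closure_le _).2 hta2) ?_
    have ht' : t ∈ Subgroup.closure {t, a} := Subgroup.subset_closure (Or.inl rfl)
    have ha' : a ∈ Subgroup.closure {t, a} := Subgroup.subset_closure (Or.inr rfl)
    have hb' : b ∈ Subgroup.closure {t, a} := by
      rw [hbdef, commutatorElement_def]
      exact mul_mem (mul_mem (mul_mem ht' ha') (inv_mem ht')) (inv_mem ha')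
    have hc' : c ∈ Subgroup.closure {t, a} := by
      rw [hcdef, commutatorElement_def]
      exact mul_mem (mul_mem (mul_mem ht' hb') (inv_mem ht')) (inv_mem hb')
    refine sup_le (sup_le (sup_le ?_ ?_) ?_) ?_ <;> refine Subgroup.zpowers_le.2 ?_ <;> assumption
  rw [heq, hc4]

theorem Data.prod {H : Type*} [Group H] {t a : G} {t' a' : H} (D : Data p t a) (D' : Data p t' a') :
    Data p (t, t') (a, a') where
  ht := Prod.ext D.ht D'.ht
  ha := Prod.ext D.ha D'.ha
  hb := Prod.ext D.hb D'.hb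
  hc := Prod.ext D.hc D'.hc
  hab := Prod.ext D.hab.eq D'.hab.eq
  hac := Prod.ext D.hac.eq D'.hac.eq
  hbc := Prod.ext D.hbc.eq D'.hbc.eq
  hfix := Prod.ext D.hfix D'.hfix
  hne := fun h => D.hne (congrArg Prod.fst h)

theorem bijective_of_map_pair {H : Type*} [Group H] {t a : G} {u v : H} (D : Data p t a)
    (D' : Data p u v) (f : G →* H) (h1 : f t = u) (h2 : f a = v) :
    Function.Bijective (f.subgroupMap (Subgroup.closure {t, a})) ∧
      (Subgroup.closure {t, a}).map f = Subgroup.closure {u, v} := by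
  have hmap : (Subgroup.closure {t, a}).map f = Subgroup.closure {u, v} := by
    rw [MonoidHom.map_closure, Set.image_pair, h1, h2]
  have hc := D.card_closure
  haveI : Finite (Subgroup.closure {t, a}) :=
    Nat.finite_of_card_ne_zero (hc ▸ pow_ne_zero _ hp.out.ne_zero)
  refine ⟨(Nat.bijective_iff_surjective_and_card _).2 ⟨f.subgroupMap_surjective _, ?_⟩, hmap⟩
  rw [hc, hmap, D'.card_closure]

/-- Two groups given by these data are isomorphic. -/
theorem Data.nonempty_mulEquiv {H : Type*} [Group H] {t a : G} {t' a' : H} (D : Data p t a)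
    (D' : Data p t' a') :
    Nonempty (Subgroup.closure {t, a} ≃* Subgroup.closure {t', a'}) := by
  obtain ⟨hb1, hm1⟩ := bijective_of_map_pair (D.prod D') D (MonoidHom.fst G H) rfl rfl
  obtain ⟨hb2, hm2⟩ := bijective_of_map_pair (D.prod D') D' (MonoidHom.snd G H) rfl rfl
  exact ⟨((MulEquiv.subgroupCongr hm1.symm).trans (MulEquiv.ofBijective _ hb1).symm).trans
    ((MulEquiv.ofBijective _ hb2).trans (MulEquiv.subgroupCongr hm2))⟩

end abstract

section symplectic

open Matrix

variable (p : ℕ) [hp : Fact p.Prime]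

/-- The short notation for `Sp₄(p)`. -/
abbrev Sp4 : Type := ↥(Matrix.symplecticGroup (Fin 2) (ZMod p))

/-- An upper unitriangular symplectic matrix. -/
def spUp (B : Matrix (Fin 2) (Fin 2) (ZMod p)) (hB : Bᵀ = B) : Sp4 p :=
  ⟨fromBlocks 1 B 0 1, by
    simp [SymplecticGroup.mem_iff, J, fromBlocks_transpose, fromBlocks_multiply, hB]⟩

/-- The unipotent element of the Levi subgroup. -/
def spLev : Sp4 p :=
  ⟨fromBlocks !![1, 1; 0, 1] 0 0 !![1, 0; -1, 1], by
    rw [SymplecticGroup.mem_iff]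
    have eU : (!![1, 1; 0, 1] : Matrix (Fin 2) (Fin 2) (ZMod p))ᵀ = !![1, 0; 1, 1] := by
      ext i j; fin_cases i <;> fin_cases j <;> rfl
    have eW : (!![1, 0; -1, 1] : Matrix (Fin 2) (Fin 2) (ZMod p))ᵀ = !![1, -1; 0, 1] := by
      ext i j; fin_cases i <;> fin_cases j <;> rfl
    simp only [J, fromBlocks_transpose, fromBlocks_multiply, transpose_zero, eU, eW]
    congr 1 <;> ext i j <;> fin_cases i <;> fin_cases j <;>
      simp [Matrix.mul_apply, Fin.sum_univ_two]⟩

theorem spUp_mul (B C : Matrix (Fin 2) (Fin 2) (ZMod p)) (hB : Bᵀ = B) (hC : Cᵀ = C) :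
    spUp p B hB * spUp p C hC = spUp p (B + C) (by rw [transpose_add, hB, hC]) :=
  Subtype.ext (by simp [spUp, fromBlocks_multiply, add_comm])

theorem spUp_commute (B C : Matrix (Fin 2) (Fin 2) (ZMod p)) (hB : Bᵀ = B) (hC : Cᵀ = C) :
    Commute (spUp p B hB) (spUp p C hC) :=
  Subtype.ext (by simp [spUp, fromBlocks_multiply, add_comm])

theorem spUp_pow (B : Matrix (Fin 2) (Fin 2) (ZMod p)) (hB : Bᵀ = B) (n : ℕ) :
    ((spUp p B hB ^ n : Sp4 p) : Matrix (Fin 2 ⊕ Fin 2) (Fin 2 ⊕ Fin 2) (ZMod p)) =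
      fromBlocks 1 (n • B) 0 1 := by
  induction n with
  | zero => simp
  | succ n ih =>
    rw [pow_succ, Submonoid.coe_mul, ih]
    simp only [spUp, fromBlocks_multiply, succ_nsmul, Matrix.one_mul, Matrix.mul_one,
      Matrix.zero_mul, Matrix.mul_zero, add_zero, zero_add, add_comm]

theorem spUp_pow_p (B : Matrix (Fin 2) (Fin 2) (ZMod p)) (hB : Bᵀ = B) :
    spUp p B hB ^ p = 1 := by
  apply Subtype.ext
  rw [spUp_pow]
  simp

theorem spLev_pow (n : ℕ) :
    ((spLev p ^ n : Sp4 p) : Matrix (Fin 2 ⊕ Fin 2) (Fin 2 ⊕ Fin 2) (ZMod p)) =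
      fromBlocks !![1, (n : ZMod p); 0, 1] 0 0 !![1, 0; -(n : ZMod p), 1] := by
  induction n with
  | zero => simp [← Matrix.one_fin_two]
  | succ n ih =>
    rw [pow_succ, Submonoid.coe_mul, ih]
    simp only [spLev, fromBlocks_multiply]
    congr 1 <;> ext i j <;> fin_cases i <;> fin_cases j <;>
      simp [Matrix.mul_apply, Fin.sum_univ_two, add_comm]

theorem spLev_pow_p : spLev p ^ p = 1 := by
  apply Subtype.ext
  rw [spLev_pow]
  simp [← Matrix.one_fin_two]

theorem comm_spLev (B C : Matrix (Fin 2) (Fin 2) (ZMod p)) (hB : Bᵀ = B) (hC : Cᵀ = C)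
    (h : !![1, 1; 0, 1] * B * !![1, 0; 1, 1] = C + B) : ⁅spLev p, spUp p B hB⁆ = spUp p C hC := by
  have h1 : spLev p * spUp p B hB = (spUp p C hC * spUp p B hB) * spLev p := by
    rw [spUp_mul]
    apply Subtype.ext
    simp only [spLev, spUp, Submonoid.coe_mul, fromBlocks_multiply]
    have h2 : (!![1, 0; 1, 1] : Matrix (Fin 2) (Fin 2) (ZMod p)) * !![1, 0; -1, 1] = 1 := by
      simp [← Matrix.one_fin_two]
    congr 1 <;> simp [← h, Matrix.mul_assoc, h2]
  rw [commutatorElement_def, h1]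
  group

theorem data_sp (h2 : p ≠ 2) : Data p (spLev p) (spUp p !![0, 0; 0, 1] (by
    ext i j; fin_cases i <;> fin_cases j <;> rfl)) := by
  have hs1 : (!![1, 1; 1, 0] : Matrix (Fin 2) (Fin 2) (ZMod p))ᵀ = !![1, 1; 1, 0] := by
    ext i j; fin_cases i <;> fin_cases j <;> rfl
  have hs2 : (!![2, 0; 0, 0] : Matrix (Fin 2) (Fin 2) (ZMod p))ᵀ = !![2, 0; 0, 0] := by
    ext i j; fin_cases i <;> fin_cases j <;> rfl
  have hs0 : (!![0, 0; 0, 0] : Matrix (Fin 2) (Fin 2) (ZMod p))ᵀ = !![0, 0; 0, 0] := by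
    ext i j; fin_cases i <;> fin_cases j <;> rfl
  have e1 := comm_spLev p !![0, 0; 0, 1] _ (by ext i j; fin_cases i <;> fin_cases j <;> rfl) hs1 (by
    ext i j; fin_cases i <;> fin_cases j <;> simp [Matrix.mul_apply, Fin.sum_univ_two])
  have e2 := comm_spLev p _ _ hs1 hs2 (by
    ext i j; fin_cases i <;> fin_cases j <;> simp [Matrix.mul_apply, Fin.sum_univ_two] <;> norm_num)
  have e3 := comm_spLev p _ _ hs2 hs0 (by
    ext i j; fin_cases i <;> fin_cases j <;> simp [Matrix.mul_apply, Fin.sum_univ_two])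
  refine ⟨spLev_pow_p p, spUp_pow_p p _ _, ?_, ?_, ?_, ?_, ?_, ?_, ?_⟩
  · rw [e1]; exact spUp_pow_p p _ _
  · rw [e1, e2]; exact spUp_pow_p p _ _
  · rw [e1]; exact spUp_commute p _ _ _ _
  · rw [e1, e2]; exact spUp_commute p _ _ _ _
  · rw [e1, e2]; exact spUp_commute p _ _ _ _
  · rw [e1, e2, e3]
    exact Subtype.ext (by simp [spUp, ← Matrix.ext_iff, Matrix.one_apply, Fin.forall_fin_two])
  · rw [e1, e2]
    intro h
    have h' := congrArg (fun M : Sp4 p =>
      (M : Matrix (Fin 2 ⊕ Fin 2) (Fin 2 ⊕ Fin 2) (ZMod p)) (Sum.inl 0) (Sum.inr 0)) h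
    simp [spUp] at h'
    rw [show (2 : ZMod p) = ((2 : ℕ) : ZMod p) by norm_num, ZMod.natCast_eq_zero_iff] at h'
    exact h2 ((Nat.prime_dvd_prime_iff_eq hp.out Nat.prime_two).1 h')

theorem factorization_card_sp :
    (Nat.card (Sp4 p)).factorization p = 4 := by
  have hp1 := hp.out.one_lt
  rw [Cfsg.Agent.Classical.natCard_symplecticGroup, Nat.card_zmod]
  have hn : ∀ k : ℕ, k ≠ 0 → p ^ k - 1 ≠ 0 ∧ ¬ p ∣ p ^ k - 1 := fun k hk => by
    have h1 := Nat.one_lt_pow hk hp1
    refine ⟨by omega, fun hd => hp.out.one_lt.ne' ?_⟩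
    refine Nat.dvd_one.1 ?_
    have := Nat.dvd_sub (dvd_pow_self p hk) hd
    rwa [show p ^ k - (p ^ k - 1) = 1 by omega] at this
  simp only [Finset.prod_range_succ, Finset.prod_range_zero, one_mul]
  obtain ⟨h1, h1'⟩ := hn 2 (by norm_num)
  obtain ⟨h2, h2'⟩ := hn 4 (by norm_num)
  norm_num
  rw [Nat.factorization_mul (pow_ne_zero _ hp.out.ne_zero) (Nat.mul_ne_zero h1 h2),
    Nat.factorization_mul h1 h2, Finsupp.add_apply, Finsupp.add_apply,
    Nat.factorization_eq_zero_of_not_dvd h1', Nat.factorization_eq_zero_of_not_dvd h2',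
    Nat.Prime.factorization_pow hp.out, Finsupp.single_eq_same, add_zero, add_zero]

/-- A group generated by such data is a Sylow `p`-subgroup of `Sp₄(p)`. -/
theorem exists_sylow_sp_equiv {G : Type*} [Group G] {t a : G} (h2 : p ≠ 2) (D : Data p t a) :
    ∃ P : Sylow p (Sp4 p), Nonempty (Subgroup.closure {t, a} ≃* (P : Subgroup (Sp4 p))) := by
  have D' := data_sp p h2
  refine ⟨Sylow.ofCard _ (D'.card_closure.trans (by rw [factorization_card_sp])), ?_⟩
  exact D.nonempty_mulEquiv D'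

end symplectic

end Cfsg.Agent.Invol.EssNormal
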