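import Cfsg.Agent.Lib.Grp.PGroupSmall
import Cfsg.Agent.Lib.Invol.EssThree.Frame

/-!
# Small `p`-groups in a group of sectional rank three: elementary tools
-/

set_option autoImplicit false
set_option linter.style.haveILetI false
set_option linter.unusedSectionVars false

universe u

namespace Cfsg.Agent.Invol.EssNormal

open scoped commutatorElement

open EssThree (Rank3)

variable {G : Type*} [Group G]

/-! ### Class two -/

theorem pow_mul_swap {a b c : G} (hc : b * a = c * (a * b)) (hcb : Commute c b) :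
    ∀ n : ℕ, b ^ n * a = c ^ n * (a * b ^ n)
  | 0 => by simp
  | n + 1 => by
    calc b ^ (n + 1) * a = b * (b ^ n * a) := by rw [pow_succ', mul_assoc]
      _ = c ^ n * (b * a) * b ^ n := by
        rw [pow_mul_swap hc hcb n, ← mul_assoc b, ← (hcb.pow_left n).eq, mul_assoc, mul_assoc,
          mul_assoc]
      _ = c ^ (n + 1) * (a * b ^ (n + 1)) := by
        rw [hc, pow_succ c, pow_succ' b]
        simp only [mul_assoc]

/-- The binomial formula in class two. -/
theorem mul_pow_class_two {a b c : G} (hc : b * a = c * (a * b)) (hca : Commute c a)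
    (hcb : Commute c b) : ∀ n : ℕ, (a * b) ^ n = c ^ n.choose 2 * (a ^ n * b ^ n)
  | 0 => by simp
  | n + 1 => by
    have h2 : (n + 1).choose 2 = n.choose 2 + n := by
      rw [Nat.choose_succ_succ, Nat.choose_one_right, add_comm]
    calc (a * b) ^ (n + 1) = c ^ n.choose 2 * (a ^ n * (b ^ n * a) * b) := by
          rw [pow_succ, mul_pow_class_two hc hca hcb n]
          simp only [mul_assoc]
      _ = c ^ n.choose 2 * (c ^ n * (a ^ n * (a * b ^ n)) * b) := by
          rw [pow_mul_swap hc hcb n, ← mul_assoc (a ^ n), ← (hca.pow_pow n n).eq, mul_assoc (c ^ n)]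
      _ = c ^ (n + 1).choose 2 * (a ^ (n + 1) * b ^ (n + 1)) := by
          rw [h2, pow_add, pow_succ a, pow_succ b]
          simp only [mul_assoc]

variable {p : ℕ} [hp : Fact p.Prime]

/-- In class two with commutators of exponent `p`, elements of order `p` generate a group of
exponent `p`. -/
theorem pow_eq_one_of_closure (hp2 : p ≠ 2) {H : Subgroup G} {T : Set G}
    (hT : H = Subgroup.closure T) (ht : ∀ t ∈ T, t ^ p = 1)
    (hc : ∀ a ∈ H, ∀ b ∈ H, ∀ h ∈ H, Commute ⁅a, b⁆ h) (hcp : ∀ a ∈ H, ∀ b ∈ H, ⁅a, b⁆ ^ p = 1)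
    {x : G} (hx : x ∈ H) : x ^ p = 1 := by
  subst hT
  induction hx using Subgroup.closure_induction with
  | mem t h => exact ht t h
  | one => exact one_pow p
  | mul a b ha hb iha ihb =>
    have e : b * a = ⁅b, a⁆ * (a * b) := by rw [commutatorElement_def]; group
    obtain ⟨k, hk⟩ := hp.out.dvd_choose_self (show 2 ≠ 0 by norm_num)
      (lt_of_le_of_ne hp.out.two_le (Ne.symm hp2))
    rw [mul_pow_class_two e (hc b hb a ha a ha) (hc b hb a ha b hb), iha, ihb, hk, pow_mul,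
      hcp b hb a ha, one_pow, one_mul, one_mul]
  | inv a _ iha => rw [inv_pow, iha, inv_one]

/-! ### The subgroup generated by commutators and powers -/

/-- The subgroup generated by the commutators and the `p`-th powers of elements of `D`. -/
def phi (p : ℕ) (D : Subgroup G) : Subgroup G :=
  Subgroup.closure ({x | ∃ a ∈ D, ∃ b ∈ D, x = ⁅a, b⁆} ∪ {x | ∃ a ∈ D, x = a ^ p})

theorem comm_mem_phi {D : Subgroup G} {a b : G} (ha : a ∈ D) (hb : b ∈ D) : ⁅a, b⁆ ∈ phi p D :=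
  Subgroup.subset_closure (Or.inl ⟨a, ha, b, hb, rfl⟩)

theorem pow_mem_phi {D : Subgroup G} {a : G} (ha : a ∈ D) : a ^ p ∈ phi p D :=
  Subgroup.subset_closure (Or.inr ⟨a, ha, rfl⟩)

theorem phi_le_iff {D M : Subgroup G} :
    phi p D ≤ M ↔ (∀ a ∈ D, ∀ b ∈ D, ⁅a, b⁆ ∈ M) ∧ ∀ a ∈ D, a ^ p ∈ M := by
  refine ⟨fun h => ⟨fun a ha b hb => h (comm_mem_phi ha hb), fun a ha => h (pow_mem_phi ha)⟩,
    fun h => (Subgroup.closure_le _).2 ?_⟩
  rintro _ (⟨a, ha, b, hb, rfl⟩ | ⟨a, ha, rfl⟩)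
  · exact h.1 a ha b hb
  · exact h.2 a ha

theorem phi_le (D : Subgroup G) : phi p D ≤ D := phi_le_iff.2
  ⟨fun a ha b hb => by
    rw [commutatorElement_def]
    exact D.mul_mem (D.mul_mem (D.mul_mem ha hb) (D.inv_mem ha)) (D.inv_mem hb),
   fun a ha => D.pow_mem ha p⟩

theorem phi_mono {D E : Subgroup G} (h : D ≤ E) : phi p D ≤ phi p E := phi_le_iff.2
  ⟨fun _ ha _ hb => comm_mem_phi (h ha) (h hb), fun _ ha => pow_mem_phi (h ha)⟩

theorem of_phi_eq_bot {D : Subgroup G} (h : phi p D = ⊥) :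
    (∀ a ∈ D, ∀ b ∈ D, Commute a b) ∧ ∀ a ∈ D, a ^ p = 1 :=
  ⟨fun a ha b hb => commutatorElement_eq_one_iff_mul_comm.1 (Subgroup.mem_bot.1
    (h ▸ comm_mem_phi (p := p) ha hb)), fun a ha => Subgroup.mem_bot.1 (h ▸ pow_mem_phi ha)⟩

/-! ### Commutators and closures -/

theorem closure_elem {T : Set G} (hc : ∀ a ∈ T, ∀ b ∈ T, Commute a b) (hp' : ∀ a ∈ T, a ^ p = 1) :
    (∀ a ∈ Subgroup.closure T, ∀ b ∈ Subgroup.closure T, Commute a b) ∧
      ∀ a ∈ Subgroup.closure T, a ^ p = 1 := by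
  have hA := Subgroup.isMulCommutative_closure (k := T) hc
  have hcc : ∀ a ∈ Subgroup.closure T, ∀ b ∈ Subgroup.closure T, Commute a b :=
    fun a ha b hb => congrArg Subtype.val (hA.is_comm.comm ⟨a, ha⟩ ⟨b, hb⟩)
  refine ⟨hcc, fun a ha => ?_⟩
  induction ha using Subgroup.closure_induction with
  | mem t h => exact hp' t h
  | one => exact one_pow p
  | mul a b ha hb iha ihb => rw [(hcc a ha b hb).mul_pow, iha, ihb, one_mul]
  | inv a _ iha => rw [inv_pow, iha, inv_one]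

theorem sup_elem {A B : Subgroup G} (hA : ∀ a ∈ A, ∀ b ∈ A, Commute a b)
    (hB : ∀ a ∈ B, ∀ b ∈ B, Commute a b) (hAp : ∀ a ∈ A, a ^ p = 1) (hBp : ∀ a ∈ B, a ^ p = 1)
    (hAB : ∀ a ∈ A, ∀ b ∈ B, Commute a b) :
    (∀ a ∈ A ⊔ B, ∀ b ∈ A ⊔ B, Commute a b) ∧ ∀ a ∈ A ⊔ B, a ^ p = 1 := by
  rw [Subgroup.sup_eq_closure]
  refine closure_elem ?_ ?_
  · rintro a (ha | ha) b (hb | hb)
    · exact hA a ha b hb
    · exact hAB a ha b hb
    · exact (hAB b hb a ha).symm
    · exact hB a ha b hb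
  · rintro a (ha | ha)
    · exact hAp a ha
    · exact hBp a ha

theorem comm_mul_right (g a b : G) : ⁅g, a * b⁆ = ⁅g, a⁆ * (a * ⁅g, b⁆ * a⁻¹) := by
  simp only [commutatorElement_def]; group

/-- Commutators with a fixed element, propagated from generators. -/
theorem comm_mem_closure {g : G} {T : Set G} {M : Subgroup G}
    (hM : ∀ a ∈ Subgroup.closure T, ∀ m ∈ M, a * m * a⁻¹ ∈ M) (hT : ∀ t ∈ T, ⁅g, t⁆ ∈ M)
    {x : G} (hx : x ∈ Subgroup.closure T) : ⁅g, x⁆ ∈ M := by
  induction hx using Subgroup.closure_induction with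
  | mem t h => exact hT t h
  | one => rw [commutatorElement_one_right]; exact M.one_mem
  | mul a b ha _ iha ihb =>
    rw [comm_mul_right]
    exact M.mul_mem iha (hM a ha _ ihb)
  | inv a ha iha =>
    have e : ⁅g, a⁻¹⁆ = a⁻¹ * ⁅g, a⁆⁻¹ * (a⁻¹)⁻¹ := by simp only [commutatorElement_def]; group
    rw [e]
    exact hM _ (inv_mem ha) _ (M.inv_mem iha)

theorem comm_flip {M : Subgroup G} {a b : G} (h : ⁅a, b⁆ ∈ M) : ⁅b, a⁆ ∈ M := by
  rw [← commutatorElement_inv]; exact M.inv_mem h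

/-! ### Orders of `p`-subgroups -/

theorem exists_card_pow {S A : Subgroup G} [Finite S] (hS : IsPGroup p S) (hA : A ≤ S) :
    ∃ k, Nat.card A = p ^ k := by
  haveI : Finite A := Finite.of_injective _ (Subgroup.inclusion_injective hA)
  exact (hS.to_le hA).exists_card_eq

theorem mul_card_le {S A B : Subgroup G} [Finite S] (hS : IsPGroup p S) (hA : A ≤ S)
    (hBA : B < A) : p * Nat.card B ≤ Nat.card A := by
  haveI : Finite A := Finite.of_injective _ (Subgroup.inclusion_injective hA)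
  obtain ⟨i, hi⟩ := exists_card_pow hS hA
  obtain ⟨j, hj⟩ := exists_card_pow hS (hBA.le.trans hA)
  have hlt : Nat.card B < Nat.card A := by
    refine lt_of_le_of_ne (Subgroup.card_le_of_le hBA.le) fun h => hBA.ne ?_
    exact Subgroup.eq_of_le_of_card_ge hBA.le h.ge
  rw [hi, hj] at hlt ⊢
  rw [← pow_succ']
  exact Nat.pow_le_pow_right hp.out.pos (Nat.succ_le_of_lt ((Nat.pow_lt_pow_iff_right
    hp.out.one_lt).1 hlt))

theorem prime_le_card {S A : Subgroup G} [Finite S] (hS : IsPGroup p S) (hA : A ≤ S) (h : A ≠ ⊥) :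
    p ≤ Nat.card A := by
  have := mul_card_le hS hA (bot_lt_iff_ne_bot.2 h)
  rwa [Subgroup.card_bot, mul_one] at this

/-! ### Elementary abelian subgroups in rank three -/

/-- Elementary abelian sections of `S` have order at most `p ^ 3`. -/
def R3 (p : ℕ) (S : Subgroup G) : Prop :=
  ∀ A B : Subgroup G, A ≤ S → B ≤ A → (∀ a ∈ A, ∀ b ∈ A, ⁅a, b⁆ ∈ B) → (∀ a ∈ A, a ^ p ∈ B) →
    Nat.card A ≤ p ^ 3 * Nat.card B

theorem r3_of_sectional {S : Subgroup G} (h : Cfsg.SectionalPRankLE p 3 S) : R3 p S := by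
  intro A B hAS hBA hcomm hpow
  have h1 := EssThree.rank3_of_sectional h (A.subgroupOf S) (B.subgroupOf S)
    (fun x hx => hBA hx) (fun a ha b hb => hcomm _ ha _ hb) fun a ha => hpow _ ha
  rwa [Nat.card_congr (Subgroup.subgroupOfEquivOfLe hAS).toEquiv,
    Nat.card_congr (Subgroup.subgroupOfEquivOfLe (hBA.trans hAS)).toEquiv] at h1

variable {S : Subgroup G}

theorem R3.rank3 (hR : R3 p S) {A : Subgroup G} (hA : A ≤ S) : Rank3 p A := by
  intro A' B' hBA hcomm hpow
  have h := hR (A'.map A.subtype) (B'.map A.subtype) ((Subgroup.map_subtype_le A').trans hA)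
    (Subgroup.map_mono hBA) ?_ ?_
  · rwa [Subgroup.card_subtype, Subgroup.card_subtype] at h
  · rintro _ ⟨a, ha, rfl⟩ _ ⟨b, hb, rfl⟩
    rw [← map_commutatorElement]
    exact Subgroup.mem_map_of_mem _ (hcomm a ha b hb)
  · rintro _ ⟨a, ha, rfl⟩
    rw [← map_pow]
    exact Subgroup.mem_map_of_mem _ (hpow a ha)

theorem R3.card_elem (hR : R3 p S) {A : Subgroup G} (hA : A ≤ S)
    (hc : ∀ a ∈ A, ∀ b ∈ A, Commute a b) (hp' : ∀ a ∈ A, a ^ p = 1) : Nat.card A ≤ p ^ 3 := by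
  have h := hR A ⊥ hA bot_le (fun a ha b hb =>
    Subgroup.mem_bot.2 (commutatorElement_eq_one_iff_mul_comm.2 (hc a ha b hb)))
    fun a ha => Subgroup.mem_bot.2 (hp' a ha)
  rwa [Subgroup.card_bot, mul_one] at h

/-- An elementary abelian subgroup of order `p ^ 3` absorbs the elements of order `p` centralizing
it. -/
theorem R3.absorb [Finite S] (hR : R3 p S) {A : Subgroup G} (hA : A ≤ S)
    (hc : ∀ a ∈ A, ∀ b ∈ A, Commute a b) (hp' : ∀ a ∈ A, a ^ p = 1) (h3 : p ^ 3 ≤ Nat.card A)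
    {x : G} (hx : x ∈ S) (hxp : x ^ p = 1) (hxA : ∀ a ∈ A, Commute x a) : x ∈ A := by
  obtain ⟨hcc, hpp⟩ := closure_elem (p := p) (T := insert x (A : Set G)) (by
    rintro a (rfl | ha) b (rfl | hb)
    · exact Commute.refl _
    · exact hxA b hb
    · exact (hxA a ha).symm
    · exact hc a ha b hb) (by
    rintro a (rfl | ha)
    · exact hxp
    · exact hp' a ha)
  set B := Subgroup.closure (insert x (A : Set G)) with hB
  have hBS : B ≤ S := (Subgroup.closure_le _).2 (Set.insert_subset hx hA)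
  haveI : Finite B := Finite.of_injective _ (Subgroup.inclusion_injective hBS)
  have hAB : A ≤ B := fun a ha => Subgroup.subset_closure (Set.mem_insert_of_mem _ ha)
  rw [Subgroup.eq_of_le_of_card_ge hAB ((hR.card_elem hBS hcc hpp).trans h3)]
  exact Subgroup.subset_closure (Set.mem_insert _ _)

/-! ### The elements of order `p` in the centre -/

/-- The elements of order dividing `p` in the centre of `E`. -/
def om (p : ℕ) (E : Subgroup G) : Subgroup G where
  carrier := {x | x ∈ E ∧ x ^ p = 1 ∧ ∀ y ∈ E, Commute x y}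
  one_mem' := ⟨E.one_mem, one_pow p, fun y _ => Commute.one_left y⟩
  mul_mem' := fun {a b} ha hb => ⟨E.mul_mem ha.1 hb.1,
    by rw [(ha.2.2 b hb.1).mul_pow, ha.2.1, hb.2.1, one_mul],
    fun y hy => (ha.2.2 y hy).mul_left (hb.2.2 y hy)⟩
  inv_mem' := fun {a} ha => ⟨E.inv_mem ha.1, by rw [inv_pow, ha.2.1, inv_one],
    fun y hy => (ha.2.2 y hy).inv_left⟩

theorem mem_om {E : Subgroup G} {x : G} :
    x ∈ om p E ↔ x ∈ E ∧ x ^ p = 1 ∧ ∀ y ∈ E, Commute x y := Iff.rfl

theorem om_le (E : Subgroup G) : om p E ≤ E := fun _ h => h.1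

/-- If `M ≤ N` are normalized by the `p`-group `S` and `|N : M| = p`, then `[S, N] ≤ M`. -/
theorem comm_mem_of_index [Finite S] (hS : IsPGroup p S) {M N : Subgroup G} (hMN : M ≤ N)
    (hNS : N ≤ S) (hM : ∀ s ∈ S, ∀ m ∈ M, s * m * s⁻¹ ∈ M) (hN : ∀ s ∈ S, ∀ n ∈ N, s * n * s⁻¹ ∈ N)
    (hcard : Nat.card N ≤ p * Nat.card M) {s n : G} (hs : s ∈ S) (hn : n ∈ N) : ⁅s, n⁆ ∈ M := by
  rcases hMN.eq_or_lt with rfl | hlt
  · rw [commutatorElement_def]
    exact M.mul_mem (hN s hs n hn) (M.inv_mem hn)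
  have hcard' : Nat.card N = p * Nat.card M := le_antisymm hcard (mul_card_le hS hNS hlt)
  haveI hMn : (M.subgroupOf S).Normal := ⟨fun m hm g => hM g g.2 m hm⟩
  haveI hNn : (N.subgroupOf S).Normal := ⟨fun m hm g => hN g g.2 m hm⟩
  set f := QuotientGroup.mk' (M.subgroupOf S)
  set N' := N.subgroupOf S with hN'
  haveI : (N'.map f).Normal := Subgroup.Normal.map hNn f (QuotientGroup.mk'_surjective _)
  have hker : (f.comp N'.subtype).ker = (M.subgroupOf S).subgroupOf N' := by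
    rw [← MonoidHom.comap_ker, QuotientGroup.ker_mk']
    rfl
  have hc1 := (f.comp N'.subtype).ker.card_eq_card_quotient_mul_card_subgroup
  rw [Nat.card_congr (QuotientGroup.quotientKerEquivRange (f.comp N'.subtype)).toEquiv,
    MonoidHom.range_comp, Subgroup.range_subtype, hker,
    Nat.card_congr (Subgroup.subgroupOfEquivOfLe
      (show M.subgroupOf S ≤ N' from fun x hx => hMN hx)).toEquiv,
    Nat.card_congr (Subgroup.subgroupOfEquivOfLe (hMN.trans hNS)).toEquiv,
    show Nat.card N' = Nat.card N from Nat.card_congr (Subgroup.subgroupOfEquivOfLe hNS).toEquiv,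
    hcard'] at hc1
  have hc : Nat.card (N'.map f) = p := by
    haveI : Finite M := Finite.of_injective _ (Subgroup.inclusion_injective (hMN.trans hNS))
    exact (Nat.eq_of_mul_eq_mul_right Nat.card_pos hc1).symm
  have hcen := Grp.PSmall.le_center_of_card (hS.to_quotient _) (N'.map f) hc
    (Subgroup.mem_map_of_mem f (show (⟨n, hNS hn⟩ : S) ∈ N' from hn))
  have h1 : f ⁅(⟨s, hs⟩ : S), ⟨n, hNS hn⟩⁆ = 1 := by
    rw [map_commutatorElement, commutatorElement_eq_one_iff_mul_comm]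
    exact Subgroup.mem_center_iff.1 hcen _
  have h2 : ⁅(⟨s, hs⟩ : S), (⟨n, hNS hn⟩ : S)⁆ ∈ M.subgroupOf S := by
    rw [← QuotientGroup.ker_mk' (M.subgroupOf S), MonoidHom.mem_ker]
    exact h1
  exact Subgroup.mem_subgroupOf.1 h2

/-- A normalized nontrivial subgroup meets the centre of the `p`-group in an element of order
`p`. -/
theorem exists_om_of_normal [Finite S] (hS : IsPGroup p S) {N : Subgroup G} (hNS : N ≤ S)
    (hN : ∀ s ∈ S, ∀ n ∈ N, s * n * s⁻¹ ∈ N) (hne : N ≠ ⊥) : ∃ z ∈ N, z ∈ om p S ∧ z ≠ 1 := by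
  haveI := hS.isNilpotent
  haveI : (N.subgroupOf S).Normal := ⟨fun m hm g => hN g g.2 m hm⟩
  have hne' : N.subgroupOf S ≠ ⊥ := fun h => hne (by
    rw [← Subgroup.map_subgroupOf_eq_of_le hNS, h, Subgroup.map_bot])
  have hinf := Grp.inf_center_ne_bot _ hne'
  obtain ⟨w, hw⟩ : ∃ w : ↥(N.subgroupOf S ⊓ Subgroup.center S), orderOf w = p := by
    obtain ⟨k, hk⟩ := (hS.to_subgroup (N.subgroupOf S ⊓ Subgroup.center S)).exists_card_eq
    refine exists_prime_orderOf_dvd_card' p (hk ▸ dvd_pow_self p fun h0 => hinf ?_)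
    rw [h0, pow_zero] at hk
    exact Subgroup.card_eq_one.1 hk
  have hwN : ((w : S) : G) ∈ N := (Subgroup.mem_inf.1 w.2).1
  refine ⟨_, hwN, ⟨(w : S).2, ?_, fun y hy => ?_⟩, fun h => hp.out.ne_one ?_⟩
  · have := pow_orderOf_eq_one w
    rw [hw] at this
    exact congrArg (fun x : ↥(N.subgroupOf S ⊓ Subgroup.center S) => ((x : S) : G)) this
  · exact (congrArg Subtype.val (Subgroup.mem_center_iff.1 (Subgroup.mem_inf.1 w.2).2 ⟨y, hy⟩)).symm
  · rw [← hw, orderOf_eq_one_iff]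
    exact Subtype.ext (Subtype.ext h)

end Cfsg.Agent.Invol.EssNormal
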