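import Cfsg.Agent.Lib.Invol.EssNormal.Setting

/-!
# Images of essential subgroups under automorphisms of `S`
-/

set_option autoImplicit false
set_option linter.style.haveILetI false
set_option linter.unusedSectionVars false

universe u

namespace Cfsg.Agent.Invol.EssNormal

open Cfsg FusionSystem Cfsg.Agent.Fus

variable {Ω : Type u} [Group Ω] {S : Subgroup Ω} {p : ℕ} [hp : Fact p.Prime] {F : FusionSystem S}

theorem spe_map {G G' : Type u} [Group G] [Group G'] [Finite G] [Finite G'] (e : G ≃* G')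
    {Y : Subgroup G} (hY : Cfsg.IsStronglyPEmbedded p Y) :
    Cfsg.IsStronglyPEmbedded p (Y.map e.toMonoidHom) := by
  rw [Invol.isStronglyPEmbedded_iff] at hY ⊢
  obtain ⟨hd, hne, hcl⟩ := hY
  refine ⟨by rwa [Subgroup.card_map_of_injective e.injective], fun h => hne ?_, fun g hg hdvd => ?_⟩
  · exact Subgroup.map_injective e.injective (h.trans (Subgroup.map_top_of_surjective _ e.surjective).symm)
  · refine hcl (e.symm g) (fun h => hg ⟨_, h, e.apply_symm_apply g⟩) ?_
    have he : Y.map e.toMonoidHom ⊓ (Y.map e.toMonoidHom).map (MulAut.conj g).toMonoidHom =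
        (Y ⊓ Y.map (MulAut.conj (e.symm g)).toMonoidHom).map e.toMonoidHom := by
      rw [Subgroup.map_inf _ _ _ e.injective, Subgroup.map_map, Subgroup.map_map]
      congr 2
      refine MonoidHom.ext fun x => ?_
      simp [MulAut.conj_apply]
    rwa [he, Subgroup.card_map_of_injective e.injective] at hdvd

namespace Hyp

variable [Finite S] (H : Hyp F p) {E : Subgroup Ω} {β : MulAut S} (hβ : β ∈ F.autGroup S)
include H hβ

theorem isMap_top : IsMap F S (autFun β) := (mem_autGroup le_rfl).1 hβ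

theorem fimg_le_S' {A : Subgroup Ω} (hA : A ≤ S) : fimg (autFun β) A ≤ S :=
  ((H.isMap_top hβ).res hA).fimg_le_S

theorem fimg_inv {A : Subgroup Ω} (hA : A ≤ S) :
    fimg (autFun β⁻¹) (fimg (autFun β) A) = A := by
  refine le_antisymm (fimg_le fun y hy => ?_) fun x hx => ?_
  · obtain ⟨x, hx, rfl⟩ := ((H.isMap_top hβ).res hA).mem_fimg_iff.1 hy
    rwa [autFun_inv_apply β (hA hx)]
  · have h := apply_mem_fimg (autFun β⁻¹) (apply_mem_fimg (autFun β) hx)
    rwa [autFun_inv_apply β (hA hx)] at h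

theorem fimg_normal {A : Subgroup Ω} (hA : A ≤ S) (hn : ∀ s ∈ S, ∀ x ∈ A, s * x * s⁻¹ ∈ A)
    {s x : Ω} (hs : s ∈ S) (hx : x ∈ fimg (autFun β) A) :
    s * x * s⁻¹ ∈ fimg (autFun β) A := by
  obtain ⟨a, ha, rfl⟩ := ((H.isMap_top hβ).res hA).mem_fimg_iff.1 hx
  have hs' : autFun β⁻¹ s ∈ S := autFun_mem _ hs
  rw [← af_apply_inv β hs, ← af_inv β hs', ← af_mul β hs' (hA ha),
    ← af_mul β (S.mul_mem hs' (hA ha)) (S.inv_mem hs')]
  exact apply_mem_fimg _ (hn _ hs' a ha)

theorem essential_map (hE : F.IsEssential p E) : F.IsEssential p (fimg (autFun β) E) := by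
  classical
  obtain ⟨⟨hES, hc⟩, -, hI, Y, hY⟩ := id hE
  haveI := hI
  set Q := fimg (autFun β) E with hQ
  have hf := (H.isMap_top hβ).res hES
  have hQS : Q ≤ S := hf.fimg_le_S
  have hcon : F.IsConj E Q := hf.isConj
  have hQn : S ≤ Subgroup.normalizer (Q : Set Ω) := fun s hs =>
    mem_normalizer_of_forall (fun x hx => H.fimg_normal hβ hES (fun t ht y hy =>
      H.conj_mem hE ht hy) hs hx) fun x hx => by
      have := H.fimg_normal hβ hES (fun t ht y hy => H.conj_mem hE ht hy) (S.inv_mem hs) hx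
      rwa [inv_inv] at this
  haveI : Finite (normalizerIn S Q) := finite_of_le (S := S) inf_le_left
  refine ⟨⟨hQS, fun R hR => hc R (isConj_trans hcon hR)⟩,
    ⟨hQS, fun R _ => (Subgroup.card_le_of_le (inf_le_left : normalizerIn S R ≤ S)).trans
      (Subgroup.card_le_of_le (le_inf le_rfl hQn))⟩, ?_⟩
  obtain ⟨e, he, heA⟩ := exists_mulEquiv hf rfl
  haveI := finite_of_le hES
  haveI := finite_of_le hQS
  haveI : Finite (MulAut E) :=
    Finite.of_injective (fun e : MulAut E => (e : E → E)) DFunLike.coe_injective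
  haveI : Finite (MulAut Q) :=
    Finite.of_injective (fun e : MulAut Q => (e : Q → Q)) DFunLike.coe_injective
  have hmap : (F.autGroup E).map (MulAut.congr e).toMonoidHom = F.autGroup Q := by
    refine le_antisymm ?_ fun γ hγ => ?_
    · rintro _ ⟨α, hα, rfl⟩
      exact (heA α).1 hα
    · exact ⟨(MulAut.congr e).symm γ, (heA _).2 (by rw [MulEquiv.apply_symm_apply]; exact hγ),
        (MulAut.congr e).apply_symm_apply γ⟩
  let g : F.autGroup E ≃* F.autGroup Q :=
    ((MulAut.congr e).subgroupMap (F.autGroup E)).trans (MulEquiv.subgroupCongr hmap)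
  have hinn : ((Inn E).subgroupOf (F.autGroup E)).map g.toMonoidHom =
      (Inn Q).subgroupOf (F.autGroup Q) := by
    ext γ
    constructor
    · rintro ⟨α, ⟨u, hu⟩, rfl⟩
      refine ⟨e u, MulEquiv.ext fun y => ?_⟩
      show MulAut.conj (e u) y = MulAut.congr e (α : MulAut E) y
      rw [show (α : MulAut E) = MulAut.conj u from hu.symm]
      simp [MulAut.congr, MulAut.conj_apply]
    · rintro ⟨u, hu⟩
      refine ⟨g.symm γ, ⟨e.symm u, MulEquiv.ext fun y => ?_⟩, g.apply_symm_apply γ⟩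
      have h1 : MulAut.congr e ((g.symm γ : F.autGroup E) : MulAut E) = (γ : MulAut Q) :=
        congrArg Subtype.val (g.apply_symm_apply γ)
      have h2 := DFunLike.congr_fun (h1.trans hu.symm) (e y)
      simp [MulAut.congr, MulAut.conj_apply] at h2
      show MulAut.conj (e.symm u) y = ((g.symm γ : F.autGroup E) : MulAut E) y
      refine e.injective ?_
      simp [MulAut.conj_apply, h2]
  haveI hn : ((Inn Q).subgroupOf (F.autGroup Q)).Normal :=
    hinn ▸ Subgroup.Normal.map hI g.toMonoidHom g.surjective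
  exact ⟨hn, _, spe_map (QuotientGroup.congr _ _ g hinn) hY⟩

theorem inv_map (hE : F.IsEssential p E) {N : Subgroup Ω} (hN : N ≤ E) (h : Inv F E N) :
    Inv F (fimg (autFun β) E) (fimg (autFun β) N) := by
  have hES := H.le hE
  set Q := fimg (autFun β) E with hQ
  have hQS : Q ≤ S := H.fimg_le_S' hβ hES
  intro γ hγ x hx
  obtain ⟨n, hn, rfl⟩ := ((H.isMap_top hβ).res (hN.trans hES)).mem_fimg_iff.1 hx
  have hb : IsMap F S (autFun β⁻¹) := H.isMap_top (inv_mem hβ)
  have hcomp : IsMap F E (fun y => autFun β⁻¹ (autFun γ (autFun β y))) :=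
    (((H.isMap_top hβ).res hES).comp ((mem_autGroup hQS).1 hγ)
      fun y hy => apply_mem_fimg _ hy).comp (hb.res hQS)
      fun y hy => autFun_mem γ (apply_mem_fimg _ hy)
  haveI := finite_of_le hES
  have hfix : fimg (fun y => autFun β⁻¹ (autFun γ (autFun β y))) E = E := by
    refine Subgroup.eq_of_le_of_card_ge (fimg_le fun y hy => ?_) hcomp.card_fimg.ge
    have h1 := apply_mem_fimg (autFun β⁻¹) (autFun_mem γ (apply_mem_fimg (autFun β) hy (P := E)))
    rwa [H.fimg_inv hβ hES] at h1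
  obtain ⟨α, hα, hαe⟩ := hcomp.exists_aut hfix
  have h2 := h α hα n hn
  rw [hαe n (hN hn)] at h2
  have h3 := apply_mem_fimg (autFun β) h2
  rwa [af_apply_inv β (hQS (autFun_mem γ (apply_mem_fimg _ (hN hn))))] at h3

theorem fimg_omS : fimg (autFun β) (om p S) = om p S := by
  haveI := finite_of_le (om_le (p := p) S)
  exact Subgroup.eq_of_le_of_card_ge (fimg_le fun x hx => inv_om S β hβ x hx)
    ((H.isMap_top hβ).res (om_le S)).card_fimg.ge

theorem nt_map (hE : Nt F p E) : Nt F p (fimg (autFun β) E) := by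
  refine ⟨H.essential_map hβ hE.1, fun h => hE.2 ?_⟩
  have h1 := H.inv_map (inv_mem hβ) (H.essential_map hβ hE.1)
    (H.omS_le (H.essential_map hβ hE.1)) h
  rwa [H.fimg_inv hβ (H.le hE.1), H.fimg_omS (inv_mem hβ)] at h1

theorem om_map (hE : E ≤ S) {x : Ω} (hx : x ∈ om p E) :
    autFun β x ∈ om p (fimg (autFun β) E) := by
  have hf := (H.isMap_top hβ).res hE
  refine ⟨apply_mem_fimg _ hx.1, by rw [← af_pow β (hE hx.1), hx.2.1, af_one], fun y hy => ?_⟩
  obtain ⟨e, he, rfl⟩ := hf.mem_fimg_iff.1 hy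
  exact af_commute β (hE hx.1) (hE he) (hx.2.2 e he)

end Hyp

end Cfsg.Agent.Invol.EssNormal
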